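import Mathlib
import Cfsg.Agent.Lib.Grp.Signalizer
import Cfsg.Agent.Lib.Grp.HallHigmanAction
import Cfsg.Agent.Lib.Grp.Frattini

/-!
Operators of prime order without fixed points on a group acting coprimely: norm arguments.

The key device: if `b` acts without fixed points on `Γ`, then the sum over the conjugates
`γ b^i γ⁻¹` collapses to a multiple of the identity modulo the fixed points of `Γ`.
-/

set_option autoImplicit false
set_option linter.unusedSectionVars false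

namespace Cfsg.Agent.Transfer.SFT

open Subgroup
open scoped commutatorElement

section Module

variable {M V : Type*} [Group M] [Finite M] [CommGroup V] [Finite V] [MulDistribMulAction M V]

/-- The fixed points of `Γ` in a module. -/
def modFixed (Γ : Subgroup M) : Subgroup V where
  carrier := {v | ∀ γ ∈ Γ, γ • v = v}
  one_mem' := fun γ _ => smul_one γ
  mul_mem' := fun {a b} ha hb γ hγ => by rw [smul_mul', ha γ hγ, hb γ hγ]
  inv_mem' := fun {a} ha γ hγ => by rw [smul_inv', ha γ hγ]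

theorem mem_modFixed {Γ : Subgroup M} {v : V} : v ∈ modFixed Γ ↔ ∀ γ ∈ Γ, γ • v = v := Iff.rfl

/-- The norm of `Γ` twisted by a fixed-point-free operator lies in the fixed points. -/
theorem twisted_norm_mem (Γ : Subgroup M) [Fintype Γ] (c : M) (hn : ∀ γ ∈ Γ, c * γ * c⁻¹ ∈ Γ)
    (hfpf : ∀ γ ∈ Γ, c * γ * c⁻¹ = γ → γ = 1) (v : V) :
    ∏ γ : Γ, ((γ : M) * c * (γ : M)⁻¹) • v ∈ modFixed Γ := by
  let ψ : Γ → Γ := fun γ => ⟨(γ : M) * (c * (γ : M)⁻¹ * c⁻¹), mul_mem γ.2 (hn _ (inv_mem γ.2))⟩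
  have hψ : Function.Injective ψ := by
    intro x y h
    have h0 : (x : M) * (c * (x : M)⁻¹ * c⁻¹) = (y : M) * (c * (y : M)⁻¹ * c⁻¹) :=
      congrArg Subtype.val h
    have h1 : c * ((y : M)⁻¹ * x) * c⁻¹ = (y : M)⁻¹ * x := by
      calc c * ((y : M)⁻¹ * x) * c⁻¹
          = (y : M)⁻¹ * ((y : M) * (c * (y : M)⁻¹ * c⁻¹)) * (c * (x : M) * c⁻¹) := by group
        _ = (y : M)⁻¹ * ((x : M) * (c * (x : M)⁻¹ * c⁻¹)) * (c * (x : M) * c⁻¹) := by rw [h0]
        _ = _ := by group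
    exact Subtype.ext (inv_mul_eq_one.mp (hfpf _ (mul_mem (inv_mem y.2) x.2) h1)).symm
  have hbij : Function.Bijective ψ := Finite.injective_iff_bijective.mp hψ
  have e : ∏ γ : Γ, ((γ : M) * c * (γ : M)⁻¹) • v = ∏ δ : Γ, (δ : M) • (c • v) := by
    rw [← Fintype.prod_bijective ψ hbij (fun γ => ((ψ γ : M)) • (c • v)) (fun δ => (δ : M) • (c • v)) (fun γ => rfl)]
    refine Finset.prod_congr rfl fun γ _ => ?_
    rw [smul_smul]
    congr 1
    simp only [ψ]
    group
  rw [e]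
  intro g hg
  rw [Finset.smul_prod']
  refine Fintype.prod_equiv (Equiv.mulLeft (⟨g, hg⟩ : Γ)) _ _ fun δ => ?_
  show g • (δ : M) • c • v = (g * (δ : M)) • c • v
  rw [smul_smul g (δ : M)]

theorem fix_pow {p : ℕ} [hp : Fact p.Prime] {b γ : M} (hb : b ^ p = 1) {i : ℕ} (hi0 : i ≠ 0)
    (hip : i < p) (h : b ^ i * γ * (b ^ i)⁻¹ = γ) : b * γ * b⁻¹ = γ := by
  let S : Subgroup M := centralizer ({γ} : Set M)
  have hS : ∀ x, x ∈ S ↔ γ * x = x * γ := fun x => by
    rw [mem_centralizer_iff]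
    exact ⟨fun h => h γ rfl, fun h y hy => by rw [Set.mem_singleton_iff] at hy; subst hy; exact h⟩
  have h1 : b ^ i ∈ S := (hS _).mpr (mul_inv_eq_iff_eq_mul.mp h).symm
  have hg : Nat.gcd i p = 1 := ((Nat.Prime.coprime_iff_not_dvd hp.out).mpr
    fun hd => absurd (Nat.le_of_dvd (Nat.pos_of_ne_zero hi0) hd) (not_le.mpr hip)).symm
  have hmem : b ∈ S := by
    have e : b = (b ^ i) ^ (Nat.gcdA i p) * ((b ^ p) ^ (Nat.gcdB i p)) := by
      rw [← zpow_natCast, ← zpow_natCast, ← zpow_mul, ← zpow_mul, ← zpow_add,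
        ← Nat.gcd_eq_gcd_ab, hg, Nat.cast_one, zpow_one]
    rw [e, hb, one_zpow, mul_one]
    exact zpow_mem h1 _
  rw [← (hS b).mp hmem, mul_inv_cancel_right]

theorem orbit_fixed {p : ℕ} [hp : Fact p.Prime] {b : M} (hb : b ^ p = 1) (u : V) :
    b • (∏ i ∈ Finset.range p, b ^ i • u) = ∏ i ∈ Finset.range p, b ^ i • u := by
  rw [Finset.smul_prod']
  simp only [smul_smul, ← pow_succ']
  have h1 := Finset.prod_range_succ (fun i => b ^ i • u) p
  have h2 := Finset.prod_range_succ' (fun i => b ^ i • u) p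
  rw [h1, hb, pow_zero] at h2
  exact (mul_right_cancel h2).symm

theorem surjective_pow_card {Γ : Subgroup M} (hcop : (Nat.card Γ).Coprime (Nat.card V)) (w : V) :
    ∃ v : V, v ^ Nat.card Γ = w :=
  (powCoprime hcop.symm).surjective w

/-- A fixed-point-free operator: `Γ` centralizing the fixed points centralizes everything. -/
theorem smul_eq_of_fpf {p : ℕ} [hp : Fact p.Prime] (Γ : Subgroup M) (b : M) (hb : b ^ p = 1)
    (hn : ∀ γ ∈ Γ, b * γ * b⁻¹ ∈ Γ) (hfpf : ∀ γ ∈ Γ, b * γ * b⁻¹ = γ → γ = 1)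
    (hcop : (Nat.card Γ).Coprime (Nat.card V)) (hfix : ∀ v : V, b • v = v → v ∈ modFixed Γ) :
    ∀ v : V, v ∈ modFixed Γ := by
  have _ : Fintype Γ := Fintype.ofFinite Γ
  intro w
  obtain ⟨v, rfl⟩ := surjective_pow_card hcop w
  have hpow : ∀ i : ℕ, ∀ γ ∈ Γ, b ^ i * γ * (b ^ i)⁻¹ ∈ Γ := by
    intro i
    induction i with
    | zero => intro γ hγ; simpa using hγ
    | succ i ih => intro γ hγ; simpa [pow_succ', mul_assoc] using hn _ (ih γ hγ)
  have hP : ∏ γ : Γ, ∏ i ∈ Finset.range p, ((γ : M) * b ^ i * (γ : M)⁻¹) • v ∈ modFixed Γ := by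
    refine Subgroup.prod_mem _ fun γ _ => ?_
    have hw := hfix _ (orbit_fixed (p := p) hb ((γ : M)⁻¹ • v))
    have e : ∏ i ∈ Finset.range p, ((γ : M) * b ^ i * (γ : M)⁻¹) • v =
        (γ : M) • ∏ i ∈ Finset.range p, b ^ i • ((γ : M)⁻¹ • v) := by
      rw [Finset.smul_prod']
      exact Finset.prod_congr rfl fun i _ => by rw [mul_smul, mul_smul]
    rw [e, hw γ γ.2]
    exact hw
  rw [Finset.prod_comm, ← Finset.prod_erase_mul _ _ (Finset.mem_range.mpr hp.out.pos)] at hP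
  have h0 : ∏ γ : Γ, ((γ : M) * b ^ 0 * (γ : M)⁻¹) • v = v ^ Nat.card Γ := by
    simp [Nat.card_eq_fintype_card]
  rw [h0, Subgroup.mul_mem_cancel_left] at hP
  · exact hP
  · refine Subgroup.prod_mem _ fun i hi => ?_
    rw [Finset.mem_erase, Finset.mem_range] at hi
    exact twisted_norm_mem Γ (b ^ i) (hpow i)
      (fun γ hγ h => hfpf γ hγ (fix_pow hb hi.1 hi.2 h)) v

/-- A second operator `z`: commutators with `z` centralize everything. -/
theorem smul_commutator_eq_of_fpf {p : ℕ} [hp : Fact p.Prime] (Γ : Subgroup M)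
    (habel : ∀ x ∈ Γ, ∀ y ∈ Γ, x * y = y * x) (b z : M) (hb : b ^ p = 1)
    (hn : ∀ γ ∈ Γ, b * γ * b⁻¹ ∈ Γ) (hnz : ∀ γ ∈ Γ, z * γ * z⁻¹ ∈ Γ) (hbz : Commute b z)
    (hz : (orderOf z).Coprime p) (hfpf : ∀ γ ∈ Γ, b * γ * b⁻¹ = γ → γ = 1)
    (hcop : (Nat.card Γ).Coprime (Nat.card V))
    (hfix : ∀ v : V, b • v = v → (z • v) / v ∈ modFixed Γ) :
    ∀ γ ∈ Γ, ∀ v : V, ⁅γ, z⁆ • v = v := by
  have _ : Fintype Γ := Fintype.ofFinite Γ
  intro γ₀ hγ₀ w
  obtain ⟨v, rfl⟩ := surjective_pow_card hcop w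
  have hpow : ∀ i : ℕ, ∀ γ ∈ Γ, b ^ i * γ * (b ^ i)⁻¹ ∈ Γ := by
    intro i
    induction i with
    | zero => intro γ hγ; simpa using hγ
    | succ i ih => intro γ hγ; simpa [pow_succ', mul_assoc] using hn _ (ih γ hγ)
  -- fixed-point-freeness of `b ^ i * z`
  have hfix2 : ∀ i, i ≠ 0 → i < p → ∀ γ ∈ Γ, b ^ i * z * γ * (b ^ i * z)⁻¹ = γ → γ = 1 := by
    intro i hi0 hip γ hγ h
    have h1 : ∀ k : ℕ, (b ^ i * z) ^ k * γ * ((b ^ i * z) ^ k)⁻¹ = γ := by
      intro k
      induction k with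
      | zero => simp
      | succ k ih =>
        rw [pow_succ', mul_inv_rev]
        calc b ^ i * z * (b ^ i * z) ^ k * γ * (((b ^ i * z) ^ k)⁻¹ * (b ^ i * z)⁻¹)
            = b ^ i * z * ((b ^ i * z) ^ k * γ * ((b ^ i * z) ^ k)⁻¹) * (b ^ i * z)⁻¹ := by group
          _ = γ := by rw [ih, h]
    have h2 := h1 (orderOf z)
    rw [(hbz.pow_left i).mul_pow, pow_orderOf_eq_one, mul_one, ← pow_mul] at h2
    rw [pow_eq_pow_mod _ hb] at h2
    refine hfpf γ hγ (fix_pow hb ?_ (Nat.mod_lt _ hp.out.pos) h2)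
    intro hd
    rcases hp.out.dvd_mul.mp (Nat.dvd_of_mod_eq_zero hd) with h3 | h3
    · exact absurd (Nat.le_of_dvd (Nat.pos_of_ne_zero hi0) h3) (not_le.mpr hip)
    · exact hp.out.one_lt.ne' (Nat.eq_one_of_dvd_coprimes hz h3 dvd_rfl)
  set R := Finset.range p
  have hP : (∏ γ : Γ, ∏ i ∈ R, ((γ : M) * (b ^ i * z) * (γ : M)⁻¹) • v) /
      (∏ γ : Γ, ∏ i ∈ R, ((γ : M) * b ^ i * (γ : M)⁻¹) • v) ∈ modFixed Γ := by
    rw [← Finset.prod_div_distrib]
    refine Subgroup.prod_mem _ fun γ _ => ?_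
    set u := (γ : M)⁻¹ • v
    have hw := hfix _ (orbit_fixed (p := p) hb u)
    have e1 : ∏ i ∈ R, ((γ : M) * (b ^ i * z) * (γ : M)⁻¹) • v =
        (γ : M) • (z • ∏ i ∈ R, b ^ i • u) := by
      rw [Finset.smul_prod', Finset.smul_prod']
      exact Finset.prod_congr rfl fun i _ => by
        rw [(hbz.pow_left i).eq, mul_smul, mul_smul, mul_smul]
    have e2 : ∏ i ∈ R, ((γ : M) * b ^ i * (γ : M)⁻¹) • v =
        (γ : M) • ∏ i ∈ R, b ^ i • u := by
      rw [Finset.smul_prod']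
      exact Finset.prod_congr rfl fun i _ => by rw [mul_smul, mul_smul]
    rw [e1, e2, ← smul_div', hw γ γ.2]
    exact hw
  rw [Finset.prod_comm (s := Finset.univ), Finset.prod_comm (s := Finset.univ),
    ← Finset.prod_erase_mul _ _ (Finset.mem_range.mpr hp.out.pos),
    ← Finset.prod_erase_mul _ _ (Finset.mem_range.mpr hp.out.pos), mul_div_mul_comm,
    Subgroup.mul_mem_cancel_left] at hP
  swap
  · refine Subgroup.div_mem _ (Subgroup.prod_mem _ fun i hi => ?_) (Subgroup.prod_mem _ fun i hi => ?_)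
    · rw [Finset.mem_erase, Finset.mem_range] at hi
      refine twisted_norm_mem Γ (b ^ i * z) (fun γ hγ => ?_) (hfix2 i hi.1 hi.2) v
      convert hpow i _ (hnz γ hγ) using 1
      group
    · rw [Finset.mem_erase, Finset.mem_range] at hi
      exact twisted_norm_mem Γ (b ^ i) (hpow i)
        (fun γ hγ h => hfpf γ hγ (fix_pow hb hi.1 hi.2 h)) v
  -- the term `i = 0`
  have hB : ∏ γ : Γ, ((γ : M) * b ^ 0 * (γ : M)⁻¹) • v = v ^ Nat.card Γ := by
    simp [Nat.card_eq_fintype_card]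
  rw [hB] at hP
  simp only [pow_zero, one_mul] at hP
  set N := ∏ γ : Γ, ((γ : M) * z * (γ : M)⁻¹) • v
  have hxmem : ⁅γ₀, z⁆ ∈ Γ := by
    rw [commutatorElement_def, mul_assoc, mul_assoc, ← mul_assoc z γ₀⁻¹]
    exact mul_mem hγ₀ (hnz _ (inv_mem hγ₀))
  have hxN : ⁅γ₀, z⁆ • N = N := by
    rw [Finset.smul_prod']
    refine Fintype.prod_equiv (Equiv.mulLeft (⟨γ₀, hγ₀⟩ : Γ)) _ _ fun γ => ?_
    show ⁅γ₀, z⁆ • ((γ : M) * z * (γ : M)⁻¹) • v = (γ₀ * (γ : M) * z * (γ₀ * (γ : M))⁻¹) • v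
    rw [smul_smul]
    congr 1
    have hc : z * γ₀⁻¹ * z⁻¹ * (γ : M) = (γ : M) * (z * γ₀⁻¹ * z⁻¹) :=
      habel _ (hnz _ (inv_mem hγ₀)) _ γ.2
    calc ⁅γ₀, z⁆ * ((γ : M) * z * (γ : M)⁻¹)
        = γ₀ * (z * γ₀⁻¹ * z⁻¹ * (γ : M)) * z * (γ : M)⁻¹ := by rw [commutatorElement_def]; group
      _ = γ₀ * ((γ : M) * (z * γ₀⁻¹ * z⁻¹)) * z * (γ : M)⁻¹ := by rw [hc]
      _ = γ₀ * (γ : M) * z * (γ₀⁻¹ * (γ : M)⁻¹) := by group
      _ = γ₀ * (γ : M) * z * ((γ : M) * γ₀)⁻¹ := by rw [mul_inv_rev]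
      _ = _ := by rw [habel (γ : M) γ.2 γ₀ hγ₀]
  have h := hP _ hxmem
  rw [smul_div', hxN] at h
  exact div_right_injective h

end Module

/-! ### The action on an abelianization -/

section Group

variable {G : Type*} [Group G]

/-- Automorphisms induce automorphisms of the abelianization. -/
def abAut (V : Type*) [Group V] : MulAut V →* MulAut (Abelianization V) where
  toFun e := e.abelianizationCongr
  map_one' := MulEquiv.ext fun x => QuotientGroup.induction_on x fun _ => rfl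
  map_mul' _ _ := MulEquiv.ext fun x => QuotientGroup.induction_on x fun _ => rfl

/-- Conjugation on the abelianization of a subgroup. -/
@[reducible] def abAction (V : Subgroup G) :
    MulDistribMulAction (normalizer (V : Set G)) (Abelianization V) :=
  MulDistribMulAction.compHom _ ((abAut ↥V).comp V.normalizerMonoidHom)

theorem abAction_of (V : Subgroup G) (n : normalizer (V : Set G)) (v : V) :
    letI := abAction V
    n • (Abelianization.of v) =
      Abelianization.of (⟨(n : G) * v * (n : G)⁻¹, Grp.mem_conj_normalizer n.2 v.2⟩ : V) := rfl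

theorem of_eq_iff (V : Subgroup G) (u v : V) :
    Abelianization.of u = Abelianization.of v ↔ (u : G)⁻¹ * v ∈ ⁅V, V⁆ := by
  rw [← Subgroup.map_subtype_commutator]
  refine (QuotientGroup.eq (s := commutator ↥V)).trans ⟨fun h => ⟨_, h, rfl⟩, ?_⟩
  rintro ⟨x, hx, hxe⟩
  rwa [show u⁻¹ * v = x from Subtype.ext hxe.symm]

theorem commutator_normal_of {A V : Subgroup G} (h : A ≤ normalizer (V : Set G)) :
    A ≤ normalizer ((⁅V, V⁆ : Subgroup G) : Set G) := fun a ha => by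
  rw [Grp.mem_normalizer_iff_smul, ← Grp.map_conj_eq_smul, Subgroup.map_commutator,
    Grp.map_conj_eq_smul, Grp.mem_normalizer_iff_smul.mp (h ha)]

theorem conj_commutator_powers {N : Subgroup G} {b k : G} (hbN : b ∈ normalizer (N : Set G))
    (h : b * k * b⁻¹ * k⁻¹ ∈ N) : ∀ a ∈ zpowers b, a * k * a⁻¹ * k⁻¹ ∈ N := by
  let S : Subgroup G :=
    { carrier := {a | a ∈ normalizer (N : Set G) ∧ a * k * a⁻¹ * k⁻¹ ∈ N}
      one_mem' := ⟨one_mem _, by simp⟩
      mul_mem' := fun {a c} ha hc => ⟨mul_mem ha.1 hc.1, by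
        convert mul_mem (Grp.mem_conj_normalizer ha.1 hc.2) ha.2 using 1
        group⟩
      inv_mem' := fun {a} ha => ⟨inv_mem ha.1, by
        convert inv_mem (Grp.mem_conj_normalizer' ha.1 ha.2) using 1
        group⟩ }
  exact fun a ha => (zpowers_le.mpr (show b ∈ S from ⟨hbN, h⟩) ha).2

theorem coprime_zpowers [Finite G] {p : ℕ} [hp : Fact p.Prime] {b : G} (hb : b ^ p = 1) {V : Subgroup G}
    (h : ¬ p ∣ Nat.card V) : (Nat.card (zpowers b)).Coprime (Nat.card V) := by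
  rw [Nat.card_zpowers]
  exact ((hp.out.coprime_iff_not_dvd).mpr h).coprime_dvd_left (orderOf_dvd_of_pow_eq_one hb)

/-- Lifting the fixed points of an element of order dividing `p`. -/
theorem exists_fixed_rep_one [Finite G] {p : ℕ} [hp : Fact p.Prime] {b : G} (hb : b ^ p = 1)
    {K N : Subgroup G} (hpK : ¬ p ∣ Nat.card K) (hbK : b ∈ normalizer (K : Set G))
    (hNK : N ≤ K) (hKN : K ≤ normalizer (N : Set G)) (hbN : b ∈ normalizer (N : Set G))
    {k : G} (hk : k ∈ K) (h : b * k * b⁻¹ * k⁻¹ ∈ N) :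
    ∃ c ∈ K ⊓ centralizer ({b} : Set G), k⁻¹ * c ∈ N := by
  have hc := coprime_zpowers hb hpK
  obtain ⟨c, hc', hkc⟩ := Grp.exists_fixed_rep (zpowers b) K N (zpowers_le.mpr hbK)
    (Grp.inf_eq_bot_of_coprime hc) (hc.coprime_dvd_right (card_dvd_of_le hNK))
    (Or.inl inferInstance) hNK hKN (zpowers_le.mpr hbN) hk (conj_commutator_powers hbN h)
  exact ⟨c, ⟨hc'.1, by rw [Grp.centralizer_singleton_eq_zpowers]; exact hc'.2⟩, hkc⟩

theorem mem_centralizer_one {b x : G} :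
    x ∈ centralizer ({b} : Set G) ↔ b * x * b⁻¹ = x := by
  rw [mem_centralizer_iff]
  exact ⟨fun h => by rw [h b rfl, mul_inv_cancel_right],
    fun h y hy => by rw [Set.mem_singleton_iff] at hy; subst hy; exact mul_inv_eq_iff_eq_mul.mp h⟩

/-- A group of coprime order centralizing the fixed points of a fixed-point-free operator on it. -/
theorem le_centralizer_of_fpf [Finite G] {p : ℕ} [hp : Fact p.Prime] (Γ : Subgroup G) {b : G}
    (hb : b ^ p = 1) (hbΓ : b ∈ normalizer (Γ : Set G)) (hfpf : Γ ⊓ centralizer ({b} : Set G) = ⊥) :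
    ∀ V : Subgroup G, Group.IsSolvable V → ¬ p ∣ Nat.card V →
      (Nat.card Γ).Coprime (Nat.card V) → b ∈ normalizer (V : Set G) →
      Γ ≤ normalizer (V : Set G) → V ⊓ centralizer ({b} : Set G) ≤ centralizer (Γ : Set G) →
      Γ ≤ centralizer (V : Set G) := by
  intro V
  induction V using (wellFounded_lt (α := Subgroup G)).induction with
  | _ V ih =>
  intro hV hpV hcop hbV hΓV hfix
  rcases eq_or_ne V ⊥ with rfl | hV1
  · intro x _
    simp [mem_centralizer_iff]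
  have hW : ⁅V, V⁆ ≤ V := Subgroup.commutator_le_self V
  have hbW : b ∈ normalizer ((⁅V, V⁆ : Subgroup G) : Set G) :=
    commutator_normal_of (zpowers_le.mpr hbV) (mem_zpowers b)
  have h2 := ih _ (Grp.commutator_lt_self_of_solvable hV hV1) (Grp.isSolvable_of_le hW hV)
    (fun h => hpV (h.trans (card_dvd_of_le hW))) (hcop.coprime_dvd_right (card_dvd_of_le hW))
    hbW (commutator_normal_of hΓV) ((inf_le_inf_right _ hW).trans hfix)
  refine Grp.le_centralizer_of_series Γ V ⁅V, V⁆ hΓV hcop (Or.inr hV) ?_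
    (by rw [commutator_comm]; exact commutator_eq_bot_iff_le_centralizer.mpr h2)
  let N := normalizer (V : Set G)
  letI := abAction V
  have key := smul_eq_of_fpf (V := Abelianization ↥V) (p := p) (Γ.subgroupOf N) ⟨b, hbV⟩
    (Subtype.ext hb) (fun γ hγ => mem_subgroupOf.mpr (Grp.mem_conj_normalizer hbΓ (mem_subgroupOf.mp hγ)))
    (fun γ hγ h => Subtype.ext ((Subgroup.eq_bot_iff_forall _).mp hfpf _
      ⟨mem_subgroupOf.mp hγ, mem_centralizer_one.mpr (congrArg Subtype.val h)⟩))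
    (by
      rw [Nat.card_congr (subgroupOfEquivOfLe hΓV).toEquiv]
      exact hcop.coprime_dvd_right (Subgroup.card_quotient_dvd_card (commutator ↥V)))
    (fun v hv => by
      revert hv
      refine QuotientGroup.induction_on v fun u hu => ?_
      have hu' := (of_eq_iff V _ _).mp (hu.symm)
      have h1 : b * (u : G) * b⁻¹ * (u : G)⁻¹ ∈ ⁅V, V⁆ := by
        have hn : (u : G) ∈ normalizer ((⁅V, V⁆ : Subgroup G) : Set G) :=
          commutator_normal_of le_normalizer u.2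
        change (u : G)⁻¹ * (b * u * b⁻¹) ∈ ⁅V, V⁆ at hu'
        convert Grp.mem_conj_normalizer hn hu' using 1
        group
      obtain ⟨c, hc, hkc⟩ := exists_fixed_rep_one hb hpV hbV hW
        (commutator_normal_of le_normalizer) hbW u.2 h1
      intro γ hγ
      have e : Abelianization.of u = Abelianization.of (⟨c, hc.1⟩ : V) := (of_eq_iff V _ _).mpr hkc
      show γ • Abelianization.of u = Abelianization.of u
      rw [e, abAction_of]
      congr 1
      refine Subtype.ext ?_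
      show (γ : G) * c * (γ : G)⁻¹ = c
      rw [mem_centralizer_iff.mp (hfix hc) _ (mem_subgroupOf.mp hγ), mul_inv_cancel_right])
  rw [commutator_le]
  intro v hv γ hγ
  have h := key (Abelianization.of ⟨v, hv⟩) ⟨γ, hΓV hγ⟩ (mem_subgroupOf.mpr hγ)
  rw [abAction_of, of_eq_iff] at h
  convert (commutator_normal_of (le_normalizer (H := V)) hv |> fun hn => Grp.mem_conj_normalizer hn
    h) using 1
  rw [commutatorElement_def]
  group

/-- The variant with a second operator. -/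
theorem commutator_mem_centralizer_of_fpf [Finite G] {p : ℕ} [hp : Fact p.Prime] (Γ : Subgroup G)
    (habel : ∀ x ∈ Γ, ∀ y ∈ Γ, x * y = y * x) {b z : G}
    (hb : b ^ p = 1) (hbΓ : b ∈ normalizer (Γ : Set G)) (hzΓ : z ∈ normalizer (Γ : Set G))
    (hbz : Commute b z) (hz : (orderOf z).Coprime p)
    (hfpf : Γ ⊓ centralizer ({b} : Set G) = ⊥) :
    ∀ V : Subgroup G, Group.IsSolvable V → ¬ p ∣ Nat.card V →
      (Nat.card Γ).Coprime (Nat.card V) → b ∈ normalizer (V : Set G) →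
      z ∈ normalizer (V : Set G) → Γ ≤ normalizer (V : Set G) →
      (∀ u ∈ V ⊓ centralizer ({b} : Set G), ⁅z, u⁆ ∈ centralizer (Γ : Set G)) →
      ∀ γ ∈ Γ, ⁅γ, z⁆ ∈ centralizer (V : Set G) := by
  intro V
  induction V using (wellFounded_lt (α := Subgroup G)).induction with
  | _ V ih =>
  intro hV hpV hcop hbV hzV hΓV hfix γ₀ hγ₀
  rcases eq_or_ne V ⊥ with rfl | hV1
  · simp [mem_centralizer_iff]
  have hW : ⁅V, V⁆ ≤ V := Subgroup.commutator_le_self V
  have hbW : b ∈ normalizer ((⁅V, V⁆ : Subgroup G) : Set G) :=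
    commutator_normal_of (zpowers_le.mpr hbV) (mem_zpowers b)
  have hzW : z ∈ normalizer ((⁅V, V⁆ : Subgroup G) : Set G) :=
    commutator_normal_of (zpowers_le.mpr hzV) (mem_zpowers z)
  have h2 := ih _ (Grp.commutator_lt_self_of_solvable hV hV1) (Grp.isSolvable_of_le hW hV)
    (fun h => hpV (h.trans (card_dvd_of_le hW))) (hcop.coprime_dvd_right (card_dvd_of_le hW))
    hbW hzW (commutator_normal_of hΓV) (fun u hu => hfix u ⟨hW hu.1, hu.2⟩) γ₀ hγ₀
  have hxΓ : ⁅γ₀, z⁆ ∈ Γ := by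
    rw [commutatorElement_def, mul_assoc, mul_assoc, ← mul_assoc z γ₀⁻¹]
    exact mul_mem hγ₀ (Grp.mem_conj_normalizer hzΓ (inv_mem hγ₀))
  have hxV : zpowers ⁅γ₀, z⁆ ≤ normalizer (V : Set G) := zpowers_le.mpr (hΓV hxΓ)
  have hxcop : (Nat.card (zpowers ⁅γ₀, z⁆)).Coprime (Nat.card V) :=
    hcop.coprime_dvd_left (card_dvd_of_le (zpowers_le.mpr hxΓ))
  refine zpowers_le.mp (Grp.le_centralizer_of_series _ V ⁅V, V⁆ hxV hxcop (Or.inr hV) ?_ ?_)
  swap
  · rw [commutator_comm]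
    exact commutator_eq_bot_iff_le_centralizer.mpr (zpowers_le.mpr h2)
  let N := normalizer (V : Set G)
  letI := abAction V
  have key := smul_commutator_eq_of_fpf (V := Abelianization ↥V) (p := p) (Γ.subgroupOf N)
    (fun x hx y hy => Subtype.ext (habel _ (mem_subgroupOf.mp hx) _ (mem_subgroupOf.mp hy)))
    ⟨b, hbV⟩ ⟨z, hzV⟩
    (Subtype.ext hb) (fun γ hγ => mem_subgroupOf.mpr (Grp.mem_conj_normalizer hbΓ (mem_subgroupOf.mp hγ)))
    (fun γ hγ => mem_subgroupOf.mpr (Grp.mem_conj_normalizer hzΓ (mem_subgroupOf.mp hγ)))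
    (Subtype.ext hbz.eq) (by rwa [← Subgroup.orderOf_coe])
    (fun γ hγ h => Subtype.ext ((Subgroup.eq_bot_iff_forall _).mp hfpf _
      ⟨mem_subgroupOf.mp hγ, mem_centralizer_one.mpr (congrArg Subtype.val h)⟩))
    (by
      rw [Nat.card_congr (subgroupOfEquivOfLe hΓV).toEquiv]
      exact hcop.coprime_dvd_right (Subgroup.card_quotient_dvd_card (commutator ↥V)))
    (fun v hv => by
      revert hv
      refine QuotientGroup.induction_on v fun u hu => ?_
      have hu' := (of_eq_iff V _ _).mp (hu.symm)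
      have h1 : b * (u : G) * b⁻¹ * (u : G)⁻¹ ∈ ⁅V, V⁆ := by
        have hn : (u : G) ∈ normalizer ((⁅V, V⁆ : Subgroup G) : Set G) :=
          commutator_normal_of le_normalizer u.2
        change (u : G)⁻¹ * (b * u * b⁻¹) ∈ ⁅V, V⁆ at hu'
        convert Grp.mem_conj_normalizer hn hu' using 1
        group
      obtain ⟨c, hc, hkc⟩ := exists_fixed_rep_one hb hpV hbV hW
        (commutator_normal_of le_normalizer) hbW u.2 h1
      intro γ hγ
      have e : Abelianization.of u = Abelianization.of (⟨c, hc.1⟩ : V) := (of_eq_iff V _ _).mpr hkc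
      show γ • ((⟨z, hzV⟩ : N) • Abelianization.of u / Abelianization.of u) =
        (⟨z, hzV⟩ : N) • Abelianization.of u / Abelianization.of u
      rw [e, abAction_of, ← map_div, abAction_of]
      congr 1
      refine Subtype.ext ?_
      show (γ : G) * (z * c * z⁻¹ / c) * (γ : G)⁻¹ = z * c * z⁻¹ / c
      have hh := mem_centralizer_iff.mp (hfix c hc) _ (mem_subgroupOf.mp hγ)
      rw [commutatorElement_def, ← div_eq_mul_inv] at hh
      rw [hh, mul_inv_cancel_right])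
  rw [commutator_le]
  intro v hv x hx
  obtain ⟨k, rfl⟩ := Subgroup.mem_zpowers_iff.mp hx
  have hfx : ∀ w : Abelianization ↥V, (⟨⁅γ₀, z⁆, hΓV hxΓ⟩ : N) • w = w := fun w => by
    have := key ⟨γ₀, hΓV hγ₀⟩ (mem_subgroupOf.mpr hγ₀) w
    convert this using 2
    exact Subtype.ext rfl
  have h : (⟨⁅γ₀, z⁆, hΓV hxΓ⟩ : N) ^ k • Abelianization.of (⟨v, hv⟩ : V) = Abelianization.of ⟨v, hv⟩ :=
    MulAction.mem_stabilizer_iff.mp (zpow_mem (MulAction.mem_stabilizer_iff.mpr (hfx _)) k)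
  rw [abAction_of, of_eq_iff] at h
  convert (commutator_normal_of (le_normalizer (H := V)) hv |> fun hn => Grp.mem_conj_normalizer hn
    h) using 1
  simp only [SubgroupClass.coe_zpow, commutatorElement_def]
  group

end Group

end Cfsg.Agent.Transfer.SFT
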