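import Mathlib
import Cfsg.Agent.Lib.Transfer.SFT.Fix
import Cfsg.Agent.Lib.Grp.NilpotentJoin
import Cfsg.Agent.Lib.Grp.FlavellPair
import Cfsg.Agent.Lib.Grp.Baer
import Cfsg.Agent.Lib.Grp.TwoClassCore
import Cfsg.Agent.Lib.Grp.CoprimeHall

/-!
The layer `F(H / O_s(H))` of a solvable subgroup and criteria for an `s`-subgroup to lie in `O_s(H)`.
-/

set_option autoImplicit false
set_option linter.unusedSectionVars false

namespace Cfsg.Agent.Transfer.SFT

open Subgroup
open Cfsg.Agent.Grp (coreOf)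
open scoped commutatorElement

variable {G : Type*} [Group G]

/-- The preimage in `H` of `O_r(H / O_s(H))`. -/
def layerPart (s r : ℕ) (H : Subgroup G) : Subgroup G :=
  haveI : (Cfsg.pCore s ↥H).Normal := Grp.pCore_isNormal
  ((Cfsg.pCore r (↥H ⧸ Cfsg.pCore s ↥H)).comap (QuotientGroup.mk' (Cfsg.pCore s ↥H))).map H.subtype

/-- The preimage in `H` of `F(H / O_s(H))`. -/
def layer (s : ℕ) (H : Subgroup G) : Subgroup G := ⨆ r : Nat.Primes, layerPart s (r : ℕ) H

theorem layerPart_le (s r : ℕ) (H : Subgroup G) : layerPart s r H ≤ H := map_subtype_le _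

theorem layer_le (s : ℕ) (H : Subgroup G) : layer s H ≤ H := iSup_le fun _ => layerPart_le _ _ _

theorem layerPart_le_layer (s : ℕ) (H : Subgroup G) {r : ℕ} (hr : r.Prime) :
    layerPart s r H ≤ layer s H := le_iSup (fun r : Nat.Primes => layerPart s (r : ℕ) H) ⟨r, hr⟩

theorem characteristic_comap_mk {M : Type*} [Group M] (N : Subgroup M) [N.Normal]
    (hN : N.Characteristic) (K : Subgroup (M ⧸ N)) (hK : K.Characteristic) :
    (K.comap (QuotientGroup.mk' N)).Characteristic := by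
  refine ⟨fun φ => ?_⟩
  ext x
  have hφ : N.map (φ : M →* M) = N := by
    have := Subgroup.characteristic_iff_map_eq.mp hN φ
    exact this
  let ψ := QuotientGroup.congr N N φ hφ
  have h2 := hK.fixed ψ
  show QuotientGroup.mk' N (φ x) ∈ K ↔ QuotientGroup.mk' N x ∈ K
  conv_rhs => rw [← h2]
  rfl

theorem normalizer_le_layerPart (s r : ℕ) (H : Subgroup G) :
    normalizer (H : Set G) ≤ normalizer ((layerPart s r H : Subgroup G) : Set G) :=
  haveI : (Cfsg.pCore s ↥H).Normal := Grp.pCore_isNormal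
  Grp.FlavellPair.normalizer_le_map_char H _ (hM := characteristic_comap_mk _ inferInstance _ inferInstance)

theorem le_normalizer_iSup {ι : Sort*} {A : Subgroup G} {f : ι → Subgroup G}
    (h : ∀ i, A ≤ normalizer (f i : Set G)) : A ≤ normalizer ((⨆ i, f i : Subgroup G) : Set G) := by
  intro a ha
  rw [Grp.mem_normalizer_iff_smul, ← Grp.map_conj_eq_smul, Subgroup.map_iSup]
  simp only [Grp.map_conj_eq_smul]
  exact iSup_congr fun i => Grp.mem_normalizer_iff_smul.mp (h i ha)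

theorem normalizer_le_layer (s : ℕ) (H : Subgroup G) :
    normalizer (H : Set G) ≤ normalizer ((layer s H : Subgroup G) : Set G) :=
  le_normalizer_iSup fun r => normalizer_le_layerPart s r H

theorem conj_mem_layerPart {s r : ℕ} {H : Subgroup G} {h x : G} (hh : h ∈ normalizer (H : Set G))
    (hx : x ∈ layerPart s r H) : h * x * h⁻¹ ∈ layerPart s r H :=
  Grp.mem_conj_normalizer (normalizer_le_layerPart s r H hh) hx

theorem conj_mem_coreOf {s : ℕ} {H : Subgroup G} {h x : G} (hh : h ∈ normalizer (H : Set G))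
    (hx : x ∈ coreOf s H) : h * x * h⁻¹ ∈ coreOf s H :=
  Grp.mem_conj_normalizer (Grp.normalizer_le_coreOf H s hh) hx

theorem coreOf_le_layerPart (s r : ℕ) (H : Subgroup G) : coreOf s H ≤ layerPart s r H := by
  haveI : (Cfsg.pCore s ↥H).Normal := Grp.pCore_isNormal
  refine map_mono fun x hx => ?_
  rw [mem_comap, QuotientGroup.mk'_apply, (QuotientGroup.eq_one_iff x).mpr hx]
  exact one_mem _

theorem coreOf_le_layer {s : ℕ} (hs : s.Prime) (H : Subgroup G) : coreOf s H ≤ layer s H :=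
  (coreOf_le_layerPart s s H).trans (layerPart_le_layer s H hs)

theorem mem_coreOf_iff {s : ℕ} {H : Subgroup G} {x : G} (hx : x ∈ H) :
    x ∈ coreOf s H ↔ (⟨x, hx⟩ : H) ∈ Cfsg.pCore s ↥H := by
  constructor
  · rintro ⟨y, hy, e⟩
    exact (show y = ⟨x, hx⟩ from Subtype.ext e) ▸ hy
  · exact fun h => ⟨_, h, rfl⟩

theorem mem_layerPart_iff {s r : ℕ} {H : Subgroup G} {x : G} (hx : x ∈ H) :
    haveI : (Cfsg.pCore s ↥H).Normal := Grp.pCore_isNormal
    x ∈ layerPart s r H ↔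
      ((⟨x, hx⟩ : H) : ↥H ⧸ Cfsg.pCore s ↥H) ∈ Cfsg.pCore r (↥H ⧸ Cfsg.pCore s ↥H) := by
  constructor
  · rintro ⟨y, hy, e⟩
    exact (show y = ⟨x, hx⟩ from Subtype.ext e) ▸ hy
  · exact fun h => ⟨_, h, rfl⟩

theorem isPGroup_zpowers_of_mem {s : ℕ} {S : Subgroup G} (hS : IsPGroup s S) {x : G} (hx : x ∈ S) :
    IsPGroup s (zpowers x) := hS.to_le (zpowers_le.mpr hx)

theorem isPGroup_zpowers_subtype {s : ℕ} {S H : Subgroup G} (hS : IsPGroup s S) {x : G} (hx : x ∈ S)
    (hxH : x ∈ H) : IsPGroup s (zpowers (⟨x, hxH⟩ : H)) := by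
  refine ((hS.comap_subtype (K := H))).to_le (zpowers_le.mpr ?_)
  exact mem_comap.mpr hx

theorem pCore_quotient_self [Finite G] (s : ℕ) [Fact s.Prime] (H : Subgroup G) :
    haveI : (Cfsg.pCore s ↥H).Normal := Grp.pCore_isNormal
    Cfsg.pCore s (↥H ⧸ Cfsg.pCore s ↥H) = ⊥ :=
  haveI : (Cfsg.pCore s ↥H).Normal := Grp.pCore_isNormal
  Grp.TwoClassCore.pCore_quotient_eq_bot _ Grp.pCore_isPGroup rfl

theorem layerPart_self [Finite G] (s : ℕ) [Fact s.Prime] (H : Subgroup G) :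
    layerPart s s H = coreOf s H := by
  refine le_antisymm ?_ (coreOf_le_layerPart s s H)
  haveI : (Cfsg.pCore s ↥H).Normal := Grp.pCore_isNormal
  intro x hx
  have h := (mem_layerPart_iff (layerPart_le _ _ _ hx)).mp hx
  rw [pCore_quotient_self, mem_bot, QuotientGroup.eq_one_iff] at h
  exact (mem_coreOf_iff _).mpr h

/-- An `s`-element of the layer lies in the core. -/
theorem mem_core_of_mem_layer [Finite G] {s : ℕ} [Fact s.Prime] {H S : Subgroup G} {x : G}
    (hx : x ∈ layer s H) (hS : IsPGroup s S) (hxS : x ∈ S) : x ∈ coreOf s H := by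
  haveI : (Cfsg.pCore s ↥H).Normal := Grp.pCore_isNormal
  set f := QuotientGroup.mk' (Cfsg.pCore s ↥H)
  have hle : layer s H ≤ ((Cfsg.fittingSubgroup (↥H ⧸ Cfsg.pCore s ↥H)).comap f).map H.subtype := by
    refine iSup_le fun r => map_mono (comap_mono ?_)
    haveI := Fact.mk r.2
    exact Grp.pCore_le_fittingSubgroup
  obtain ⟨y, hy, rfl⟩ := hle hx
  have hp : IsPGroup s (zpowers (f y)) := by
    rw [← MonoidHom.map_zpowers]
    exact (isPGroup_zpowers_subtype (H := H) hS hxS y.2).map f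
  have h := Grp.mem_pCore_of_mem_fitting hy hp
  rw [pCore_quotient_self, mem_bot, QuotientGroup.mk'_apply, QuotientGroup.eq_one_iff] at h
  exact ⟨y, h, rfl⟩

theorem layerPart_isPiNum [Finite G] {s r : ℕ} [Fact s.Prime] [hr : Fact r.Prime] (H : Subgroup G) :
    Grp.PiHall.IsPiNum {s, r} (Nat.card (layerPart s r H)) := by
  haveI : (Cfsg.pCore s ↥H).Normal := Grp.pCore_isNormal
  intro q hq hd
  rw [layerPart, Subgroup.card_map_of_injective H.subtype_injective] at hd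
  set K := (Cfsg.pCore r (↥H ⧸ Cfsg.pCore s ↥H)).comap (QuotientGroup.mk' (Cfsg.pCore s ↥H))
  have hc : Nat.card K = Nat.card (Cfsg.pCore s ↥H) * Nat.card (Cfsg.pCore r (↥H ⧸ Cfsg.pCore s ↥H)) := by
    have hle : Cfsg.pCore s ↥H ≤ K := fun x hx => by
      rw [mem_comap, QuotientGroup.mk'_apply, (QuotientGroup.eq_one_iff x).mpr hx]; exact one_mem _
    rw [← Grp.card_mul_relIndex hle]
    congr 1
    have h2 := Subgroup.relIndex_comap (H := (⊥ : Subgroup (↥H ⧸ Cfsg.pCore s ↥H)))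
      (QuotientGroup.mk' (Cfsg.pCore s ↥H)) K
    rw [MonoidHom.comap_bot, QuotientGroup.ker_mk', Subgroup.map_comap_eq_self_of_surjective
      (QuotientGroup.mk'_surjective _), Subgroup.relIndex_bot_left] at h2
    exact h2
  rw [hc] at hd
  rcases hq.dvd_mul.mp hd with h | h
  · obtain ⟨n, hn⟩ := IsPGroup.iff_card.mp (Grp.pCore_isPGroup (p := s) (G := ↥H))
    rw [hn] at h
    exact Or.inl ((Nat.prime_dvd_prime_iff_eq hq Fact.out).mp (hq.dvd_of_dvd_pow h))
  · obtain ⟨n, hn⟩ := IsPGroup.iff_card.mp (Grp.pCore_isPGroup (p := r) (G := ↥H ⧸ Cfsg.pCore s ↥H))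
    rw [hn] at h
    exact Or.inr ((Nat.prime_dvd_prime_iff_eq hq hr.out).mp (hq.dvd_of_dvd_pow h))

/-! ### Elements centralizing the cores -/

/-- The elements whose commutators with `Γ` lie in `O_s(H)`. -/
def commSet (s : ℕ) (H Γ : Subgroup G) : Subgroup G where
  carrier := {x | x ∈ H ∧ ∀ γ ∈ Γ, ⁅γ, x⁆ ∈ coreOf s H}
  one_mem' := ⟨one_mem _, fun γ _ => by rw [commutatorElement_one_right]; exact one_mem _⟩
  mul_mem' := fun {a b} ha hb => ⟨mul_mem ha.1 hb.1, fun γ hγ => by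
    rw [show ⁅γ, a * b⁆ = ⁅γ, a⁆ * (a * ⁅γ, b⁆ * a⁻¹) by simp only [commutatorElement_def]; group]
    exact mul_mem (ha.2 γ hγ) (conj_mem_coreOf (le_normalizer ha.1) (hb.2 γ hγ))⟩
  inv_mem' := fun {a} ha => ⟨inv_mem ha.1, fun γ hγ => by
    rw [show ⁅γ, a⁻¹⁆ = a⁻¹ * ⁅γ, a⁆⁻¹ * a⁻¹⁻¹ by simp only [commutatorElement_def]; group]
    exact conj_mem_coreOf (le_normalizer (inv_mem ha.1)) (inv_mem (ha.2 γ hγ))⟩

theorem mem_commSet {s : ℕ} {H Γ : Subgroup G} {x : G} :
    x ∈ commSet s H Γ ↔ x ∈ H ∧ ∀ γ ∈ Γ, ⁅γ, x⁆ ∈ coreOf s H := Iff.rfl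

theorem commutator_mem_coreOf {s : ℕ} {H : Subgroup G} {g x : G} (hg : g ∈ normalizer (H : Set G))
    (hx : x ∈ coreOf s H) : ⁅g, x⁆ ∈ coreOf s H := by
  rw [commutatorElement_def]
  exact mul_mem (conj_mem_coreOf hg hx) (inv_mem hx)

theorem coreOf_le_commSet {s : ℕ} {H Γ : Subgroup G} (hΓ : Γ ≤ normalizer (H : Set G)) :
    coreOf s H ≤ commSet s H Γ := fun _ hx =>
  ⟨Grp.coreOf_le H hx, fun _ hγ => commutator_mem_coreOf (hΓ hγ) hx⟩

theorem layerPart_le_commSet_of_primes [Finite G] {s : ℕ} [Fact s.Prime] {H Γ : Subgroup G}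
    (hΓ : Γ ≤ normalizer (H : Set G))
    (h : ∀ r : ℕ, r.Prime → r ≠ s → layerPart s r H ≤ commSet s H Γ) :
    layer s H ≤ commSet s H Γ := by
  refine iSup_le fun r => ?_
  by_cases hrs : (r : ℕ) = s
  · rw [hrs, layerPart_self]; exact coreOf_le_commSet hΓ
  · exact h r r.2 hrs

theorem quotient_mem_fitting [Finite G] {s : ℕ} [Fact s.Prime] {H : Subgroup G}
    (hH : Group.IsSolvable H) {z : G} (hz : z ∈ H) (h : ∀ x ∈ layer s H, ⁅z, x⁆ ∈ coreOf s H) :
    haveI : (Cfsg.pCore s ↥H).Normal := Grp.pCore_isNormal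
    ((⟨z, hz⟩ : H) : ↥H ⧸ Cfsg.pCore s ↥H) ∈ Cfsg.fittingSubgroup (↥H ⧸ Cfsg.pCore s ↥H) := by
  haveI : (Cfsg.pCore s ↥H).Normal := Grp.pCore_isNormal
  haveI : Group.IsSolvable (↥H ⧸ Cfsg.pCore s ↥H) :=
    Group.isSolvable_of_surjective (QuotientGroup.mk'_surjective (Cfsg.pCore s ↥H))
  refine Grp.centralizer_fittingSubgroup_le ?_
  rw [Grp.fittingSubgroup_eq_iSup_pCore]
  refine le_centralizer_iff.mp (iSup_le fun r => ?_) (mem_zpowers _)
  intro y hy
  obtain ⟨y, rfl⟩ := QuotientGroup.mk'_surjective (Cfsg.pCore s ↥H) y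
  have hyL : (y : G) ∈ layer s H :=
    layerPart_le_layer s H r.2 ((mem_layerPart_iff y.2).mpr hy)
  have h1 := (mem_coreOf_iff (show ⁅z, (y : G)⁆ ∈ H from Grp.coreOf_le H (h _ hyL))).mp (h _ hyL)
  rw [show (⟨⁅z, (y : G)⁆, _⟩ : H) = ⁅(⟨z, hz⟩ : H), y⁆ from Subtype.ext rfl,
    ← QuotientGroup.eq_one_iff] at h1
  have h2 : ⁅((⟨z, hz⟩ : H) : ↥H ⧸ Cfsg.pCore s ↥H), (y : ↥H ⧸ Cfsg.pCore s ↥H)⁆ = 1 := h1
  rw [← Grp.centralizer_singleton_eq_zpowers, mem_centralizer_iff]
  intro w hw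
  rw [Set.mem_singleton_iff] at hw
  subst hw
  exact commutatorElement_eq_one_iff_mul_comm.mp h2

/-- An `s`-group acting trivially on the layer is in the core. -/
theorem le_core_of_layer [Finite G] {s : ℕ} [Fact s.Prime] {H Γ : Subgroup G}
    (hH : Group.IsSolvable H) (hΓH : Γ ≤ H) (hΓ : IsPGroup s Γ)
    (h : layer s H ≤ commSet s H Γ) : Γ ≤ coreOf s H := by
  haveI : (Cfsg.pCore s ↥H).Normal := Grp.pCore_isNormal
  intro γ hγ
  have h1 := quotient_mem_fitting hH (hΓH hγ) fun x hx => (h hx).2 γ hγ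
  have hp : IsPGroup s (zpowers ((⟨γ, hΓH hγ⟩ : H) : ↥H ⧸ Cfsg.pCore s ↥H)) := by
    rw [← QuotientGroup.mk'_apply, ← MonoidHom.map_zpowers]
    exact (isPGroup_zpowers_subtype hΓ hγ (hΓH hγ)).map _
  have h2 := Grp.mem_pCore_of_mem_fitting h1 hp
  rw [pCore_quotient_self, mem_bot, QuotientGroup.eq_one_iff] at h2
  exact (mem_coreOf_iff _).mpr h2

/-- An element acting trivially on the layer moves `s`-groups inside the core. -/
theorem commutator_mem_core_of_layer [Finite G] {s : ℕ} [Fact s.Prime] {H P : Subgroup G}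
    (hH : Group.IsSolvable H) (hPH : P ≤ H) (hP : IsPGroup s P) {z : G} (hz : z ∈ H)
    (hzP : z ∈ normalizer (P : Set G)) (h : ∀ x ∈ layer s H, ⁅z, x⁆ ∈ coreOf s H) {u : G} (hu : u ∈ P) :
    ⁅u, z⁆ ∈ coreOf s H := by
  haveI : (Cfsg.pCore s ↥H).Normal := Grp.pCore_isNormal
  have huz : ⁅u, z⁆ ∈ P := by
    rw [commutatorElement_def, mul_assoc, mul_assoc, ← mul_assoc z]
    exact mul_mem hu (Grp.mem_conj_normalizer hzP (inv_mem hu))
  have h1 := quotient_mem_fitting hH hz h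
  set F := Cfsg.fittingSubgroup (↥H ⧸ Cfsg.pCore s ↥H)
  have hFn : F.Normal := Grp.fittingSubgroup_isNormal
  have h2 : ((⁅(⟨u, hPH hu⟩ : H), ⟨z, hz⟩⁆ : H) : ↥H ⧸ Cfsg.pCore s ↥H) ∈ F := by
    rw [← QuotientGroup.mk'_apply, map_commutatorElement, commutatorElement_def]
    exact mul_mem (hFn.conj_mem _ h1 _) (inv_mem h1)
  have hp : IsPGroup s (zpowers ((⁅(⟨u, hPH hu⟩ : H), ⟨z, hz⟩⁆ : H) : ↥H ⧸ Cfsg.pCore s ↥H)) := by
    rw [← QuotientGroup.mk'_apply, ← MonoidHom.map_zpowers]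
    exact (isPGroup_zpowers_subtype hP huz (hPH huz)).map _
  have h3 := Grp.mem_pCore_of_mem_fitting h2 hp
  rw [pCore_quotient_self, mem_bot, QuotientGroup.eq_one_iff] at h3
  exact ⟨_, h3, rfl⟩

/-- A Sylow subgroup covers the part of the layer for its prime. -/
theorem layerPart_le_commSet_of_sylow [Finite G] {s r : ℕ} [Fact s.Prime] [hr : Fact r.Prime] (hrs : r ≠ s)
    {H Γ S : Subgroup G} (hΓ : Γ ≤ normalizer (H : Set G)) (hS : Grp.IsSylowIn r S H)
    (h : S ⊓ layerPart s r H ≤ commSet s H Γ) : layerPart s r H ≤ commSet s H Γ := by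
  set L := layerPart s r H
  have hLH : L ≤ H := layerPart_le _ _ _
  have hHL : H ≤ normalizer (L : Set G) := le_normalizer.trans (normalizer_le_layerPart s r H)
  have hinf : Grp.IsSylowIn r (S ⊓ L) L := by
    refine ⟨inf_le_right, hS.2.1.to_le inf_le_left, ?_⟩
    obtain ⟨P, hP⟩ := Grp.isSylowIn_iff.mp hS
    haveI : (L.subgroupOf H).Normal := (Subgroup.normal_subgroupOf_iff_le_normalizer hLH).mpr hHL
    have h := Grp.sylow_inf_normal_relIndex P (L.subgroupOf H)
    rw [← Subgroup.relIndex_map_map_of_injective _ _ H.subtype_injective, hP,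
      Subgroup.map_subgroupOf_eq_of_le hLH] at h
    rwa [Subgroup.inf_relIndex_right]
  refine Grp.le_of_forall_sylow (inf_le_left (a := L) (b := commSet s H Γ)) (fun q hq => ?_) |>.trans inf_le_right
  by_cases hqr : q = r
  · subst hqr
    exact ⟨S ⊓ L, hinf, le_inf inf_le_right h⟩
  · obtain ⟨X, hX⟩ := Grp.exists_isSylowIn q L
    refine ⟨X, hX, le_inf hX.1 ?_⟩
    by_cases hqs : q = s
    · subst hqs
      exact fun x hx => coreOf_le_commSet hΓ
        (mem_core_of_mem_layer (layerPart_le_layer q H hr.out (hX.1 hx)) hX.2.1 hx)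
    · obtain ⟨n, hn⟩ := IsPGroup.iff_card.mp hX.2.1
      rcases n with _ | n
      · rw [pow_zero] at hn
        rw [Subgroup.card_eq_one.mp hn]; exact bot_le
      · rcases layerPart_isPiNum (s := s) (r := r) H q hq.out
          ((hn ▸ dvd_pow_self q n.succ_ne_zero).trans (card_dvd_of_le hX.1)) with h' | h'
        · exact absurd h' hqs
        · exact absurd h' hqr

/-! ### Criteria with operators -/

section Operators

variable [Finite G] {p : ℕ} [hp : Fact p.Prime] {A : Subgroup G} {s : ℕ} [hs : Fact s.Prime]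
  {H Γ : Subgroup G}

theorem not_dvd_layer (hH : ¬ p ∣ Nat.card H) : ¬ p ∣ Nat.card (layer s H) :=
  fun h => hH (h.trans (card_dvd_of_le (layer_le s H)))

theorem le_core_of_hyperplanes (hA : Cfsg.IsElementaryAbelian p A) (hA1 : A ≠ ⊥)
    (hH : Group.IsSolvable H) (hpH : ¬ p ∣ Nat.card H) (hAH : A ≤ normalizer (H : Set G))
    (hΓH : Γ ≤ H) (hΓ : IsPGroup s Γ)
    (h : ∀ B : Subgroup G, B ≤ A → B.relIndex A = p →
      layer s H ⊓ centralizer (B : Set G) ≤ commSet s H Γ) : Γ ≤ coreOf s H :=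
  le_core_of_layer hH hΓH hΓ
    (Grp.le_of_hyperplanes hA hA1 _ (not_dvd_layer hpH) (hAH.trans (normalizer_le_layer s H)) h)

/-- Commutators inside an invariant `s`-group fall into the core. -/
theorem commutator_mem_core_of_invariant {R : Subgroup G} (hR : IsPGroup s R) {γ x : G}
    (hγ : γ ∈ R) (hγH : γ ∈ H) (hx : x ∈ layer s H) (hxR : x ∈ normalizer (R : Set G)) :
    ⁅γ, x⁆ ∈ coreOf s H := by
  have h1 : ⁅γ, x⁆ ∈ layer s H := by
    rw [commutatorElement_def]
    exact mul_mem (Grp.mem_conj_normalizer (normalizer_le_layer s H (le_normalizer hγH)) hx) (inv_mem hx)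
  have h2 : ⁅γ, x⁆ ∈ R := by
    rw [commutatorElement_def, mul_assoc, mul_assoc, ← mul_assoc x]
    exact mul_mem hγ (Grp.mem_conj_normalizer hxR (inv_mem hγ))
  exact mem_core_of_mem_layer h1 hR h2

/-- A blocking line of points whose centralizers normalise `s`-groups containing `Γ`. -/
theorem le_core_of_line (hA : Cfsg.IsElementaryAbelian p A) (hA3 : p ^ 3 ≤ Nat.card A)
    (hH : Group.IsSolvable H) (hpH : ¬ p ∣ Nat.card H) (hAH : A ≤ normalizer (H : Set G))
    (hΓH : Γ ≤ H) (hΓ : IsPGroup s Γ) {n : Subgroup G} (hn : n ≤ A) (hni : n.relIndex A = p)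
    (h : ∀ b ∈ n, b ≠ 1 → ∃ R : Subgroup G, IsPGroup s R ∧ Γ ≤ R ∧
      H ⊓ centralizer ({b} : Set G) ≤ normalizer (R : Set G)) : Γ ≤ coreOf s H := by
  refine le_core_of_hyperplanes hA (Grp.ne_bot_of_card (by norm_num) hA3) hH hpH hAH hΓH hΓ
    fun B hB hBi => ?_
  obtain ⟨b, ⟨hbn, hbB⟩, hb1⟩ := Grp.elemAb_exists_mem_inf hA hA3 hn hB hni hBi
  obtain ⟨R, hR, hΓR, hN⟩ := h b hbn hb1
  rintro x ⟨hxL, hxB⟩
  refine ⟨layer_le s H hxL, fun γ hγ => commutator_mem_core_of_invariant hR (hΓR hγ) (hΓH hγ) hxL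
    (hN ⟨layer_le s H hxL, ?_⟩)⟩
  exact centralizer_le (Set.singleton_subset_iff.mpr hbB) hxB

/-- Fixed points of one operator on the layer, from those of the hyperplanes through it. -/
theorem layer_point_le (hA : Cfsg.IsElementaryAbelian p A) (hA3 : p ^ 3 ≤ Nat.card A)
    (hpH : ¬ p ∣ Nat.card H) (hAH : A ≤ normalizer (H : Set G)) {b : G} (hb : b ∈ A) {T : Subgroup G}
    (h : ∀ B : Subgroup G, b ∈ B → B ≤ A → B.relIndex A = p → layer s H ⊓ centralizer (B : Set G) ≤ T) :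
    layer s H ⊓ centralizer ({b} : Set G) ≤ T := by
  rw [Grp.centralizer_singleton_eq_zpowers]
  refine Grp.inf_centralizer_le_of_hyperplanes hA _ (not_dvd_layer hpH)
    (hAH.trans (normalizer_le_layer s H)) (zpowers_le.mpr hb) (fun e => ?_)
    fun B h1 h2 h3 => h B (h1 (mem_zpowers b)) h2 h3
  have h1 : Nat.card A ≤ p := by
    rw [← e, Nat.card_zpowers]
    exact orderOf_le_of_pow_eq_one hp.out.pos (hA.2 b hb)
  have h2 := hp.out.two_le
  have h3 : p * (2 * 2) ≤ p ^ 3 := by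
    rw [pow_three]
    exact Nat.mul_le_mul_left p (Nat.mul_le_mul h2 h2)
  omega

end Operators

/-! ### Passing to the quotient by the core -/

section Quotient

variable [Finite G] (s : ℕ) (H : Subgroup G)

/-- The ambient group in which the core is normal. -/
abbrev coreNormalizer : Subgroup G := normalizer ((coreOf s H : Subgroup G) : Set G)

instance coreSubgroupOf_normal : ((coreOf s H).subgroupOf (coreNormalizer s H)).Normal :=
  Subgroup.normal_subgroupOf_of_le_normalizer le_rfl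

/-- The map onto the quotient by the core. -/
abbrev coreMap : coreNormalizer s H →* (coreNormalizer s H ⧸ (coreOf s H).subgroupOf (coreNormalizer s H)) :=
  QuotientGroup.mk' _

/-- The image of a subgroup modulo the core. -/
abbrev img (X : Subgroup G) :
    Subgroup (coreNormalizer s H ⧸ (coreOf s H).subgroupOf (coreNormalizer s H)) :=
  (X.subgroupOf (coreNormalizer s H)).map (coreMap s H)

variable {s H}

theorem le_coreNormalizer : normalizer (H : Set G) ≤ coreNormalizer s H := Grp.normalizer_le_coreOf H s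

theorem coreMap_eq_one {x : G} (hx : x ∈ coreNormalizer s H) :
    coreMap s H ⟨x, hx⟩ = 1 ↔ x ∈ coreOf s H := by
  rw [QuotientGroup.mk'_apply, QuotientGroup.eq_one_iff, mem_subgroupOf]

theorem mem_img {X : Subgroup G} {x : G} (hx : x ∈ coreNormalizer s H) (hxX : x ∈ X) :
    coreMap s H ⟨x, hx⟩ ∈ img s H X := mem_map_of_mem _ (mem_subgroupOf.mpr hxX)

theorem card_img_dvd (X : Subgroup G) : Nat.card (img s H X) ∣ Nat.card X :=
  (Subgroup.card_map_dvd _ _).trans (by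
    have h := Subgroup.card_map_of_injective (coreNormalizer s H).subtype_injective
      (K := X.subgroupOf (coreNormalizer s H))
    rw [Subgroup.subgroupOf_map_subtype] at h
    exact h ▸ card_dvd_of_le inf_le_left)

theorem isPGroup_img {q : ℕ} {X : Subgroup G} (hX : IsPGroup q X) : IsPGroup q (img s H X) :=
  (hX.comap_subtype).map _

theorem img_le_normalizer {X : Subgroup G} {g : G} (hg : g ∈ coreNormalizer s H)
    (hgX : g ∈ normalizer (X : Set G)) :
    coreMap s H ⟨g, hg⟩ ∈ normalizer ((img s H X : Subgroup _) : Set _) := by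
  have h : zpowers (coreMap s H ⟨g, hg⟩) ≤ normalizer ((img s H X : Subgroup _) : Set _) := by
    refine Grp.invariant_iff.mp ?_
    rintro _ hc _ ⟨x, hx, rfl⟩
    obtain ⟨k, rfl⟩ := Subgroup.mem_zpowers_iff.mp hc
    rw [← map_zpow, ← map_inv, ← map_mul, ← map_mul]
    refine mem_map_of_mem _ (mem_subgroupOf.mpr ?_)
    simp only [Subgroup.coe_mul, Subgroup.coe_inv, SubgroupClass.coe_zpow]
    exact Grp.mem_conj_normalizer (zpow_mem hgX k) (mem_subgroupOf.mp hx)
  exact h (mem_zpowers _)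

theorem isPGroup_img_layerPart [Fact s.Prime] {r : ℕ} [hr : Fact r.Prime] :
    IsPGroup r (img s H (layerPart s r H)) := by
  haveI : (Cfsg.pCore s ↥H).Normal := Grp.pCore_isNormal
  rw [IsPGroup]
  rintro ⟨_, ⟨x, hx, rfl⟩⟩
  have hxL := mem_subgroupOf.mp hx
  have h := (mem_layerPart_iff (layerPart_le _ _ _ hxL)).mp hxL
  obtain ⟨k, hk⟩ := Grp.pCore_isPGroup (p := r) (G := ↥H ⧸ Cfsg.pCore s ↥H) ⟨_, h⟩
  refine ⟨k, Subtype.ext ?_⟩
  have h2 : (⟨(x : G), layerPart_le _ _ _ hxL⟩ : H) ^ r ^ k ∈ Cfsg.pCore s ↥H :=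
    (QuotientGroup.eq_one_iff _).mp (congrArg Subtype.val hk)
  show coreMap s H x ^ r ^ k = 1
  rw [← map_pow, show x ^ r ^ k = ⟨_, (x ^ r ^ k).2⟩ from rfl, coreMap_eq_one]
  rw [SubmonoidClass.coe_pow]
  exact ⟨_, h2, by rw [map_pow]; rfl⟩

theorem mem_commSet_of_img {Γ : Subgroup G} {X : Subgroup G} (hX : X ≤ H) (hΓ : Γ ≤ H)
    (h : img s H Γ ≤ centralizer ((img s H X : Subgroup _) : Set _)) : X ≤ commSet s H Γ := by
  intro x hx
  refine ⟨hX hx, fun γ hγ => ?_⟩
  have hxN : x ∈ coreNormalizer s H := le_coreNormalizer (le_normalizer (hX hx))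
  have hγN : γ ∈ coreNormalizer s H := le_coreNormalizer (le_normalizer (hΓ hγ))
  have h1 : coreMap s H ⁅(⟨γ, hγN⟩ : coreNormalizer s H), ⟨x, hxN⟩⁆ = 1 := by
    rw [map_commutatorElement]
    exact commutatorElement_eq_one_iff_mul_comm.mpr
      (mem_centralizer_iff.mp (h (mem_img hγN hγ)) _ (mem_img hxN hx)).symm
  exact (coreMap_eq_one _).mp h1

variable {p : ℕ} [hp : Fact p.Prime] [hs : Fact s.Prime] {Γ : Subgroup G} {b : G}

/-- Fixed points modulo the core lift. -/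
theorem exists_lift_fixed (hbH : b ∈ normalizer (H : Set G)) (hb : b ^ p = 1) {X : Subgroup G}
    (hX : X ≤ H) (hpX : ¬ p ∣ Nat.card X) (hbX : b ∈ normalizer (X : Set G))
    {u : coreNormalizer s H ⧸ (coreOf s H).subgroupOf (coreNormalizer s H)}
    (hu : u ∈ img s H X)
    (hub : u ∈ centralizer ({coreMap s H ⟨b, le_coreNormalizer hbH⟩} : Set _)) :
    ∃ c : G, ∃ hc : c ∈ coreNormalizer s H, c ∈ X ⊓ centralizer ({b} : Set G) ∧
      coreMap s H ⟨c, hc⟩ = u := by
  obtain ⟨x, hx, rfl⟩ := hu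
  have hxX : (x : G) ∈ X := mem_subgroupOf.mp hx
  have hXN : X ≤ coreNormalizer s H := fun y hy => le_coreNormalizer (le_normalizer (hX hy))
  rw [mem_centralizer_one, ← map_inv, ← map_mul, ← map_mul] at hub
  have h1 : coreMap s H ((⟨b, le_coreNormalizer hbH⟩ : coreNormalizer s H) * x *
      (⟨b, le_coreNormalizer hbH⟩ : coreNormalizer s H)⁻¹ * x⁻¹) = 1 := by
    rw [map_mul, hub, ← map_mul, mul_inv_cancel, map_one]
  have h2 : b * (x : G) * b⁻¹ * (x : G)⁻¹ ∈ X ⊓ coreOf s H :=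
    ⟨mul_mem (Grp.mem_conj_normalizer hbX hxX) (X.inv_mem hxX), (coreMap_eq_one _).mp h1⟩
  obtain ⟨c, hc, hk⟩ := exists_fixed_rep_one hb hpX hbX inf_le_left
    (Grp.le_normalizer_inf' le_normalizer hXN)
    (Grp.le_normalizer_inf' (zpowers_le.mpr hbX) (zpowers_le.mpr (le_coreNormalizer hbH)) (mem_zpowers b))
    hxX h2
  refine ⟨c, hXN hc.1, hc, ?_⟩
  have h3 : coreMap s H (x⁻¹ * ⟨c, hXN hc.1⟩) = 1 := (coreMap_eq_one _).mpr hk.2
  rw [map_mul, map_inv, inv_mul_eq_one] at h3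
  exact h3.symm

theorem img_fpf (hbH : b ∈ normalizer (H : Set G)) (hb : b ^ p = 1) (hΓH : Γ ≤ H)
    (hpH : ¬ p ∣ Nat.card H) (hbΓ : b ∈ normalizer (Γ : Set G))
    (hfpf : Γ ⊓ centralizer ({b} : Set G) = ⊥) :
    img s H Γ ⊓ centralizer ({coreMap s H ⟨b, le_coreNormalizer hbH⟩} : Set _) = ⊥ := by
  refine (Subgroup.eq_bot_iff_forall _).mpr fun u ⟨hu, hub⟩ => ?_
  obtain ⟨c, hc, hc', rfl⟩ := exists_lift_fixed hbH hb hΓH
    (fun h => hpH (h.trans (card_dvd_of_le hΓH))) hbΓ hu hub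
  exact (coreMap_eq_one hc).mpr ((Subgroup.eq_bot_iff_forall _).mp hfpf c hc' ▸ one_mem _)

theorem img_coprime {r : ℕ} [hr : Fact r.Prime] (hrs : r ≠ s) {X : Subgroup G} (hX : IsPGroup s X) :
    (Nat.card (img s H X)).Coprime (Nat.card (img s H (layerPart s r H))) :=
  IsPGroup.coprime_card_of_ne s r hrs.symm _ _ (isPGroup_img hX) isPGroup_img_layerPart

theorem img_not_dvd (hpH : ¬ p ∣ Nat.card H) {X : Subgroup G} (hX : X ≤ H) :
    ¬ p ∣ Nat.card (img s H X) :=
  fun h => hpH (h.trans ((card_img_dvd X).trans (card_dvd_of_le hX)))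

theorem img_commutator_mem {X : Subgroup G} (hX : X ≤ H) (hΓH : Γ ≤ H) {x : G} (hxX : x ∈ X)
    (hc : ∀ γ ∈ Γ, ⁅γ, x⁆ ∈ coreOf s H) :
    coreMap s H ⟨x, le_coreNormalizer (le_normalizer (hX hxX))⟩ ∈
      centralizer ((img s H Γ : Subgroup _) : Set _) := by
  rw [mem_centralizer_iff]
  rintro _ ⟨γ, hγ, rfl⟩
  refine commutatorElement_eq_one_iff_mul_comm.mp ?_
  rw [← map_commutatorElement]
  exact (coreMap_eq_one _).mpr (hc γ (mem_subgroupOf.mp hγ))

/-- An operator without fixed points on an `s`-group which centralizes the fixed layer. -/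
theorem le_core_of_fpf (hH : Group.IsSolvable H) (hpH : ¬ p ∣ Nat.card H)
    (hΓH : Γ ≤ H) (hΓ : IsPGroup s Γ) (hbH : b ∈ normalizer (H : Set G)) (hb : b ^ p = 1)
    (hbΓ : b ∈ normalizer (Γ : Set G)) (hfpf : Γ ⊓ centralizer ({b} : Set G) = ⊥)
    (h : layer s H ⊓ centralizer ({b} : Set G) ≤ commSet s H Γ) : Γ ≤ coreOf s H := by
  refine le_core_of_layer hH hΓH hΓ (layerPart_le_commSet_of_primes (hΓH.trans le_normalizer)
    fun r hr hrs => mem_commSet_of_img (layerPart_le _ _ _) hΓH ?_)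
  haveI := Fact.mk hr
  haveI : Group.IsNilpotent ↥(img s H (layerPart s r H)) :=
    (isPGroup_img_layerPart (s := s) (H := H) (r := r)).isNilpotent
  refine le_centralizer_of_fpf (img s H Γ) (b := coreMap s H ⟨b, le_coreNormalizer hbH⟩)
    (by rw [← map_pow, show (⟨b, le_coreNormalizer hbH⟩ : coreNormalizer s H) ^ p = 1 from Subtype.ext hb, map_one])
    (img_le_normalizer _ hbΓ) (img_fpf hbH hb hΓH hpH hbΓ hfpf) _ inferInstance
    (img_not_dvd hpH (layerPart_le _ _ _)) (img_coprime hrs hΓ)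
    (img_le_normalizer _ (normalizer_le_layerPart s r H hbH)) ?_ ?_
  · rintro _ ⟨γ, hγ, rfl⟩
    exact img_le_normalizer γ.2 (normalizer_le_layerPart s r H (le_normalizer (hΓH (mem_subgroupOf.mp hγ))))
  · rintro u ⟨hu, hub⟩
    obtain ⟨c, hc, hc', rfl⟩ := exists_lift_fixed hbH hb (layerPart_le _ _ _)
      (fun h => hpH (h.trans (card_dvd_of_le (layerPart_le _ _ _))))
      (normalizer_le_layerPart s r H hbH) hu hub
    exact img_commutator_mem (layerPart_le _ _ _) hΓH hc'.1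
      (h ⟨layerPart_le_layer s H hr hc'.1, hc'.2⟩).2

/-- The version with an operator `z` commuting with `b`. -/
theorem le_core_of_fpf_pair {t : ℕ} [ht : Fact t.Prime] (hts : t ≠ s) (htp : t ≠ p)
    (hH : Group.IsSolvable H) (hpH : ¬ p ∣ Nat.card H) (hΓH : Γ ≤ H) (hΓ : IsPGroup s Γ)
    (hbH : b ∈ normalizer (H : Set G)) (hb : b ^ p = 1) (hbΓ : b ∈ normalizer (Γ : Set G))
    (hfpf : Γ ⊓ centralizer ({b} : Set G) = ⊥) {Z : Subgroup G} (hZ : IsPGroup t Z)
    (hZH : Z ≤ normalizer (H : Set G)) (hZΓ : Z ≤ normalizer (Γ : Set G))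
    (hbZ : ∀ z ∈ Z, Commute b z) (hZfix : Γ ⊓ centralizer (Z : Set G) = ⊥)
    (h : ∀ z ∈ Z, ∀ u ∈ layer s H ⊓ centralizer ({b} : Set G), ∀ γ ∈ Γ, ⁅γ, ⁅z, u⁆⁆ ∈ coreOf s H) :
    Γ ≤ coreOf s H := by
  set W := img s H Γ with hW
  suffices hbot : W = ⊥ by
    intro γ hγ
    have h1 := mem_img (s := s) (le_coreNormalizer (le_normalizer (hΓH hγ))) hγ
    rw [← hW, hbot, mem_bot, coreMap_eq_one] at h1
    exact h1
  by_contra hne
  haveI : Group.IsNilpotent ↥W := (isPGroup_img (s := s) (H := H) hΓ).isNilpotent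
  -- the centre of the image
  set Z0 := (Subgroup.center ↥W).map W.subtype with hZ0
  have hZ0W : Z0 ≤ W := map_subtype_le _
  have hZ0ne : Z0 ≠ ⊥ := by
    intro e
    rw [hZ0, Subgroup.map_eq_bot_iff_of_injective _ W.subtype_injective] at e
    haveI : Nontrivial ↥W := (Subgroup.nontrivial_iff_ne_bot W).mpr hne
    exact absurd e (Subgroup.nontrivial_iff_ne_bot _ |>.mp
      (isPGroup_img (s := s) (H := H) hΓ).center_nontrivial)
  have habel : ∀ x ∈ Z0, ∀ y ∈ Z0, x * y = y * x := by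
    rintro _ ⟨x, hx, rfl⟩ _ ⟨y, -, rfl⟩
    rw [← map_mul, ← map_mul, (Subgroup.mem_center_iff.mp hx y)]
  have hNZ0 : normalizer (SetLike.coe W) ≤ normalizer (SetLike.coe Z0) :=
    Grp.FlavellPair.normalizer_le_map_char W _
  have hpΓ : ¬ p ∣ Nat.card Γ := fun h => hpH (h.trans (card_dvd_of_le hΓH))
  -- `Z` has no fixed points on `Z0`
  set ZI := img s H Z with hZI
  have hZN : Z ≤ coreNormalizer s H := hZH.trans le_coreNormalizer
  have hZIW : ZI ≤ normalizer ((W : Subgroup _) : Set _) := by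
    rintro _ ⟨z, hz, rfl⟩
    exact img_le_normalizer z.2 (hZΓ (mem_subgroupOf.mp hz))
  have hWZfix : W ⊓ centralizer ((ZI : Subgroup _) : Set _) = ⊥ := by
    refine (Subgroup.eq_bot_iff_forall _).mpr fun u ⟨hu, huz⟩ => ?_
    obtain ⟨x, hx, rfl⟩ := hu
    have hΓN : Γ ≤ coreNormalizer s H := hΓH.trans (le_normalizer.trans le_coreNormalizer)
    obtain ⟨c, hc, hk⟩ := Grp.exists_fixed_rep Z Γ (Γ ⊓ coreOf s H) hZΓ
      (Grp.inf_eq_bot_of_coprime (IsPGroup.coprime_card_of_ne t s hts _ _ hZ hΓ))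
      (IsPGroup.coprime_card_of_ne t s hts _ _ hZ (hΓ.to_le inf_le_left))
      (Or.inl (have := hZ.isNilpotent; inferInstance)) inf_le_left
      (Grp.le_normalizer_inf' le_normalizer hΓN)
      (Grp.le_normalizer_inf' hZΓ hZN) (mem_subgroupOf.mp hx) (fun z hz => by
        refine ⟨mul_mem (Grp.mem_conj_normalizer (hZΓ hz) (mem_subgroupOf.mp hx))
          (Γ.inv_mem (mem_subgroupOf.mp hx)), ?_⟩
        have h1 : coreMap s H ((⟨z, hZN hz⟩ : coreNormalizer s H) * x *
            (⟨z, hZN hz⟩ : coreNormalizer s H)⁻¹ * x⁻¹) = 1 := by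
          rw [map_mul, map_mul, map_mul, map_inv, map_inv,
            mem_centralizer_iff.mp huz _ (mem_img (hZN hz) hz)]
          group
        exact (coreMap_eq_one _).mp h1)
    have hc1 : c = 1 := (Subgroup.eq_bot_iff_forall _).mp hZfix c hc
    subst hc1
    rw [mul_one] at hk
    have hk2 := (coreOf s H).inv_mem hk.2
    rw [inv_inv] at hk2
    exact (coreMap_eq_one _).mpr hk2
  have hbN := le_coreNormalizer (s := s) hbH
  have hbW := img_le_normalizer (s := s) hbN hbΓ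
  have hbfpf : Z0 ⊓ centralizer ({coreMap s H ⟨b, hbN⟩} : Set _) = ⊥ :=
    le_bot_iff.mp ((inf_le_inf_right _ hZ0W).trans (img_fpf hbH hb hΓH hpH hbΓ hfpf).le)
  have hcop0 : (Nat.card ZI).Coprime (Nat.card Z0) :=
    (IsPGroup.coprime_card_of_ne t s hts _ _ (isPGroup_img hZ)
      (isPGroup_img hΓ)).coprime_dvd_right (card_dvd_of_le hZ0W)
  have hZIZ0 : ZI ≤ normalizer ((Z0 : Subgroup _) : Set _) := hZIW.trans hNZ0
  have hZ0eq : Z0 ≤ ⁅Z0, ZI⁆ := by
    have := Grp.commutator_sup_fixed ZI Z0 hZIZ0 hcop0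
      (Or.inr (have := ((isPGroup_img (s := s) (H := H) hΓ).to_le hZ0W).isNilpotent; inferInstance))
    rw [le_bot_iff.mp ((inf_le_inf_right _ hZ0W).trans hWZfix.le), sup_bot_eq] at this
    exact this.ge
  -- `Z0` centralizes every part of the layer
  have hZ0L : ∀ r : ℕ, r.Prime → r ≠ s →
      Z0 ≤ centralizer ((img s H (layerPart s r H) : Subgroup _) : Set _) := by
    intro r hr hrs
    haveI := Fact.mk hr
    haveI : Group.IsNilpotent ↥(img s H (layerPart s r H)) :=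
      (isPGroup_img_layerPart (s := s) (H := H) (r := r)).isNilpotent
    refine hZ0eq.trans (commutator_le.mpr ?_)
    intro γ hγ zI hzI
    obtain ⟨z, hz, rfl⟩ := hzI
    have hzZ := mem_subgroupOf.mp hz
    have hzord : (orderOf (coreMap s H z)).Coprime p := by
      obtain ⟨k, hk⟩ := IsPGroup.iff_card.mp (isPGroup_img (s := s) (H := H) hZ)
      have h1 : orderOf (coreMap s H z) ∣ t ^ k :=
        hk ▸ Subgroup.orderOf_dvd_natCard _ (mem_map_of_mem _ hz)
      exact (((Nat.coprime_primes ht.out hp.out).mpr htp).pow_left k).coprime_dvd_left h1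
    refine commutator_mem_centralizer_of_fpf Z0 habel (b := coreMap s H ⟨b, hbN⟩)
      (by rw [← map_pow, show (⟨b, hbN⟩ : coreNormalizer s H) ^ p = 1 from Subtype.ext hb, map_one])
      (hNZ0 hbW) (hZIZ0 (mem_map_of_mem _ hz))
      (by
        show _ * _ = _ * _
        rw [← map_mul, ← map_mul]
        exact congrArg _ (Subtype.ext (hbZ z hzZ).eq))
      hzord hbfpf _ inferInstance (img_not_dvd hpH (layerPart_le _ _ _))
      ((img_coprime hrs hΓ).coprime_dvd_left (card_dvd_of_le hZ0W))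
      (img_le_normalizer _ (normalizer_le_layerPart s r H hbH))
      (img_le_normalizer z.2 (normalizer_le_layerPart s r H (hZH hzZ))) ?_ ?_ γ hγ
    · refine hZ0W.trans ?_
      rintro _ ⟨g, hg, rfl⟩
      exact img_le_normalizer g.2
        (normalizer_le_layerPart s r H (le_normalizer (hΓH (mem_subgroupOf.mp hg))))
    · rintro u ⟨hu, hub⟩
      obtain ⟨c, hc, hc', rfl⟩ := exists_lift_fixed hbH hb (layerPart_le _ _ _)
        (fun h => hpH (h.trans (card_dvd_of_le (layerPart_le _ _ _))))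
        (normalizer_le_layerPart s r H hbH) hu hub
      refine centralizer_le (SetLike.coe_subset_coe.mpr hZ0W) ?_
      have hcm : ⁅(z : G), c⁆ ∈ layerPart s r H := by
        rw [commutatorElement_def]
        exact mul_mem (conj_mem_layerPart (hZH hzZ) hc'.1) (inv_mem hc'.1)
      rw [← map_commutatorElement]
      exact img_commutator_mem (layerPart_le _ _ _) hΓH hcm
        (h _ hzZ c ⟨layerPart_le_layer s H hr hc'.1, hc'.2⟩)
  -- hence it lies in the core
  set X0 := ((Z0.comap (coreMap s H)).map (coreNormalizer s H).subtype) ⊓ Γ with hX0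
  have hX0le : X0 ≤ coreOf s H := by
    refine le_core_of_layer hH (inf_le_right.trans hΓH) (hΓ.to_le inf_le_right)
      (layerPart_le_commSet_of_primes ((inf_le_right.trans hΓH).trans le_normalizer) fun r hr hrs =>
        mem_commSet_of_img (layerPart_le _ _ _) (inf_le_right.trans hΓH) ?_)
    refine le_trans ?_ (hZ0L r hr hrs)
    rintro _ ⟨x, hx, rfl⟩
    obtain ⟨⟨y, hy, hyx⟩, -⟩ := mem_subgroupOf.mp hx
    exact (show y = x from Subtype.ext hyx) ▸ hy
  refine hZ0ne ((Subgroup.eq_bot_iff_forall _).mpr fun w hw => ?_)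
  obtain ⟨x, hx, hxw⟩ := hZ0W hw
  have hxmem : (x : G) ∈ X0 := ⟨⟨x, mem_comap.mpr (hxw ▸ hw), rfl⟩, mem_subgroupOf.mp hx⟩
  rw [← hxw]
  exact (coreMap_eq_one _).mpr (hX0le hxmem)

end Quotient

end Cfsg.Agent.Transfer.SFT
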