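import Mathlib
import Cfsg.Agent.Lib.Transfer.SFT.Layer

/-!
An operator of prime order on an `s`-group, `s` odd, which centralizes the fixed layer.
-/

set_option autoImplicit false
set_option linter.unusedSectionVars false

namespace Cfsg.Agent.Transfer.SFT

open Subgroup
open Cfsg.Agent.Grp (coreOf)
open scoped commutatorElement

variable {G : Type*} [Group G] [Finite G]

theorem frattini_map_lt {V : Subgroup G} (hV : V ≠ ⊥) : (frattini ↥V).map V.subtype < V := by
  haveI : Nontrivial V := (Subgroup.nontrivial_iff_ne_bot V).mpr hV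
  refine lt_of_le_of_ne (map_subtype_le _) fun h => ?_
  have h1 : frattini V = ⊤ := by
    rw [eq_top_iff]
    intro w _
    obtain ⟨w', hw', e⟩ := (h.ge w.2 : (w : G) ∈ (frattini ↥V).map V.subtype)
    exact Subtype.ext (show (w' : G) = w from e) ▸ hw'
  obtain ⟨M, hM, -⟩ := (eq_top_or_exists_le_coatom (⊥ : Subgroup V)).resolve_left bot_ne_top
  exact hM.1 (top_le_iff.mp (h1 ▸ frattini_le_coatom hM))

/-- Off the exceptional case, the commutator with the operator centralizes. -/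
theorem commutator_le_centralizer_of_fixed {p r s : ℕ} [hp : Fact p.Prime] [hr : Fact r.Prime]
    [hs : Fact s.Prime] (hs2 : s ≠ 2) (hsr : s ≠ r) (hsp : s ≠ p) (hrp : r ≠ p) {Γ : Subgroup G} {b : G}
    (hb : b ^ p = 1) (hΓ : IsPGroup s Γ) (hbΓ : b ∈ normalizer (Γ : Set G)) :
    ∀ V : Subgroup G, IsPGroup r V → b ∈ normalizer (V : Set G) → Γ ≤ normalizer (V : Set G) →
      V ⊓ centralizer ({b} : Set G) ≤ centralizer (Γ : Set G) →
      ⁅Γ, zpowers b⁆ ≤ centralizer (V : Set G) := by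
  rcases eq_or_ne b 1 with rfl | hb1
  · intro V _ _ _ _
    rw [zpowers_one_eq_bot, commutator_bot_right]
    exact bot_le
  intro V
  induction V using (wellFounded_lt (α := Subgroup G)).induction with
  | _ V ih =>
  intro hV hbV hΓV hfix
  rcases eq_or_ne V ⊥ with rfl | hV1
  · intro x _
    simp [mem_centralizer_iff]
  set X := zpowers b with hXdef
  set D := ⁅Γ, X⁆ with hD
  have hXΓ : X ≤ normalizer (Γ : Set G) := zpowers_le.mpr hbΓ
  have hXV : X ≤ normalizer (V : Set G) := zpowers_le.mpr hbV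
  have hDΓ : D ≤ Γ := Grp.commutator_le_left_of_le_normalizer hXΓ
  have hXcard : Nat.card X = p := by
    rw [Nat.card_zpowers]; exact orderOf_eq_prime hb hb1
  set W := (frattini ↥V).map V.subtype with hWdef
  have hWV : W ≤ V := map_subtype_le _
  have hNW : normalizer (V : Set G) ≤ normalizer (W : Set G) :=
    Grp.FlavellPair.normalizer_le_map_char V _
  have h2 : D ≤ centralizer (W : Set G) := ih W (frattini_map_lt hV1) (hV.to_le hWV) (hNW hbV)
    (hΓV.trans hNW) ((inf_le_inf_right _ hWV).trans hfix)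
  have hDV : D ≤ normalizer (V : Set G) := hDΓ.trans hΓV
  have hcopDV : (Nat.card D).Coprime (Nat.card V) :=
    IsPGroup.coprime_card_of_ne s r hsr _ _ (hΓ.to_le hDΓ) hV
  haveI : Group.IsNilpotent V := hV.isNilpotent
  refine Grp.le_centralizer_of_series D V W hDV hcopDV (Or.inr inferInstance) ?_
    (by rw [commutator_comm]; exact commutator_eq_bot_iff_le_centralizer.mpr h2)
  -- work modulo `W`
  let N := normalizer (W : Set G)
  haveI : (W.subgroupOf N).Normal := Subgroup.normal_subgroupOf_of_le_normalizer le_rfl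
  let f : N →* N ⧸ W.subgroupOf N := QuotientGroup.mk' _
  have hf1 : ∀ (x : G) (hx : x ∈ N), f ⟨x, hx⟩ = 1 ↔ x ∈ W := fun x hx => by
    rw [QuotientGroup.mk'_apply, QuotientGroup.eq_one_iff, mem_subgroupOf]
  let im : Subgroup G → Subgroup (N ⧸ W.subgroupOf N) := fun Y => (Y.subgroupOf N).map f
  have hmem : ∀ {Y : Subgroup G} {x : G} (hx : x ∈ N), x ∈ Y → f ⟨x, hx⟩ ∈ im Y :=
    fun hx h => mem_map_of_mem f (mem_subgroupOf.mpr h)
  have hnor : ∀ {Y Z : Subgroup G}, Y ≤ normalizer (Z : Set G) →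
      im Y ≤ normalizer ((im Z : Subgroup _) : Set _) := by
    intro Y Z h
    refine Grp.invariant_iff.mp ?_
    rintro _ ⟨y, hy, rfl⟩ _ ⟨z, hz, rfl⟩
    rw [← map_inv, ← map_mul, ← map_mul]
    exact mem_map_of_mem f (mem_subgroupOf.mpr
      (Grp.mem_conj_normalizer (h (mem_subgroupOf.mp hy)) (mem_subgroupOf.mp hz)))
  have hVN : V ≤ N := le_normalizer.trans hNW
  have hΓN : Γ ≤ N := hΓV.trans hNW
  have hXN : X ≤ N := hXV.trans hNW
  have hDN : D ≤ N := hDΓ.trans hΓN
  have hVel : Cfsg.IsElementaryAbelian r (im V) := by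
    refine ⟨⟨⟨?_⟩⟩, ?_⟩
    · rintro ⟨_, u, hu, rfl⟩ ⟨_, w, hw, rfl⟩
      refine Subtype.ext ?_
      show f u * f w = f w * f u
      rw [← commutatorElement_eq_one_iff_mul_comm, ← map_commutatorElement]
      exact (hf1 _ _).mpr ⟨_, Grp.pGroup_commutator_le_frattini hV
        (Subgroup.commutator_mem_commutator (mem_top (⟨_, mem_subgroupOf.mp hu⟩ : V))
          (mem_top (⟨_, mem_subgroupOf.mp hw⟩ : V))), rfl⟩
    · rintro _ ⟨u, hu, rfl⟩
      rw [← map_pow]
      exact (hf1 _ _).mpr ⟨_, Grp.pGroup_pow_mem_frattini hV ⟨_, mem_subgroupOf.mp hu⟩, rfl⟩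
  haveI := hVel.1
  set V1 := ⁅im V, im D⁆ with hV1def
  have hDn : im D ≤ normalizer ((im V : Subgroup _) : Set _) := hnor hDV
  have hV1le : V1 ≤ im V := Grp.commutator_le_left_of_le_normalizer hDn
  have hcard : ∀ {Y : Subgroup G}, Nat.card (im Y) ∣ Nat.card Y := fun {Y} =>
    (Subgroup.card_map_dvd _ _).trans (by
      have h := Subgroup.card_map_of_injective N.subtype_injective (K := Y.subgroupOf N)
      rw [Subgroup.subgroupOf_map_subtype] at h
      exact h ▸ card_dvd_of_le inf_le_left)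
  have hV1fix : V1 ⊓ centralizer ((im D : Subgroup _) : Set _) = ⊥ := by
    refine le_bot_iff.mp ?_
    rw [← Grp.abelian_commutator_inf_fixed (im D) (im V) hDn
      ((hcopDV.coprime_dvd_left hcard).coprime_dvd_right hcard)]
    exact le_inf (le_inf (inf_le_left.trans hV1le) inf_le_right) inf_le_left
  suffices hb' : V1 = ⊥ by
    rw [commutator_le]
    intro v hv d hd
    have h3 : f ⁅(⟨v, hVN hv⟩ : N), ⟨d, hDN hd⟩⁆ ∈ V1 := by
      rw [map_commutatorElement]
      exact Subgroup.commutator_mem_commutator (hmem _ hv) (hmem _ hd)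
    rw [hb', mem_bot] at h3
    exact (hf1 _ _).mp h3
  by_contra hne
  have hXD : X ≤ normalizer (D : Set G) := Grp.right_le_normalizer_commutator X Γ
  have hΓD : Γ ≤ normalizer (D : Set G) := Grp.left_le_normalizer_commutator X Γ
  have hnV1 : ∀ {Y : Subgroup G}, Y ≤ normalizer (V : Set G) → Y ≤ normalizer (D : Set G) →
      im Y ≤ normalizer ((V1 : Subgroup _) : Set _) := by
    intro Y h1 h2 y hy
    rw [hV1def, Grp.mem_normalizer_iff_smul, ← Grp.map_conj_eq_smul, Subgroup.map_commutator,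
      Grp.map_conj_eq_smul, Grp.map_conj_eq_smul, Grp.mem_normalizer_iff_smul.mp (hnor h1 hy),
      Grp.mem_normalizer_iff_smul.mp (hnor h2 hy)]
  have hXim : Nat.card (im X) = p := by
    rcases (Nat.dvd_prime hp.out).mp (hXcard ▸ (hcard (Y := X))) with h | h
    · refine absurd ?_ hb1
      have h3 := hmem (hXN (mem_zpowers b)) (mem_zpowers b)
      rw [Subgroup.card_eq_one.mp h, mem_bot] at h3
      have h4 : b ∈ V := hWV ((hf1 _ _).mp h3)
      exact orderOf_eq_one_iff.mp (Nat.eq_one_of_dvd_coprimes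
        ((coprime_zpowers hb (V := V) (fun hd => by
          obtain ⟨k, hk⟩ := IsPGroup.iff_card.mp hV
          rw [hk] at hd
          exact hrp ((Nat.prime_dvd_prime_iff_eq hp.out hr.out).mp (hp.out.dvd_of_dvd_pow hd)).symm)))
        (by rw [Nat.card_zpowers]) (Subgroup.orderOf_dvd_natCard _ h4))
    · exact h
  have hfixV1 : V1 ⊓ centralizer ((im X : Subgroup _) : Set _) = ⊥ := by
    refine le_bot_iff.mp (le_trans ?_ hV1fix.le)
    rintro u ⟨hu1, hu2⟩
    refine ⟨hu1, ?_⟩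
    obtain ⟨x, hx, rfl⟩ := hV1le hu1
    have hxV : (x : G) ∈ V := mem_subgroupOf.mp hx
    have h1 : f ⁅(⟨b, hXN (mem_zpowers b)⟩ : N), x⁆ = 1 := by
      rw [map_commutatorElement]
      exact commutatorElement_eq_one_iff_mul_comm.mpr
        (mem_centralizer_iff.mp hu2 _ (hmem _ (mem_zpowers b)))
    obtain ⟨c, hc, hk⟩ := exists_fixed_rep_one hb (fun hd => by
        obtain ⟨k, hk⟩ := IsPGroup.iff_card.mp hV
        rw [hk] at hd
        exact hrp ((Nat.prime_dvd_prime_iff_eq hp.out hr.out).mp (hp.out.dvd_of_dvd_pow hd)).symm)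
      hbV hWV hVN (hNW hbV) hxV ((hf1 _ _).mp h1)
    have e : f x = f ⟨c, hVN hc.1⟩ := by
      rw [← inv_mul_eq_one, ← map_inv, ← map_mul]
      exact (hf1 _ _).mpr hk
    show f x ∈ centralizer ((im D : Subgroup _) : Set _)
    rw [e, mem_centralizer_iff]
    rintro _ ⟨d, hd, rfl⟩
    rw [← map_mul, ← map_mul]
    exact congrArg f (Subtype.ext (mem_centralizer_iff.mp (hfix hc) _ (hDΓ (mem_subgroupOf.mp hd))))
  refine Grp.exists_fixed_of_not_centralizing (p := r) (q := s) (r := p) hsr.symm hrp hsp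
    (im X) (im Γ) V1 hXim ((hΓ.comap_subtype).map f) (hnor hXΓ)
    ⟨⟨⟨fun x y => Subtype.ext (congrArg (fun t : im V => (t : _ ⧸ W.subgroupOf N))
      (hVel.1.is_comm.comm ⟨_, hV1le x.2⟩ ⟨_, hV1le y.2⟩))⟩⟩, fun x hx => hVel.2 x (hV1le hx)⟩
    (hnV1 hXV hXD) (hnV1 hΓV hΓD) ?_ (fun h => absurd h hs2) hfixV1
  intro hcon
  have hDim : im D ≤ ⁅im Γ, im X⁆ := by
    rintro _ ⟨d, hd, rfl⟩
    have h4 : D ≤ ((⁅im Γ, im X⁆).comap f).map N.subtype := by
      rw [hD, commutator_le]
      intro γ hγ x hx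
      refine ⟨⁅(⟨γ, hΓN hγ⟩ : N), ⟨x, hXN hx⟩⁆, ?_, rfl⟩
      show f _ ∈ ⁅im Γ, im X⁆
      rw [map_commutatorElement]
      exact Subgroup.commutator_mem_commutator (hmem _ hγ) (hmem _ hx)
    obtain ⟨y, hy, hyd⟩ := h4 (mem_subgroupOf.mp hd)
    exact (show y = d from Subtype.ext hyd) ▸ hy
  refine hne (le_bot_iff.mp (hV1fix ▸ le_inf le_rfl ?_))
  exact le_centralizer_iff.mp (hDim.trans hcon)

variable {p : ℕ} [hp : Fact p.Prime] {s : ℕ} [hs : Fact s.Prime] {H Γ : Subgroup G} {b : G}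

/-- An operator whose fixed layer commutes with an `s`-group, `s` odd. -/
theorem commutator_le_core_of_fixed (hs2 : s ≠ 2) (hsp : s ≠ p) (hH : Group.IsSolvable H)
    (hpH : ¬ p ∣ Nat.card H) (hΓH : Γ ≤ H) (hΓ : IsPGroup s Γ) (hbH : b ∈ normalizer (H : Set G))
    (hb : b ^ p = 1) (hbΓ : b ∈ normalizer (Γ : Set G))
    (h : layer s H ⊓ centralizer ({b} : Set G) ≤ commSet s H Γ) :
    ⁅Γ, zpowers b⁆ ≤ coreOf s H := by
  have hDΓ : ⁅Γ, zpowers b⁆ ≤ Γ :=
    Grp.commutator_le_left_of_le_normalizer (zpowers_le.mpr hbΓ)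
  refine le_core_of_layer hH (hDΓ.trans hΓH) (hΓ.to_le hDΓ)
    (layerPart_le_commSet_of_primes ((hDΓ.trans hΓH).trans le_normalizer)
      fun r hr hrs => ?_)
  by_cases hrp : r = p
  · -- trivial part
    subst hrp
    intro x hx
    refine coreOf_le_commSet ((hDΓ.trans hΓH).trans le_normalizer) ?_
    obtain ⟨k, hk⟩ := IsPGroup.iff_card.mp
      (isPGroup_img_layerPart (s := s) (H := H) (r := r))
    have hxN := le_coreNormalizer (s := s) (le_normalizer (layerPart_le _ _ _ hx))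
    cases k with
    | zero =>
      rw [pow_zero, Subgroup.card_eq_one] at hk
      have h1 := mem_img (s := s) (H := H) hxN hx
      rw [hk, mem_bot, coreMap_eq_one] at h1
      exact h1
    | succ k =>
      exact absurd (((hk ▸ dvd_pow_self r k.succ_ne_zero).trans (card_img_dvd _)).trans
        (card_dvd_of_le (layerPart_le s r H))) hpH
  haveI := Fact.mk hr
  refine mem_commSet_of_img (layerPart_le _ _ _) (hDΓ.trans hΓH) ?_
  have hbN := le_coreNormalizer (s := s) hbH
  have hgen : img s H ⁅Γ, zpowers b⁆ ≤ ⁅img s H Γ, zpowers (coreMap s H ⟨b, hbN⟩)⁆ := by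
    rintro _ ⟨d, hd, rfl⟩
    have h4 : ⁅Γ, zpowers b⁆ ≤ ((⁅img s H Γ, zpowers (coreMap s H ⟨b, hbN⟩)⁆).comap (coreMap s H)).map
        (coreNormalizer s H).subtype := by
      rw [commutator_le]
      intro γ hγ x hx
      refine ⟨⁅(⟨γ, le_coreNormalizer (le_normalizer (hΓH hγ))⟩ : coreNormalizer s H),
        ⟨x, zpowers_le.mpr hbN hx⟩⁆, ?_, rfl⟩
      show coreMap s H _ ∈ ⁅img s H Γ, zpowers (coreMap s H ⟨b, hbN⟩)⁆
      rw [map_commutatorElement]
      refine Subgroup.commutator_mem_commutator (mem_img _ hγ) ?_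
      obtain ⟨k, rfl⟩ := Subgroup.mem_zpowers_iff.mp hx
      exact ⟨k, (map_zpow (coreMap s H) (⟨b, hbN⟩ : coreNormalizer s H) k).symm⟩
    obtain ⟨y, hy, hyd⟩ := h4 (mem_subgroupOf.mp hd)
    exact (show y = d from Subtype.ext hyd) ▸ hy
  refine hgen.trans (commutator_le_centralizer_of_fixed hs2 (Ne.symm hrs) hsp hrp
    (by rw [← map_pow, show (⟨b, hbN⟩ : coreNormalizer s H) ^ p = 1 from Subtype.ext hb, map_one])
    (isPGroup_img hΓ) (img_le_normalizer _ hbΓ) _ (isPGroup_img_layerPart (r := r))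
    (img_le_normalizer _ (normalizer_le_layerPart s r H hbH)) ?_ ?_)
  · rintro _ ⟨g, hg, rfl⟩
    exact img_le_normalizer g.2 (normalizer_le_layerPart s r H (le_normalizer (hΓH (mem_subgroupOf.mp hg))))
  · rintro u ⟨hu, hub⟩
    obtain ⟨c, hc, hc', rfl⟩ := exists_lift_fixed hbH hb (layerPart_le _ _ _)
      (fun h => hpH (h.trans (card_dvd_of_le (layerPart_le _ _ _))))
      (normalizer_le_layerPart s r H hbH) hu hub
    exact img_commutator_mem (layerPart_le _ _ _) hΓH hc'.1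
      (h ⟨layerPart_le_layer s H hr hc'.1, hc'.2⟩).2

end Cfsg.Agent.Transfer.SFT
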