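import Mathlib
import Cfsg.Agent.Lib.Transfer.SFT.HH
import Cfsg.Agent.Lib.Grp.SignalizerTransitive

/-!
Members of a solvable signalizer functor on an elementary abelian group of order `p ^ 3`.
-/

set_option autoImplicit false
set_option linter.unusedSectionVars false

namespace Cfsg.Agent.Transfer.SFT

open Subgroup
open Cfsg.Agent.Grp (coreOf IsMaxQMember IsSylowIn)
open scoped commutatorElement Pointwise

variable {G : Type*} [Group G]

/-- A hyperplane ("line") of `A`. -/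
def IsLine (p : ℕ) (A n : Subgroup G) : Prop := n ≤ A ∧ n.relIndex A = p

/-- A maximal member of the family. -/
def IsMax (p : ℕ) (A : Subgroup G) (θ : G → Subgroup G) (M : Subgroup G) : Prop :=
  M ∈ Cfsg.signalizerFamily p A θ ∧ ∀ U ∈ Cfsg.signalizerFamily p A θ, M ≤ U → U ≤ M

/-- Some member contains every value of the functor. -/
def Complete (p : ℕ) (A : Subgroup G) (θ : G → Subgroup G) : Prop :=
  ∃ X ∈ Cfsg.signalizerFamily p A θ, ∀ a ∈ A, a ≠ 1 → θ a ≤ X

/-- The functor on a noncyclic group of order `p ^ 3`. -/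
structure Setup (p : ℕ) (A : Subgroup G) (θ : G → Subgroup G) : Prop where
  hA : Cfsg.IsElementaryAbelian p A
  card : Nat.card A = p ^ 3
  hθ : Cfsg.IsSolvableSignalizerFunctor p A θ

namespace Setup

variable [Finite G] {p : ℕ} [hp : Fact p.Prime] {A : Subgroup G} {θ : G → Subgroup G}
  (S : Setup p A θ)

include S

theorem card3 : p ^ 3 ≤ Nat.card A := S.card.ge

theorem A_ne : A ≠ ⊥ := Grp.ne_bot_of_card (by norm_num) S.card3

theorem pow_eq {a : G} (ha : a ∈ A) : a ^ p = 1 := S.hA.2 a ha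

theorem comm {a b : G} (ha : a ∈ A) (hb : b ∈ A) : a * b = b * a := Grp.elemAb_comm S.hA a ha b hb

theorem le_normalizer_of_le {B : Subgroup G} (hB : B ≤ A) : A ≤ normalizer (B : Set G) := by
  refine Grp.invariant_iff.mp fun a ha x hx => ?_
  rw [S.comm ha (hB hx), mul_inv_cancel_right]
  exact hx

theorem le_normalizer_centralizer {B : Subgroup G} (hB : B ≤ A) :
    A ≤ normalizer ((centralizer (B : Set G) : Subgroup G) : Set G) :=
  Grp.le_normalizer_centralizer_of_commute fun _ ha _ hb => S.comm ha (hB hb)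

theorem le_normalizer_centralizer_one {a : G} (ha : a ∈ A) :
    A ≤ normalizer ((centralizer ({a} : Set G) : Subgroup G) : Set G) := by
  rw [Grp.centralizer_singleton_eq_zpowers]
  exact S.le_normalizer_centralizer (zpowers_le.mpr ha)

theorem normalizer_mem {U : Subgroup G} (hU : U ∈ Cfsg.signalizerFamily p A θ) :
    A ≤ normalizer (U : Set G) := Grp.invariant_iff.mp hU.2.2.1

theorem mem_normalizer_member {U : Subgroup G} (hU : U ∈ Cfsg.signalizerFamily p A θ) {a : G}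
    (ha : a ∈ A) : a ∈ normalizer (U : Set G) := S.normalizer_mem hU ha

theorem theta_mem {a : G} (ha : a ∈ A) (ha1 : a ≠ 1) : θ a ∈ Cfsg.signalizerFamily p A θ :=
  Grp.theta_mem_family S.hθ ha ha1

theorem theta_le_centralizer {a : G} (ha : a ∈ A) (ha1 : a ≠ 1) : θ a ≤ centralizer ({a} : Set G) :=
  S.hθ.1.1 a ha ha1

theorem mem_inf_point {U : Subgroup G} (hU : U ∈ Cfsg.signalizerFamily p A θ) {a : G}
    (ha : a ∈ A) (ha1 : a ≠ 1) : U ⊓ centralizer ({a} : Set G) ≤ θ a := hU.2.2.2 a ha ha1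

theorem sub_mem {U V : Subgroup G} (hU : U ∈ Cfsg.signalizerFamily p A θ) (hVU : V ≤ U)
    (hV : A ≤ normalizer (V : Set G)) : V ∈ Cfsg.signalizerFamily p A θ :=
  Grp.family_mono hU hVU hV

theorem bot_mem : (⊥ : Subgroup G) ∈ Cfsg.signalizerFamily p A θ := by
  obtain ⟨a, ha, ha1⟩ : ∃ a ∈ A, a ≠ 1 := by
    by_contra h
    push Not at h
    exact S.A_ne ((Subgroup.eq_bot_iff_forall _).mpr h)
  refine S.sub_mem (S.theta_mem ha ha1) bot_le (Grp.invariant_iff.mp fun b _ x hx => ?_)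
  rw [mem_bot] at hx ⊢
  rw [hx, mul_one, mul_inv_cancel]

theorem exists_point : ∃ a ∈ A, a ≠ 1 := by
  by_contra h
  push Not at h
  exact S.A_ne ((Subgroup.eq_bot_iff_forall _).mpr h)

/-! ### Points and lines -/

theorem line_card {n : Subgroup G} (hn : IsLine p A n) : Nat.card n = p ^ 2 := by
  have h := Grp.card_mul_relIndex hn.1
  rw [hn.2, S.card, pow_succ p 2] at h
  exact Nat.eq_of_mul_eq_mul_right hp.out.pos h

theorem line_ne_bot {n : Subgroup G} (hn : IsLine p A n) : n ≠ ⊥ :=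
  Grp.ne_bot_of_card (n := 2) (by norm_num) (S.line_card hn).ge

theorem line_ne_top {n : Subgroup G} (hn : IsLine p A n) : n ≠ A := fun e => by
  have := hn.2
  rw [e, Subgroup.relIndex_self] at this
  exact hp.out.one_lt.ne this

theorem line_meet {n m : Subgroup G} (hn : IsLine p A n) (hm : IsLine p A m) :
    ∃ a ∈ n ⊓ m, a ≠ 1 :=
  Grp.elemAb_exists_mem_inf S.hA S.card3 hn.1 hm.1 hn.2 hm.2

theorem card_zpowers_point {a : G} (ha : a ∈ A) (ha1 : a ≠ 1) : Nat.card (zpowers a) = p := by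
  rw [Nat.card_zpowers]; exact orderOf_eq_prime (S.pow_eq ha) ha1

theorem card_sup_point {B : Subgroup G} (hB : B ≤ A) {a : G} (ha : a ∈ A) (haB : a ∉ B) :
    Nat.card (B ⊔ zpowers a : Subgroup G) = Nat.card B * p := by
  have ha1 : a ≠ 1 := fun h => haB (h ▸ B.one_mem)
  have hc := Grp.card_sup_mul_card_inf (H := zpowers a) (N := B)
    ((zpowers_le.mpr ha).trans (S.le_normalizer_of_le hB))
  rw [inf_comm, Grp.elemAb_zpowers_inf S.hA ha haB, Subgroup.card_bot, mul_one,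
    S.card_zpowers_point ha ha1, sup_comm] at hc
  rw [hc, mul_comm]

theorem line_of_card {n : Subgroup G} (hn : n ≤ A) (hc : Nat.card n = p ^ 2) : IsLine p A n := by
  refine ⟨hn, ?_⟩
  have h := Grp.card_mul_relIndex hn
  rw [hc, S.card, pow_succ p 2] at h
  exact Nat.eq_of_mul_eq_mul_left (pow_pos hp.out.pos 2) h

theorem line_of_two {a b : G} (ha : a ∈ A) (ha1 : a ≠ 1) (hb : b ∈ A) (hba : b ∉ zpowers a) :
    IsLine p A (zpowers a ⊔ zpowers b) :=
  S.line_of_card (sup_le (zpowers_le.mpr ha) (zpowers_le.mpr hb))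
    (by rw [S.card_sup_point (zpowers_le.mpr ha) hb hba, S.card_zpowers_point ha ha1, sq])

theorem exists_not_mem {B : Subgroup G} (hc : Nat.card B < p ^ 3) : ∃ b ∈ A, b ∉ B := by
  by_contra h
  push Not at h
  exact (S.card ▸ hc).not_ge (Subgroup.card_le_of_le h)

theorem exists_line_through {a : G} (ha : a ∈ A) : ∃ n, IsLine p A n ∧ a ∈ n := by
  rcases eq_or_ne a 1 with rfl | ha1
  · obtain ⟨b, hb, hb1⟩ := S.exists_point
    obtain ⟨c, hc, hcb⟩ := S.exists_not_mem (B := zpowers b)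
      (by rw [S.card_zpowers_point hb hb1]; exact lt_self_pow₀ hp.out.one_lt (by norm_num))
    exact ⟨_, S.line_of_two hb hb1 hc hcb, one_mem _⟩
  · obtain ⟨c, hc, hca⟩ := S.exists_not_mem (B := zpowers a)
      (by rw [S.card_zpowers_point ha ha1]; exact lt_self_pow₀ hp.out.one_lt (by norm_num))
    exact ⟨_, S.line_of_two ha ha1 hc hca, mem_sup_left (mem_zpowers a)⟩

theorem exists_line : ∃ n, IsLine p A n :=
  (S.exists_line_through A.one_mem).imp fun _ h => h.1

theorem exists_indep {n : Subgroup G} (hn : IsLine p A n) {x : G} (hx : x ∈ A) :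
    ∃ b ∈ n, b ∉ zpowers x := by
  by_contra h
  push Not at h
  have h1 := Subgroup.card_le_of_le (fun b hb => h b hb : n ≤ zpowers x)
  rw [S.line_card hn, Nat.card_zpowers] at h1
  have h2 := orderOf_le_of_pow_eq_one hp.out.pos (S.pow_eq hx)
  exact absurd (h1.trans h2) (not_le.mpr (lt_self_pow₀ hp.out.one_lt (by norm_num)))

theorem eq_top_of_line {n : Subgroup G} (hn : IsLine p A n) {x : G} (hx : x ∈ A) (hxn : x ∉ n) :
    n ⊔ zpowers x = A :=
  Subgroup.eq_of_le_of_card_ge (sup_le hn.1 (zpowers_le.mpr hx))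
    (by rw [S.card_sup_point hn.1 hx hxn, S.line_card hn, S.card, pow_succ p 2])

theorem line_eq_of_two {n : Subgroup G} (hn : IsLine p A n) {a b : G} (ha : a ∈ n) (hb : b ∈ n)
    (ha1 : a ≠ 1) (hba : b ∉ zpowers a) : n = zpowers a ⊔ zpowers b :=
  (Subgroup.eq_of_le_of_card_ge (sup_le (zpowers_le.mpr ha) (zpowers_le.mpr hb))
    (by rw [S.line_card hn, S.line_card (S.line_of_two (hn.1 ha) ha1 (hn.1 hb) hba)])).symm

theorem centralizer_line {n : Subgroup G} (hn : IsLine p A n) {a b : G} (ha : a ∈ n) (hb : b ∈ n)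
    (ha1 : a ≠ 1) (hba : b ∉ zpowers a) {x : G} (hxa : x ∈ centralizer ({a} : Set G))
    (hxb : x ∈ centralizer ({b} : Set G)) : x ∈ centralizer (n : Set G) := by
  rw [Grp.centralizer_singleton_eq_zpowers] at hxa hxb
  have h : n ≤ centralizer ((zpowers x : Subgroup G) : Set G) := by
    rw [S.line_eq_of_two hn ha hb ha1 hba]
    exact sup_le (le_centralizer_iff.mp (zpowers_le.mpr hxa))
      (le_centralizer_iff.mp (zpowers_le.mpr hxb))
  exact le_centralizer_iff.mp h (mem_zpowers x)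

theorem exists_line_of_cyclic {T : Set G} (hT : T ⊆ A) (h : ¬ A ≤ closure T) :
    ∃ n, IsLine p A n ∧ T ⊆ n := by
  have hle : closure T ≤ A := (closure_le _).mpr hT
  obtain ⟨k, hkle, hk⟩ : ∃ k ≤ 3, Nat.card (closure T) = p ^ k :=
    (Nat.dvd_prime_pow hp.out).mp (S.card ▸ card_dvd_of_le hle)
  interval_cases k
  · obtain ⟨n, hn⟩ := S.exists_line
    refine ⟨n, hn, fun x hx => ?_⟩
    have h1 : x ∈ closure T := subset_closure hx
    have h0 : closure T = ⊥ := Subgroup.card_eq_one.mp (by rw [hk, pow_zero])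
    rw [h0, mem_bot] at h1
    rw [h1]; exact one_mem _
  · obtain ⟨x, hx, hx1⟩ : ∃ x ∈ closure T, x ≠ 1 := by
      by_contra h0
      push Not at h0
      rw [(Subgroup.eq_bot_iff_forall _).mpr h0, Subgroup.card_bot, pow_one] at hk
      exact hp.out.one_lt.ne hk
    have e : zpowers x = closure T := Subgroup.eq_of_le_of_card_ge (zpowers_le.mpr hx)
      (by rw [S.card_zpowers_point (hle hx) hx1, hk, pow_one])
    obtain ⟨n, hn, hxn⟩ := S.exists_line_through (hle hx)
    exact ⟨n, hn, fun y hy => zpowers_le.mpr hxn (e.symm ▸ subset_closure hy)⟩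
  · exact ⟨_, S.line_of_card hle hk, subset_closure⟩
  · exact absurd (Subgroup.eq_of_le_of_card_ge hle (by rw [hk, S.card])).ge h

/-! ### Generation -/

theorem member_le_of_lines {U T : Subgroup G} (hU : U ∈ Cfsg.signalizerFamily p A θ)
    (h : ∀ n, IsLine p A n → U ⊓ centralizer (n : Set G) ≤ T) : U ≤ T :=
  Grp.le_of_hyperplanes S.hA S.A_ne U hU.2.1 (S.normalizer_mem hU) fun D h1 h2 => h D ⟨h1, h2⟩

theorem zpowers_ne {a : G} (ha : a ∈ A) : zpowers a ≠ A := fun e => by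
  have h1 : Nat.card A ≤ p := by
    rw [← e, Nat.card_zpowers]
    exact orderOf_le_of_pow_eq_one hp.out.pos (S.pow_eq ha)
  rw [S.card] at h1
  exact absurd h1 (not_le.mpr (lt_self_pow₀ hp.out.one_lt (by norm_num)))

theorem member_point_le {U T : Subgroup G} (hU : U ∈ Cfsg.signalizerFamily p A θ) {a : G} (ha : a ∈ A)
    (h : ∀ n, IsLine p A n → a ∈ n → U ⊓ centralizer (n : Set G) ≤ T) :
    U ⊓ centralizer ({a} : Set G) ≤ T := by
  rw [Grp.centralizer_singleton_eq_zpowers]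
  exact Grp.inf_centralizer_le_of_hyperplanes S.hA U hU.2.1 (S.normalizer_mem hU) (zpowers_le.mpr ha)
    (S.zpowers_ne ha) fun D h1 h2 h3 => h D ⟨h2, h3⟩ (h1 (mem_zpowers a))

theorem member_le_of_line {U T : Subgroup G} (hU : U ∈ Cfsg.signalizerFamily p A θ) {n : Subgroup G}
    (hn : IsLine p A n) (h : ∀ b ∈ n, b ≠ 1 → U ⊓ centralizer ({b} : Set G) ≤ T) : U ≤ T := by
  refine S.member_le_of_lines hU fun m hm => ?_
  obtain ⟨b, ⟨hbn, hbm⟩, hb1⟩ := S.line_meet hn hm
  exact (inf_le_inf_left U (centralizer_le (Set.singleton_subset_iff.mpr hbm))).trans (h b hbn hb1)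

theorem K_le_theta {n : Subgroup G} {a : G} (ha : a ∈ n) (ha1 : a ≠ 1) :
    Cfsg.signalizerInf n θ ≤ θ a := Grp.signalizerInf_le ha ha1

theorem K_mem {n : Subgroup G} (hn : IsLine p A n) :
    Cfsg.signalizerInf n θ ∈ Cfsg.signalizerFamily p A θ :=
  Grp.signalizerInf_mem_family S.hθ hn.1 (S.line_ne_bot hn)

theorem K_le_centralizer {n : Subgroup G} (hn : IsLine p A n) :
    Cfsg.signalizerInf n θ ≤ centralizer (n : Set G) :=
  le_centralizer_iff.mp (Grp.signalizerInf_le_centralizer S.hθ.1 hn.1)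

theorem member_line_le_K {U : Subgroup G} (hU : U ∈ Cfsg.signalizerFamily p A θ) {n : Subgroup G}
    (hn : IsLine p A n) : U ⊓ centralizer (n : Set G) ≤ Cfsg.signalizerInf n θ :=
  Grp.family_centralizer_le hU hn.1

theorem theta_le_of_lines {a : G} (ha : a ∈ A) (ha1 : a ≠ 1) {T : Subgroup G}
    (h : ∀ n, IsLine p A n → a ∈ n → Cfsg.signalizerInf n θ ≤ T) : θ a ≤ T := by
  refine le_trans (le_inf le_rfl (S.theta_le_centralizer ha ha1)) (S.member_point_le (S.theta_mem ha ha1) ha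
    fun n hn han => (S.member_line_le_K (S.theta_mem ha ha1) hn).trans (h n hn han))

theorem complete_of_lines {X : Subgroup G} (hX : X ∈ Cfsg.signalizerFamily p A θ)
    (h : ∀ n, IsLine p A n → Cfsg.signalizerInf n θ ≤ X) : Complete p A θ :=
  ⟨X, hX, fun _ ha ha1 => S.theta_le_of_lines ha ha1 fun n hn _ => h n hn⟩

/-! ### The fixed group -/

theorem C_mem : Cfsg.signalizerInf A θ ∈ Cfsg.signalizerFamily p A θ :=
  Grp.signalizerInf_mem_family S.hθ le_rfl S.A_ne

theorem C_le_theta {a : G} (ha : a ∈ A) (ha1 : a ≠ 1) : Cfsg.signalizerInf A θ ≤ θ a :=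
  Grp.signalizerInf_le ha ha1

theorem C_le_K {n : Subgroup G} (hn : IsLine p A n) :
    Cfsg.signalizerInf A θ ≤ Cfsg.signalizerInf n θ := Grp.signalizerInf_anti hn.1

theorem member_A_le_C {U : Subgroup G} (hU : U ∈ Cfsg.signalizerFamily p A θ) :
    U ⊓ centralizer (A : Set G) ≤ Cfsg.signalizerInf A θ := Grp.family_centralizer_le hU le_rfl

theorem C_le_centralizer : Cfsg.signalizerInf A θ ≤ centralizer (A : Set G) :=
  le_centralizer_iff.mp (Grp.signalizerInf_le_centralizer S.hθ.1 le_rfl)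

theorem C_le_normalizer_point {a : G} (ha : a ∈ A) (ha1 : a ≠ 1) :
    Cfsg.signalizerInf A θ ≤ normalizer ((θ a : Subgroup G) : Set G) :=
  (S.C_le_theta ha ha1).trans le_normalizer

/-- A member centralized by enough points is fixed. -/
theorem le_C_of_span {U : Subgroup G} (hU : U ∈ Cfsg.signalizerFamily p A θ) {T : Set G}
    (hT : A ≤ closure T) (h : ∀ a ∈ T, U ≤ centralizer ({a} : Set G)) :
    U ≤ Cfsg.signalizerInf A θ := by
  refine le_trans (le_inf le_rfl (le_centralizer_iff.mp (hT.trans ((closure_le _).mpr fun a ha => ?_))))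
    (S.member_A_le_C hU)
  rw [SetLike.mem_coe, mem_centralizer_iff]
  exact fun u hu => (mem_centralizer_iff.mp (h a ha hu) a rfl).symm

/-! ### Maximal members and primes -/

theorem exists_max {U : Subgroup G} (hU : U ∈ Cfsg.signalizerFamily p A θ) :
    ∃ M, IsMax p A θ M ∧ U ≤ M := by
  obtain ⟨M, ⟨h1, h2⟩, hmax⟩ := Set.Finite.exists_maximalFor id
    {V | V ∈ Cfsg.signalizerFamily p A θ ∧ U ≤ V} (Set.toFinite _) ⟨U, hU, le_rfl⟩
  exact ⟨M, ⟨h1, fun V hV hMV => hmax ⟨hV, h2.trans hMV⟩ hMV⟩, h2⟩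

theorem prime_ne_p {U : Subgroup G} (hU : U ∈ Cfsg.signalizerFamily p A θ) {q : ℕ}
    (hd : q ∣ Nat.card U) : q ≠ p := fun e => hU.2.1 (e ▸ hd)

theorem ne_p_of_pGroup {q : ℕ} [Fact q.Prime] {U : Subgroup G} (hU : U ∈ Cfsg.signalizerFamily p A θ)
    (hUq : IsPGroup q U) (hne : U ≠ ⊥) : q ≠ p := by
  rintro rfl
  obtain ⟨x, hx, hxp⟩ := Grp.exists_prime_order_mem hne
  obtain ⟨n, hn⟩ := IsPGroup.iff_orderOf.mp hUq ⟨x, hx⟩
  rw [Subgroup.orderOf_mk] at hn
  rw [hn] at hxp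
  have hn0 : n ≠ 0 := fun h => by rw [h, pow_zero] at hxp; exact Nat.not_prime_one hxp
  refine hU.2.1 ((dvd_pow_self q hn0).trans ?_)
  rw [← hn]
  exact Subgroup.orderOf_dvd_natCard _ hx

theorem coprime_A {U : Subgroup G} (hU : U ∈ Cfsg.signalizerFamily p A θ) :
    (Nat.card A).Coprime (Nat.card U) := Grp.family_coprime S.hA hU

theorem exists_theta_of_dvd {U : Subgroup G} (hU : U ∈ Cfsg.signalizerFamily p A θ) {q : ℕ}
    (hq : q.Prime) (hd : q ∣ Nat.card U) : ∃ a ∈ A, a ≠ 1 ∧ q ∣ Nat.card (θ a) := by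
  have := Fact.mk hq
  obtain ⟨X, hX, hXA⟩ := Grp.exists_invariant_sylow A U (S.normalizer_mem hU) (S.coprime_A hU)
    (Or.inr hU.1) q
  have hXm := S.sub_mem hU hX.1 hXA
  have hX1 : X ≠ ⊥ := by
    intro e
    have h2 := hX.2.2
    rw [e, Subgroup.relIndex_bot_left] at h2
    exact h2 hd
  obtain ⟨n, hn⟩ := S.exists_line
  by_contra hne
  push Not at hne
  refine hX1 (le_bot_iff.mp (S.member_le_of_line hXm hn fun b hb hb1 => ?_))
  intro x hx
  have hxθ := S.mem_inf_point hXm (hn.1 hb) hb1 hx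
  obtain ⟨k, hk⟩ := IsPGroup.iff_orderOf.mp hX.2.1 ⟨x, hx.1⟩
  rw [Subgroup.orderOf_mk] at hk
  cases k with
  | zero => rw [pow_zero, orderOf_eq_one_iff] at hk; rw [hk]; exact one_mem _
  | succ k =>
    exact absurd ((hk ▸ dvd_pow_self q k.succ_ne_zero).trans (Subgroup.orderOf_dvd_natCard _ hxθ))
      (hne b (hn.1 hb) hb1)

/-! ### Cores of members -/

theorem coreOf_mem {M : Subgroup G} (hM : M ∈ Cfsg.signalizerFamily p A θ) (r : ℕ) :
    coreOf r M ∈ Cfsg.signalizerFamily p A θ :=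
  S.sub_mem hM (Grp.coreOf_le M) ((S.normalizer_mem hM).trans (Grp.normalizer_le_coreOf M r))

theorem centralizer_cores_le {M : Subgroup G} (hM : M ∈ Cfsg.signalizerFamily p A θ) {x : G}
    (hx : x ∈ M) (h : ∀ r : ℕ, r.Prime → x ∈ centralizer ((coreOf r M : Subgroup G) : Set G)) :
    (⟨x, hx⟩ : M) ∈ Cfsg.fittingSubgroup ↥M := by
  have := hM.1
  refine Grp.centralizer_fittingSubgroup_le ?_
  rw [Grp.fittingSubgroup_eq_iSup_pCore]
  refine le_centralizer_iff.mp (iSup_le fun r => ?_) (mem_zpowers _)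
  intro y hy
  rw [← Grp.centralizer_singleton_eq_zpowers, mem_centralizer_iff]
  intro w hw
  rw [Set.mem_singleton_iff] at hw
  subst hw
  exact Subtype.ext (mem_centralizer_iff.mp (h r r.2) _ ⟨y, hy, rfl⟩).symm

theorem mem_core_of_centralizes {M : Subgroup G} (hM : M ∈ Cfsg.signalizerFamily p A θ) {x : G}
    (hx : x ∈ M) {q : ℕ} [Fact q.Prime] {Q : Subgroup G} (hQ : IsPGroup q Q) (hxQ : x ∈ Q)
    (h : ∀ r : ℕ, r.Prime → x ∈ centralizer ((coreOf r M : Subgroup G) : Set G)) : x ∈ coreOf q M :=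
  ⟨_, Grp.mem_pCore_of_mem_fitting (S.centralizer_cores_le hM hx h)
    (isPGroup_zpowers_subtype hQ hxQ hx), rfl⟩

theorem exists_core_ne_bot {M : Subgroup G} (hM : M ∈ Cfsg.signalizerFamily p A θ) (hM1 : M ≠ ⊥) :
    ∃ r : ℕ, r.Prime ∧ r ∣ Nat.card M ∧ coreOf r M ≠ ⊥ := by
  obtain ⟨x, hx, hxp⟩ := Grp.exists_prime_order_mem hM1
  by_contra hne
  have h0 : ∀ r : ℕ, r.Prime → coreOf r M = ⊥ := fun r hr => by
    by_contra h1
    refine hne ⟨r, hr, ?_, h1⟩
    have := Fact.mk hr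
    obtain ⟨n, hn⟩ := IsPGroup.iff_card.mp (Grp.coreOf_isPGroup (r := r) M)
    cases n with
    | zero => exact absurd (Subgroup.card_eq_one.mp (by rw [hn, pow_zero])) h1
    | succ n => exact (hn ▸ dvd_pow_self r n.succ_ne_zero).trans (card_dvd_of_le (Grp.coreOf_le M))
  have := Fact.mk hxp
  have h2 := S.mem_core_of_centralizes hM hx (Q := zpowers x) (q := orderOf x)
    (IsPGroup.of_card (n := 1) (by rw [Nat.card_zpowers, pow_one])) (mem_zpowers x) fun r hr => by
      rw [h0 r hr]; simp [mem_centralizer_iff]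
  rw [h0 _ hxp, mem_bot] at h2
  rw [h2, orderOf_one] at hxp
  exact Nat.not_prime_one hxp

/-- An operator centralizing all cores centralizes a solvable member. -/
theorem le_centralizer_of_cores {M : Subgroup G} (hM : M ∈ Cfsg.signalizerFamily p A θ) {d : G}
    (hd : d ∈ A) (h : ∀ r : ℕ, r.Prime → coreOf r M ≤ centralizer ({d} : Set G)) :
    M ≤ centralizer ({d} : Set G) := by
  have hMs := hM.1
  have hdM := S.mem_normalizer_member hM hd
  have hd' : ∀ r : ℕ, r.Prime → d ∈ centralizer ((coreOf r M : Subgroup G) : Set G) := fun r hr =>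
    le_centralizer_iff.mp (Grp.centralizer_singleton_eq_zpowers (G := G) d ▸ h r hr) (mem_zpowers d)
  have hcomm : ⁅M, zpowers d⁆ ≤ centralizer ({d} : Set G) := by
    have hle : ⁅M, zpowers d⁆ ≤ M := Grp.commutator_le_left_of_le_normalizer (zpowers_le.mpr hdM)
    intro x hx
    have hF := S.centralizer_cores_le hM (hle hx) fun r hr => ?_
    · have h2 : (Cfsg.fittingSubgroup ↥M).map M.subtype ≤ centralizer ({d} : Set G) := by
        rw [Grp.fittingSubgroup_eq_iSup_pCore, Subgroup.map_iSup]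
        exact iSup_le fun r => h r r.2
      exact h2 ⟨_, hF, rfl⟩
    · have hn : M ≤ normalizer ((coreOf r M : Subgroup G) : Set G) :=
        le_normalizer.trans (Grp.normalizer_le_coreOf M r)
      refine (show ⁅M, zpowers d⁆ ≤ centralizer ((coreOf r M : Subgroup G) : Set G) from ?_) hx
      rw [commutator_le]
      intro m hm k hk
      have hk' : k ∈ centralizer ((coreOf r M : Subgroup G) : Set G) := zpowers_le.mpr (hd' r hr) hk
      rw [commutatorElement_def]
      refine mul_mem ?_ (inv_mem hk')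
      rw [mem_centralizer_iff]
      intro y hy
      have h5 := mem_centralizer_iff.mp hk' _ (Grp.mem_conj_normalizer' (hn hm) hy)
      calc y * (m * k * m⁻¹) = m * ((m⁻¹ * y * m) * k) * m⁻¹ := by group
        _ = m * (k * (m⁻¹ * y * m)) * m⁻¹ := by rw [h5]
        _ = _ := by group
  have hcd : ⁅M, zpowers d⁆ = ⊥ := by
    have hcop : (Nat.card (zpowers d)).Coprime (Nat.card M) := coprime_zpowers (S.pow_eq hd) hM.2.1
    rw [← Grp.commutator_commutator_eq (zpowers d) M (zpowers_le.mpr hdM) hcop (Or.inl inferInstance),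
      commutator_eq_bot_iff_le_centralizer]
    rwa [← Grp.centralizer_singleton_eq_zpowers]
  rw [Grp.centralizer_singleton_eq_zpowers]
  exact commutator_eq_bot_iff_le_centralizer.mp hcd

/-! ### `q`-members -/

variable {q : ℕ} [hq : Fact q.Prime]

theorem exists_maxQ : ∃ Q, IsMaxQMember p q A θ Q := by
  obtain ⟨Q, hQ, -⟩ := Grp.exists_maxQMember (q := q) S.bot_mem IsPGroup.of_bot
  exact ⟨Q, hQ⟩

theorem le_maxQ {U Q : Subgroup G} (hU : U ∈ Cfsg.signalizerFamily p A θ) (hUq : IsPGroup q U)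
    (hUC : Cfsg.signalizerInf A θ ≤ normalizer (U : Set G)) (hQ : IsMaxQMember p q A θ Q) : U ≤ Q := by
  obtain ⟨R, hR, hUR⟩ := Grp.exists_maxQMember hU hUq
  obtain ⟨c, hc, e⟩ := Grp.maxQMember_conj S.hA S.card3 S.hθ hR hQ
  rw [← e, ← Grp.mem_normalizer_iff_smul.mp (hUC hc)]
  exact Subgroup.pointwise_smul_le_pointwise_smul_iff.mpr hUR

theorem maxQ_inf_sylow {Q H : Subgroup G} (hQ : IsMaxQMember p q A θ Q)
    (hH : H ∈ Cfsg.signalizerFamily p A θ) (hCH : Cfsg.signalizerInf A θ ≤ H) :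
    IsSylowIn q (Q ⊓ H) H := by
  obtain ⟨c, hc, h⟩ := Grp.maxQMember_inf_isSylowIn S.hA S.card3 S.hθ hQ hH
  have h2 := h.smul (g := c⁻¹) (Grp.conj_smul_eq_self_of_mem (inv_mem (hCH hc)))
  rwa [Subgroup.smul_inf, Grp.conj_smul_conj_smul, inv_mul_cancel, map_one, one_smul,
    Grp.conj_smul_eq_self_of_mem (inv_mem (hCH hc))] at h2

theorem exists_maxQ_sylow {H : Subgroup G} (hH : H ∈ Cfsg.signalizerFamily p A θ) :
    ∃ R, IsMaxQMember p q A θ R ∧ IsSylowIn q (R ⊓ H) H := by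
  obtain ⟨Q, hQ⟩ := S.exists_maxQ (q := q)
  obtain ⟨c, hc, h⟩ := Grp.maxQMember_inf_isSylowIn S.hA S.card3 S.hθ hQ hH
  exact ⟨_, hQ.conj S.A_ne S.hθ.1 hc, h⟩

theorem sylow_theta {Q : Subgroup G} (hQ : IsMaxQMember p q A θ Q) {a : G} (ha : a ∈ A) (ha1 : a ≠ 1) :
    IsSylowIn q (Q ⊓ θ a) (θ a) :=
  S.maxQ_inf_sylow hQ (S.theta_mem ha ha1) (S.C_le_theta ha ha1)

theorem coreOf_le_maxQ {M Q : Subgroup G} (hM : M ∈ Cfsg.signalizerFamily p A θ)
    (hCM : Cfsg.signalizerInf A θ ≤ M) (hQ : IsMaxQMember p q A θ Q) : coreOf q M ≤ Q :=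
  S.le_maxQ (S.coreOf_mem hM q) (Grp.coreOf_isPGroup M)
    (hCM.trans (le_normalizer.trans (Grp.normalizer_le_coreOf M q))) hQ

end Setup

end Cfsg.Agent.Transfer.SFT
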