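import Mathlib
import Cfsg.Agent.Lib.Transfer.SFT.Family
import Cfsg.Agent.Lib.Grp.CoprimeHall

/-!
The inductive reduction: normalisers of members and the functors of Hall subgroups.
-/

set_option autoImplicit false
set_option linter.unusedSectionVars false

namespace Cfsg.Agent.Transfer.SFT

open Subgroup
open Cfsg.Agent.Grp.PiHall (IsPiNum)
open scoped commutatorElement Pointwise

universe u

/-- Normalisers of nontrivial members have largest members. -/
def HasW {G : Type u} [Group G] (p : ℕ) (A : Subgroup G) (θ : G → Subgroup G) : Prop :=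
  ∀ U ∈ Cfsg.signalizerFamily p A θ, U ≠ ⊥ → ∃ W ∈ Cfsg.signalizerFamily p A θ,
    U ≤ W ∧ W ≤ normalizer (U : Set G) ∧
      ∀ H ∈ Cfsg.signalizerFamily p A θ, H ≤ normalizer (U : Set G) → H ≤ W

/-- Proper sets of primes have largest invariant members. -/
def HasS {G : Type u} [Group G] (p : ℕ) (A : Subgroup G) (θ : G → Subgroup G) : Prop :=
  ∀ σ : Set ℕ, (∃ a ∈ A, a ≠ 1 ∧ ¬ IsPiNum σ (Nat.card (θ a))) →
    ∃ X ∈ Cfsg.signalizerFamily p A θ, IsPiNum σ (Nat.card X) ∧
      Cfsg.signalizerInf A θ ≤ normalizer (X : Set G) ∧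
      ∀ U ∈ Cfsg.signalizerFamily p A θ, IsPiNum σ (Nat.card U) →
        Cfsg.signalizerInf A θ ≤ normalizer (U : Set G) → U ≤ X

/-- The situation of a minimal counterexample. -/
structure Hyp {G : Type u} [Group G] (p : ℕ) (A : Subgroup G) (θ : G → Subgroup G) : Prop
    extends Setup p A θ where
  hW : HasW p A θ
  hS : HasS p A θ

section Sigma

variable {G : Type u} [Group G] {p : ℕ} {A : Subgroup G} {θ : G → Subgroup G}

/-- The largest invariant `σ`-subgroup of `θ a`. -/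
def sigmaFun (σ : Set ℕ) (A : Subgroup G) (θ : G → Subgroup G) (a : G) : Subgroup G :=
  sSup {U : Subgroup G | U ≤ θ a ∧ A ≤ normalizer (U : Set G) ∧
    Cfsg.signalizerInf A θ ≤ normalizer (U : Set G) ∧ IsPiNum σ (Nat.card U)}

theorem sigmaFun_le (σ : Set ℕ) (a : G) : sigmaFun σ A θ a ≤ θ a := sSup_le fun _ h => h.1

theorem le_sigmaFun {σ : Set ℕ} {a : G} {U : Subgroup G} (h1 : U ≤ θ a)
    (h2 : A ≤ normalizer (U : Set G)) (h3 : Cfsg.signalizerInf A θ ≤ normalizer (U : Set G))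
    (h4 : IsPiNum σ (Nat.card U)) : U ≤ sigmaFun σ A θ a := le_sSup ⟨h1, h2, h3, h4⟩

theorem sigmaFun_invariant (σ : Set ℕ) (a : G) :
    A ≤ normalizer ((sigmaFun σ A θ a : Subgroup G) : Set G) := by
  rw [sigmaFun, sSup_eq_iSup]
  exact le_normalizer_iSup fun U => le_normalizer_iSup fun h => h.2.1

theorem C_le_normalizer_sigmaFun (σ : Set ℕ) (a : G) :
    Cfsg.signalizerInf A θ ≤ normalizer ((sigmaFun σ A θ a : Subgroup G) : Set G) := by
  rw [sigmaFun, sSup_eq_iSup]
  exact le_normalizer_iSup fun U => le_normalizer_iSup fun h => h.2.2.1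

variable [Finite G] [hp : Fact p.Prime]

theorem sigmaFun_isPiNum (S : Setup p A θ) (σ : Set ℕ) {a : G} (ha : a ∈ A) (ha1 : a ≠ 1) :
    IsPiNum σ (Nat.card (sigmaFun σ A θ a)) := by
  have hm := S.theta_mem ha ha1
  haveI := hm.1
  obtain ⟨H, hH, hAH, -⟩ := Grp.PiHall.exists_ge (π := σ) _ G A (θ a) ⊥ rfl (S.normalizer_mem hm)
    (S.coprime_A hm) hm.1 bot_le (S.normalizer_mem S.bot_mem)
    (by
      intro q hq hd
      rw [Subgroup.card_bot] at hd
      exact absurd (Nat.dvd_one.mp hd) hq.one_lt.ne')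
  intro q hq hd
  refine hH.2.1 q hq (hd.trans (card_dvd_of_le (sSup_le fun U ⟨h1, h2, h3, h4⟩ => ?_)))
  obtain ⟨H', hH', hAH', hUH'⟩ := Grp.PiHall.exists_ge (π := σ) _ G A (θ a) U rfl (S.normalizer_mem hm)
    (S.coprime_A hm) hm.1 h1 h2 h4
  obtain ⟨c, hc, hcH⟩ := Grp.PiHall.centralizer_conj (S.normalizer_mem hm) (S.coprime_A hm) hH' hAH'
    hH hAH
  have hcC : c ∈ Cfsg.signalizerInf A θ := S.member_A_le_C hm hc
  rw [← hcH, ← Grp.mem_normalizer_iff_smul.mp (h3 hcC)]
  exact Subgroup.pointwise_smul_le_pointwise_smul_iff.mpr hUH'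

theorem sigmaFun_setup (S : Setup p A θ) (σ : Set ℕ) : Setup p A (sigmaFun σ A θ) := by
  refine ⟨S.hA, S.card, ⟨fun a ha ha1 => (sigmaFun_le σ a).trans (S.theta_le_centralizer ha ha1),
    fun a ha ha1 h => (S.theta_mem ha ha1).2.1 (h.trans (card_dvd_of_le (sigmaFun_le σ a))),
    fun a _ _ => Grp.invariant_iff.mpr (sigmaFun_invariant σ a),
    fun a ha ha1 b hb hb1 => ?_⟩,
    fun a ha ha1 => Grp.isSolvable_of_le (sigmaFun_le σ a) (S.theta_mem ha ha1).1⟩
  refine le_sigmaFun ((inf_le_inf_right _ (sigmaFun_le σ a)).trans (S.hθ.1.2.2.2 a ha ha1 b hb hb1))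
    (Grp.le_normalizer_inf' (sigmaFun_invariant σ a) (S.le_normalizer_centralizer_one hb))
    (Grp.le_normalizer_inf' (C_le_normalizer_sigmaFun σ a) ?_) ?_
  · refine le_trans ?_ le_normalizer
    exact S.C_le_centralizer.trans (centralizer_le (Set.singleton_subset_iff.mpr hb))
  · exact fun q hq hd => sigmaFun_isPiNum S σ ha ha1 q hq (hd.trans (card_dvd_of_le inf_le_left))

end Sigma

section Quotient

variable {G : Type u} [Group G] [Finite G] {p : ℕ} [hp : Fact p.Prime] {A : Subgroup G}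
  {θ : G → Subgroup G} (S : Setup p A θ)

include S

/-- A member inside a proper normaliser, from completeness there. -/
theorem exists_W_of_subgroup {U : Subgroup G} (hU : U ∈ Cfsg.signalizerFamily p A θ)
    (ih : ∀ (A' : Subgroup (normalizer (U : Set G))) (θ' : normalizer (U : Set G) → Subgroup (normalizer (U : Set G))),
      Setup p A' θ' → Complete p A' θ') :
    ∃ W ∈ Cfsg.signalizerFamily p A θ, U ≤ W ∧ W ≤ normalizer (U : Set G) ∧
      ∀ H ∈ Cfsg.signalizerFamily p A θ, H ≤ normalizer (U : Set G) → H ≤ W := by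
  set N := normalizer (U : Set G)
  have hAN : A ≤ N := S.normalizer_mem hU
  set θ' : N → Subgroup N := fun a => (θ a).subgroupOf N
  have hpt : ∀ {a : N}, a ∈ A.subgroupOf N → a ≠ 1 → (a : G) ∈ A ∧ (a : G) ≠ 1 :=
    fun {a} h h1 => ⟨mem_subgroupOf.mp h, fun e => h1 (Subtype.ext e)⟩
  have hcard : ∀ Y : Subgroup G, Nat.card (Y.subgroupOf N) ∣ Nat.card Y := fun Y => by
    have h := Subgroup.card_map_of_injective N.subtype_injective (K := Y.subgroupOf N)
    rw [Subgroup.subgroupOf_map_subtype] at h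
    exact h ▸ card_dvd_of_le inf_le_left
  have S' : Setup p (A.subgroupOf N) θ' := by
    refine ⟨⟨⟨⟨fun x y => Subtype.ext (Subtype.ext (S.comm x.2 y.2))⟩⟩,
      fun a ha => Subtype.ext (by rw [SubmonoidClass.coe_pow]; exact S.pow_eq (mem_subgroupOf.mp ha))⟩,
      by rw [Nat.card_congr (subgroupOfEquivOfLe hAN).toEquiv, S.card],
      ⟨fun a ha ha1 x hx => ?_, fun a ha ha1 hd => ?_, fun a ha ha1 b hb x hx => ?_,
        fun a ha ha1 b hb hb1 x hx => ?_⟩, fun a ha ha1 => ?_⟩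
    · obtain ⟨h1, h2⟩ := hpt ha ha1
      rw [mem_centralizer_iff]
      rintro y (rfl : y = a)
      exact Subtype.ext (mem_centralizer_iff.mp (S.theta_le_centralizer h1 h2 hx) _ rfl)
    · obtain ⟨h1, h2⟩ := hpt ha ha1
      exact (S.theta_mem h1 h2).2.1 (hd.trans (hcard _))
    · obtain ⟨h1, h2⟩ := hpt ha ha1
      exact (S.theta_mem h1 h2).2.2.1 b (mem_subgroupOf.mp hb) x hx
    · obtain ⟨h1, h2⟩ := hpt ha ha1
      obtain ⟨h3, h4⟩ := hpt hb hb1
      refine S.hθ.1.2.2.2 _ h1 h2 _ h3 h4 ⟨hx.1, ?_⟩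
      show (x : G) ∈ centralizer ({(b : G)} : Set G)
      rw [mem_centralizer_iff]
      rintro y (rfl : y = (b : G))
      exact congrArg Subtype.val (mem_centralizer_iff.mp hx.2 b rfl)
    · obtain ⟨h1, h2⟩ := hpt ha ha1
      haveI := (S.theta_mem h1 h2).1
      exact Grp.isSolvable_of_injective (N.subtype.subgroupComap (θ a))
        (fun x y h => by
          have h3 : ((x : N) : G) = ((y : N) : G) := congrArg (fun z : θ (a : G) => (z : G)) h
          exact Subtype.ext (Subtype.ext h3)) (S.theta_mem h1 h2).1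
  obtain ⟨X, hX, hXθ⟩ := ih _ θ' S'
  have hXN : X.map N.subtype ≤ N := map_subtype_le X
  have hXm : X.map N.subtype ∈ Cfsg.signalizerFamily p A θ := by
    refine ⟨?_, ?_, ?_, fun a ha ha1 => ?_⟩
    · exact Grp.isSolvable_map hX.1 _
    · rw [Subgroup.card_map_of_injective N.subtype_injective]; exact hX.2.1
    · rintro b hb _ ⟨x, hx, rfl⟩
      exact ⟨_, hX.2.2.1 ⟨b, hAN hb⟩ (mem_subgroupOf.mpr hb) x hx, rfl⟩
    · rintro _ ⟨⟨x, hx, rfl⟩, hxa⟩
      exact hX.2.2.2 ⟨a, hAN ha⟩ (mem_subgroupOf.mpr ha) (fun e => ha1 (congrArg Subtype.val e))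
        ⟨hx, mem_centralizer_iff.mpr (fun y hy => by
          rw [Set.mem_singleton_iff] at hy
          subst hy
          exact Subtype.ext (mem_centralizer_iff.mp hxa a rfl))⟩
  have hlargest : ∀ H ∈ Cfsg.signalizerFamily p A θ, H ≤ N → H ≤ X.map N.subtype := by
    intro H hH hHN
    obtain ⟨n, hn⟩ := S.exists_line
    refine S.member_le_of_line hH hn fun b hb hb1 x hx => ?_
    exact ⟨⟨x, hHN hx.1⟩, hXθ ⟨b, hAN (hn.1 hb)⟩ (mem_subgroupOf.mpr (hn.1 hb))
      (fun e => hb1 (congrArg Subtype.val e))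
      (mem_subgroupOf.mpr (S.mem_inf_point hH (hn.1 hb) hb1 hx)), rfl⟩
  exact ⟨_, hXm, hlargest U hU le_normalizer, hXN, hlargest⟩

/-- A member for a normal member, from completeness in the quotient. -/
theorem exists_W_of_quotient {U : Subgroup G} [U.Normal] (hU : U ∈ Cfsg.signalizerFamily p A θ)
    (ih : ∀ (A' : Subgroup (G ⧸ U)) (θ' : G ⧸ U → Subgroup (G ⧸ U)),
      Setup p A' θ' → Complete p A' θ') :
    ∃ W ∈ Cfsg.signalizerFamily p A θ, U ≤ W ∧ W ≤ normalizer (U : Set G) ∧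
      ∀ H ∈ Cfsg.signalizerFamily p A θ, H ≤ normalizer (U : Set G) → H ≤ W := by
  set f := QuotientGroup.mk' U with hf
  have hone : ∀ x : G, f x = 1 ↔ x ∈ U := fun x => QuotientGroup.eq_one_iff x
  have hAU : A ⊓ U = ⊥ := Grp.inf_eq_bot_of_coprime (S.coprime_A hU)
  have hinj : ∀ a ∈ A, ∀ b ∈ A, f a = f b → a = b := fun a ha b hb h => by
    have h1 : a⁻¹ * b ∈ A ⊓ U :=
      ⟨A.mul_mem (A.inv_mem ha) hb, (hone _).mp (by rw [map_mul, map_inv, h, inv_mul_cancel])⟩
    rw [hAU, mem_bot] at h1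
    exact inv_mul_eq_one.mp h1
  set θ' : G ⧸ U → Subgroup (G ⧸ U) := fun x => ⨆ a : {a : G // a ∈ A ∧ f a = x}, (θ a).map f with hθ'
  have hval : ∀ a ∈ A, θ' (f a) = (θ a).map f := fun a ha =>
    le_antisymm (iSup_le fun b => le_of_eq (congrArg (fun c : G => (θ c).map f) (hinj _ b.2.1 a ha b.2.2)))
      (le_iSup (fun b : {b : G // b ∈ A ∧ f b = f a} => (θ b).map f) ⟨a, ha, rfl⟩)
  have hpt : ∀ {x : G ⧸ U}, x ∈ A.map f → x ≠ 1 → ∃ a ∈ A, a ≠ 1 ∧ f a = x := by
    rintro _ ⟨a, ha, rfl⟩ h1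
    exact ⟨a, ha, fun e => h1 (by rw [e, map_one]), rfl⟩
  have S' : Setup p (A.map f) θ' := by
    refine ⟨⟨⟨⟨?_⟩⟩, ?_⟩, ?_, ⟨fun x hx hx1 => ?_, fun x hx hx1 hd => ?_, fun x hx hx1 y hy z hz => ?_,
      fun x hx hx1 y hy hy1 z hz => ?_⟩, fun x hx hx1 => ?_⟩
    · rintro ⟨_, a, ha, rfl⟩ ⟨_, b, hb, rfl⟩
      exact Subtype.ext (show f a * f b = f b * f a by rw [← map_mul, ← map_mul, S.comm ha hb])
    · rintro _ ⟨a, ha, rfl⟩
      rw [← map_pow, S.pow_eq ha, map_one]
    · have hc : Nat.card (A.map f) = Nat.card A := by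
        refine (Nat.card_congr (Equiv.ofBijective (fun a : A => (⟨f a, mem_map_of_mem f a.2⟩ : A.map f))
          ⟨fun a b h => Subtype.ext (hinj a a.2 b b.2 (congrArg Subtype.val h)), ?_⟩)).symm
        rintro ⟨_, a, ha, rfl⟩
        exact ⟨⟨a, ha⟩, rfl⟩
      rw [hc, S.card]
    · obtain ⟨a, ha, ha1, rfl⟩ := hpt hx hx1
      rw [hval a ha]
      rintro _ ⟨z, hz, rfl⟩
      rw [mem_centralizer_iff]
      rintro w (rfl : w = f a)
      rw [← map_mul, ← map_mul, mem_centralizer_iff.mp (S.theta_le_centralizer ha ha1 hz) a rfl]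
    · obtain ⟨a, ha, ha1, rfl⟩ := hpt hx hx1
      rw [hval a ha] at hd
      exact (S.theta_mem ha ha1).2.1 (hd.trans (Subgroup.card_map_dvd _ f))
    · obtain ⟨a, ha, ha1, rfl⟩ := hpt hx hx1
      obtain ⟨b, hb, rfl⟩ := hy
      rw [hval a ha] at hz ⊢
      obtain ⟨t, ht, rfl⟩ := hz
      exact ⟨_, (S.theta_mem ha ha1).2.2.1 b hb t ht, by rw [map_mul, map_mul, map_inv]⟩
    · obtain ⟨a, ha, ha1, rfl⟩ := hpt hx hx1
      obtain ⟨b, hb, hb1, rfl⟩ := hpt hy hy1
      obtain ⟨hz, hzc⟩ := hz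
      rw [SetLike.mem_coe, hval a ha] at hz
      obtain ⟨t, ht, rfl⟩ := hz
      rw [hval b hb]
      have hm := S.theta_mem ha ha1
      have h1 : b * t * b⁻¹ * t⁻¹ ∈ θ a ⊓ U := by
        refine ⟨(θ a).mul_mem (hm.2.2.1 b hb t ht) ((θ a).inv_mem ht), (hone _).mp ?_⟩
        rw [map_mul, map_mul, map_mul, map_inv, map_inv, mem_centralizer_iff.mp hzc (f b) rfl]
        group
      obtain ⟨c, hc, hk⟩ := exists_fixed_rep_one (S.pow_eq hb) hm.2.1 (S.mem_normalizer_member hm hb)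
        inf_le_left (Grp.le_normalizer_inf' le_normalizer (by rw [normalizer_eq_top]; exact le_top))
        (Grp.le_normalizer_inf' (S.normalizer_mem hm) (S.normalizer_mem hU) hb) ht h1
      refine ⟨c, S.hθ.1.2.2.2 a ha ha1 b hb hb1 hc, ?_⟩
      have := (hone _).mpr hk.2
      rw [map_mul, map_inv, inv_mul_eq_one] at this
      exact this.symm
    · obtain ⟨a, ha, ha1, rfl⟩ := hpt hx hx1
      rw [hval a ha]
      exact Grp.isSolvable_map (S.theta_mem ha ha1).1 _
  obtain ⟨X, hX, hXθ⟩ := ih _ θ' S'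
  have hUX : U ≤ X.comap f := fun x hx => by
    rw [mem_comap, (hone x).mpr hx]; exact one_mem _
  have hXm : X.comap f ∈ Cfsg.signalizerFamily p A θ := by
    refine ⟨?_, ?_, ?_, fun a ha ha1 => ?_⟩
    · have h1 : Group.IsSolvable ↥(U.subgroupOf (X.comap f)) :=
        Grp.isSolvable_of_injective ((subgroupOfEquivOfLe hUX).toMonoidHom) (MulEquiv.injective _) hU.1
      let g : ↥(X.comap f) →* X := f.subgroupComap X
      haveI := hX.1
      exact Group.isSolvable_of_ker_le_range (U.subgroupOf (X.comap f)).subtype g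
        (fun x hx => ⟨⟨x, (hone _).mp (congrArg Subtype.val (MonoidHom.mem_ker.mp hx))⟩, rfl⟩)
    · intro hd
      have h2 : Nat.card (X.comap f) = Nat.card U * Nat.card X := by
        rw [← Grp.card_mul_relIndex hUX]
        congr 1
        have h3 := Subgroup.relIndex_comap (H := (⊥ : Subgroup (G ⧸ U))) f (X.comap f)
        rw [MonoidHom.comap_bot, QuotientGroup.ker_mk', Subgroup.map_comap_eq_self_of_surjective
          (QuotientGroup.mk'_surjective _), Subgroup.relIndex_bot_left] at h3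
        exact h3
      exact (hp.out.dvd_mul.mp (h2 ▸ hd)).elim hU.2.1 hX.2.1
    · intro b hb x hx
      rw [mem_comap, map_mul, map_mul, map_inv]
      exact hX.2.2.1 (f b) (mem_map_of_mem f hb) (f x) hx
    · intro x ⟨hx, hxa⟩
      have hfa : f a ≠ 1 := fun e => ha1 (hinj a ha 1 A.one_mem (by rw [e, map_one]))
      have h1 := hX.2.2.2 (f a) (mem_map_of_mem f ha) hfa ⟨hx, mem_centralizer_iff.mpr (by
        rintro w (rfl : w = f a)
        rw [← map_mul, ← map_mul, mem_centralizer_iff.mp hxa a rfl])⟩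
      rw [hval a ha] at h1
      obtain ⟨t, ht, hte⟩ := h1
      have h2 : t⁻¹ * x ∈ θ a := S.mem_inf_point hU ha ha1
        ⟨(hone _).mp (by rw [map_mul, map_inv, hte, inv_mul_cancel]),
          (centralizer ({a} : Set G)).mul_mem ((centralizer ({a} : Set G)).inv_mem (S.theta_le_centralizer ha ha1 ht)) hxa⟩
      simpa using mul_mem ht h2
  refine ⟨_, hXm, hUX, by rw [normalizer_eq_top]; exact le_top, fun H hH _ => ?_⟩
  obtain ⟨n, hn⟩ := S.exists_line
  refine S.member_le_of_line hH hn fun b hb hb1 x hx => ?_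
  rw [mem_comap]
  refine hXθ (f b) (mem_map_of_mem f (hn.1 hb))
    (fun e => hb1 (hinj b (hn.1 hb) 1 A.one_mem (by rw [e, map_one]))) ?_
  rw [hval b (hn.1 hb)]
  exact mem_map_of_mem f (S.mem_inf_point hH (hn.1 hb) hb1 hx)

end Quotient

/-- Completeness follows from completeness in the minimal situation. -/
theorem complete_of_hyp {p : ℕ} [hp : Fact p.Prime]
    (core : ∀ (G : Type u) [Group G] [Finite G] (A : Subgroup G) (θ : G → Subgroup G),
      Hyp p A θ → Complete p A θ) :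
    ∀ (G : Type u) [Group G] [Finite G] (A : Subgroup G) (θ : G → Subgroup G),
      Setup p A θ → Complete p A θ := by
  intro G _ _ A θ S
  induction hn : Nat.card G using Nat.strong_induction_on generalizing G with
  | _ N ihN =>
  have : Fintype A := Fintype.ofFinite A
  induction hm : ∑ a : A, Nat.card (θ a) using Nat.strong_induction_on generalizing θ with
  | _ m ihm =>
  refine core G A θ { S with hW := ?_, hS := ?_ }
  · intro U hU hU1
    by_cases hN : normalizer (U : Set G) = ⊤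
    · haveI : U.Normal := Subgroup.normalizer_eq_top_iff.mp hN
      refine exists_W_of_quotient S hU fun A' θ' S' => ihN _ ?_ (G ⧸ U) A' θ' S' rfl
      rw [← hn]
      have h1 : Nat.card G = Nat.card (G ⧸ U) * Nat.card U := Subgroup.card_eq_card_quotient_mul_card_subgroup U
      have h2 : 1 < Nat.card U := by
        rcases (Nat.card_pos (α := U)).nat_succ_le.lt_or_eq with h | h
        · exact h
        · exact absurd (Subgroup.card_eq_one.mp h.symm) hU1
      rw [h1]
      exact lt_mul_of_one_lt_right Nat.card_pos h2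
    · refine exists_W_of_subgroup S hU fun A' θ' S' => ihN _ ?_ _ A' θ' S' rfl
      rw [← hn]
      exact lt_of_le_of_ne (Subgroup.card_le_card_group _) fun h => hN (Subgroup.eq_top_of_card_eq _ h)
  · rintro σ ⟨a₀, ha₀, ha₀1, hns⟩
    have S' := sigmaFun_setup S σ
    set θ' : G → Subgroup G := sigmaFun σ A θ
    have hlt : ∑ a : A, Nat.card (θ' a) < m := by
      rw [← hm]
      refine Finset.sum_lt_sum (fun a _ => Subgroup.card_le_of_le (sigmaFun_le σ _))
        ⟨⟨a₀, ha₀⟩, Finset.mem_univ _, lt_of_le_of_ne (Subgroup.card_le_of_le (sigmaFun_le σ _)) fun h => ?_⟩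
      refine hns ?_
      have e : sigmaFun σ A θ a₀ = θ a₀ := Subgroup.eq_of_le_of_card_ge (sigmaFun_le σ _) h.ge
      exact e ▸ sigmaFun_isPiNum S σ ha₀ ha₀1
    obtain ⟨X, hX, hXθ⟩ := ihm _ hlt θ' S' rfl
    obtain ⟨n, hn'⟩ := S.exists_line
    have hXeq : X = ⨆ b : {b : G // b ∈ n ∧ b ≠ 1}, θ' b :=
      le_antisymm (S'.member_le_of_line hX hn' fun b hb hb1 =>
          (S'.mem_inf_point hX (hn'.1 hb) hb1).trans
            (le_iSup (fun b : {b : G // b ∈ n ∧ b ≠ 1} => θ' b) ⟨b, hb, hb1⟩))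
        (iSup_le fun b => hXθ b (hn'.1 b.2.1) b.2.2)
    refine ⟨X, ⟨hX.1, hX.2.1, hX.2.2.1, fun a ha ha1 =>
      (hX.2.2.2 a ha ha1).trans (sigmaFun_le σ a)⟩, ?_, ?_, fun U hU hUσ hUC => ?_⟩
    · intro q hq hd
      obtain ⟨a, ha, ha1, hda⟩ := S'.exists_theta_of_dvd hX hq hd
      exact sigmaFun_isPiNum S σ ha ha1 q hq hda
    · rw [hXeq]
      exact le_normalizer_iSup fun b => C_le_normalizer_sigmaFun σ _
    · refine S.member_le_of_line hU hn' fun b hb hb1 => le_trans ?_ (hXθ b (hn'.1 hb) hb1)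
      refine le_sigmaFun (S.mem_inf_point hU (hn'.1 hb) hb1)
        (Grp.le_normalizer_inf' (S.normalizer_mem hU) (S.le_normalizer_centralizer_one (hn'.1 hb)))
        (Grp.le_normalizer_inf' hUC ?_) fun q hq hd => hUσ q hq (hd.trans (card_dvd_of_le inf_le_left))
      exact ((S.C_le_centralizer).trans (centralizer_le (Set.singleton_subset_iff.mpr (hn'.1 hb)))).trans
        le_normalizer

end Cfsg.Agent.Transfer.SFT
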