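import Mathlib
import Cfsg.Agent.Lib.Transfer.SFT.Reduce

/-!
Consequences of the largest members in normalisers: maximal members, owners of a prime.
-/

set_option autoImplicit false
set_option linter.unusedSectionVars false

namespace Cfsg.Agent.Transfer.SFT

open Subgroup
open Cfsg.Agent.Grp (coreOf IsMaxQMember)
open Cfsg.Agent.Grp.PiHall (IsPiNum)
open scoped commutatorElement Pointwise

universe u

variable {G : Type u} [Group G]

/-- The centre of a subgroup, inside the ambient group. -/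
def zCen (R : Subgroup G) : Subgroup G := R ⊓ centralizer (R : Set G)

theorem zCen_le (R : Subgroup G) : zCen R ≤ R := inf_le_left

theorem zCen_comm {R : Subgroup G} {x y : G} (hx : x ∈ zCen R) (hy : y ∈ R) : x * y = y * x :=
  (mem_centralizer_iff.mp hx.2 y hy).symm

instance zCen_commutative (R : Subgroup G) : IsMulCommutative (zCen R) :=
  ⟨⟨fun x y => Subtype.ext (zCen_comm x.2 y.2.1)⟩⟩

theorem normalizer_le_zCen (R : Subgroup G) :
    normalizer (R : Set G) ≤ normalizer ((zCen R : Subgroup G) : Set G) := by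
  refine Grp.le_normalizer_inf' le_rfl ?_
  refine Grp.invariant_iff.mp fun g hg x hx => ?_
  rw [mem_centralizer_iff] at hx ⊢
  intro y hy
  calc y * (g * x * g⁻¹) = g * ((g⁻¹ * y * g) * x) * g⁻¹ := by group
    _ = g * (x * (g⁻¹ * y * g)) * g⁻¹ := by rw [hx _ (Grp.mem_conj_normalizer' hg hy)]
    _ = _ := by group

theorem zCen_ne_bot [Finite G] {t : ℕ} [Fact t.Prime] {R : Subgroup G} (hR : IsPGroup t R)
    (hne : R ≠ ⊥) : zCen R ≠ ⊥ := by
  haveI : Nontrivial R := (nontrivial_iff_ne_bot R).mpr hne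
  obtain ⟨x, hx⟩ := hR.center_nontrivial.exists_pair_ne
  obtain ⟨y, hxy⟩ := hx
  intro e
  have h : ∀ z : Subgroup.center R, z = 1 := fun z => by
    have h1 : ((z : R) : G) ∈ zCen R := ⟨(z : R).2, mem_centralizer_iff.mpr fun w hw =>
      congrArg Subtype.val (Subgroup.mem_center_iff.mp z.2 ⟨w, hw⟩)⟩
    rw [e, mem_bot] at h1
    exact Subtype.ext (Subtype.ext h1)
  exact hxy ((h x).trans (h y).symm)

theorem zpowers_le_centralizer_of {d : G} {U : Subgroup G} (h : U ≤ centralizer ({d} : Set G)) :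
    zpowers d ≤ centralizer (U : Set G) := by
  rw [Grp.centralizer_singleton_eq_zpowers] at h
  exact le_centralizer_iff.mp h

theorem le_centralizer_one_of {d : G} {U : Subgroup G} (h : zpowers d ≤ centralizer (U : Set G)) :
    U ≤ centralizer ({d} : Set G) := by
  rw [Grp.centralizer_singleton_eq_zpowers]
  exact le_centralizer_iff.mp h

/-- Every `q`-member is centralized by `d`. -/
def Owner (p q : ℕ) (A : Subgroup G) (θ : G → Subgroup G) (d : G) : Prop :=
  ∀ U ∈ Cfsg.signalizerFamily p A θ, IsPGroup q U → U ≤ centralizer ({d} : Set G)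

theorem inf_pgroup_eq_bot [Finite G] {q r : ℕ} [Fact q.Prime] [Fact r.Prime] (h : q ≠ r)
    {U V : Subgroup G} (hU : IsPGroup q U) (hV : IsPGroup r V) : U ⊓ V = ⊥ :=
  Grp.inf_eq_bot_of_coprime (IsPGroup.coprime_card_of_ne q r h U V hU hV)

theorem commutator_mem_of_normalizes {H : Subgroup G} {g x : G} (hg : g ∈ normalizer (H : Set G))
    (hx : x ∈ H) : ⁅g, x⁆ ∈ H := by
  rw [commutatorElement_def]
  exact mul_mem (Grp.mem_conj_normalizer hg hx) (inv_mem hx)

theorem commutator_mem_of_normalizes' {H : Subgroup G} {g x : G} (hg : g ∈ normalizer (H : Set G))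
    (hx : x ∈ H) : ⁅x, g⁆ ∈ H := by
  rw [commutatorElement_def, mul_assoc, mul_assoc, ← mul_assoc g]
  exact mul_mem hx (Grp.mem_conj_normalizer hg (inv_mem hx))

theorem le_centralizer_of_inf_bot {H K : Subgroup G} (hHK : H ≤ normalizer (K : Set G))
    (hKH : K ≤ normalizer (H : Set G)) (h : H ⊓ K = ⊥) : H ≤ centralizer (K : Set G) := by
  intro x hx
  rw [mem_centralizer_iff]
  intro y hy
  have h1 : ⁅x, y⁆ ∈ H ⊓ K :=
    ⟨commutator_mem_of_normalizes' (hKH hy) hx, commutator_mem_of_normalizes (hHK hx) hy⟩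
  rw [h, mem_bot] at h1
  exact (commutatorElement_eq_one_iff_mul_comm.mp h1).symm

variable [Finite G] {p : ℕ} [hp : Fact p.Prime] {A : Subgroup G} {θ : G → Subgroup G}
  (S : Hyp p A θ)

include S

namespace Hyp

/-- A member normalising a nontrivial normal part of a maximal member lies in it. -/
theorem le_max_of_normalizes {M U H : Subgroup G} (hM : IsMax p A θ M)
    (hU : U ∈ Cfsg.signalizerFamily p A θ) (hU1 : U ≠ ⊥) (hMU : M ≤ normalizer (U : Set G))
    (hH : H ∈ Cfsg.signalizerFamily p A θ) (hHU : H ≤ normalizer (U : Set G)) : H ≤ M := by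
  obtain ⟨W, hW, -, -, hall⟩ := S.hW U hU hU1
  exact (hall H hH hHU).trans (hM.2 W hW (hall M hM.1 hMU))

theorem max_normalizes_core {M : Subgroup G} (r : ℕ) :
    M ≤ normalizer ((coreOf r M : Subgroup G) : Set G) :=
  le_normalizer.trans (Grp.normalizer_le_coreOf M r)

theorem le_max_of_core {M H : Subgroup G} (hM : IsMax p A θ M) {r : ℕ} (hr : coreOf r M ≠ ⊥)
    (hH : H ∈ Cfsg.signalizerFamily p A θ) (hHU : H ≤ normalizer ((coreOf r M : Subgroup G) : Set G)) :
    H ≤ M :=
  le_max_of_normalizes S hM (S.coreOf_mem hM.1 r) hr (max_normalizes_core S r) hH hHU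

theorem le_max_of_zCen {M H : Subgroup G} (hM : IsMax p A θ M) {r : ℕ} [Fact r.Prime]
    (hr : coreOf r M ≠ ⊥) (hH : H ∈ Cfsg.signalizerFamily p A θ)
    (hHU : H ≤ normalizer ((zCen (coreOf r M) : Subgroup G) : Set G)) : H ≤ M :=
  le_max_of_normalizes S hM
    (S.sub_mem (S.coreOf_mem hM.1 r) (zCen_le _)
      ((S.normalizer_mem (S.coreOf_mem hM.1 r)).trans (normalizer_le_zCen _)))
    (zCen_ne_bot (Grp.coreOf_isPGroup M) hr)
    ((max_normalizes_core S r).trans (normalizer_le_zCen _)) hH hHU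

theorem theta_inf_normalizer {a : G} (ha : a ∈ A) (ha1 : a ≠ 1) {U : Subgroup G}
    (hU : U ∈ Cfsg.signalizerFamily p A θ) :
    θ a ⊓ normalizer (U : Set G) ∈ Cfsg.signalizerFamily p A θ :=
  S.sub_mem (S.theta_mem ha ha1) inf_le_left
    (Grp.le_normalizer_inf' (S.normalizer_mem (S.theta_mem ha ha1))
      ((S.normalizer_mem hU).trans le_normalizer))

theorem mem_max_of_core {M : Subgroup G} (hM : IsMax p A θ M) {r : ℕ} (hr : coreOf r M ≠ ⊥)
    {a : G} (ha : a ∈ A) (ha1 : a ≠ 1) {y : G} (hy : y ∈ θ a)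
    (hyU : y ∈ normalizer ((coreOf r M : Subgroup G) : Set G)) : y ∈ M :=
  le_max_of_core S hM hr (theta_inf_normalizer S ha ha1 (S.coreOf_mem hM.1 r)) inf_le_right ⟨hy, hyU⟩

theorem max_eq_theta {M : Subgroup G} (hM : IsMax p A θ M) {d : G} (hd : d ∈ A) (hd1 : d ≠ 1)
    (hle : θ d ≤ M) (hc : M ≤ centralizer ({d} : Set G)) : θ d = M :=
  le_antisymm hle ((le_inf le_rfl hc).trans (S.mem_inf_point hM.1 hd hd1))

theorem owner_of_max {M : Subgroup G} (hM : IsMax p A θ M) (hCM : Cfsg.signalizerInf A θ ≤ M)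
    {t : ℕ} [ht : Fact t.Prime] (htM : coreOf t M ≠ ⊥) {d : G} (hd : d ∈ A)
    (hMd : M ≤ centralizer ({d} : Set G)) : Owner p t A θ d := by
  intro U hU hUt
  obtain ⟨R, hR, hUR⟩ := Grp.exists_maxQMember hU hUt
  refine hUR.trans (le_centralizer_one_of ?_)
  have hTR := S.coreOf_le_maxQ hM.1 hCM hR
  have htp : t ≠ p := S.ne_p_of_pGroup hR.1 hR.2.1 fun e => htM (le_bot_iff.mp (e ▸ hTR))
  refine Grp.thompson_PQ (coreOf t M) (zpowers d) (Grp.coreOf_isPGroup M) ?_ ?_ R hR.2.1
    (hTR.trans le_normalizer) (zpowers_le.mpr (S.mem_normalizer_member hR.1 hd)) ?_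
  · rw [Nat.card_zpowers]
    exact ((Nat.coprime_primes hp.out ht.out).mpr htp.symm).coprime_dvd_left
      (orderOf_dvd_of_pow_eq_one (S.pow_eq hd))
  · exact le_centralizer_iff.mp (zpowers_le_centralizer_of ((Grp.coreOf_le M).trans hMd))
  · have hm : R ⊓ centralizer ((coreOf t M : Subgroup G) : Set G) ∈ Cfsg.signalizerFamily p A θ :=
      S.sub_mem hR.1 inf_le_left (Grp.le_normalizer_inf' (S.normalizer_mem hR.1) ?_)
    · refine (le_max_of_core S hM htM hm (inf_le_right.trans (centralizer_le_normalizer _))).trans ?_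
      rwa [← Grp.centralizer_singleton_eq_zpowers]
    · refine Grp.invariant_iff.mp fun g hg x hx => ?_
      rw [mem_centralizer_iff] at hx ⊢
      intro y hy
      have hgn := S.normalizer_mem (S.coreOf_mem hM.1 t) hg
      calc y * (g * x * g⁻¹) = g * ((g⁻¹ * y * g) * x) * g⁻¹ := by group
        _ = g * (x * (g⁻¹ * y * g)) * g⁻¹ := by rw [hx _ (Grp.mem_conj_normalizer' hgn hy)]
        _ = _ := by group

end Hyp

end Cfsg.Agent.Transfer.SFT
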