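import Mathlib
import Cfsg.Agent.Lib.Transfer.SFT.Common

/-!
Three primes: the intersection of the cores `O_s(S_{s,r})`.
-/

set_option autoImplicit false
set_option linter.unusedSectionVars false

namespace Cfsg.Agent.Transfer.SFT

open Subgroup
open Cfsg.Agent.Grp (coreOf)
open Cfsg.Agent.Grp.PiHall (IsPiNum)
open scoped commutatorElement Pointwise

universe u

variable {G : Type u} [Group G]

/-- A prime of some value of the functor. -/
def IsPi (A : Subgroup G) (θ : G → Subgroup G) (q : ℕ) : Prop :=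
  q.Prime ∧ ∃ a ∈ A, a ≠ 1 ∧ q ∣ Nat.card (θ a)

/-- At least three primes. -/
def HasThree (A : Subgroup G) (θ : G → Subgroup G) : Prop :=
  ∀ s r : ℕ, ∃ q, IsPi A θ q ∧ q ≠ s ∧ q ≠ r

/-- The largest invariant member for a set of primes. -/
def IsBigS (p : ℕ) (A : Subgroup G) (θ : G → Subgroup G) (σ : Set ℕ) (X : Subgroup G) : Prop :=
  X ∈ Cfsg.signalizerFamily p A θ ∧ IsPiNum σ (Nat.card X) ∧
    Cfsg.signalizerInf A θ ≤ normalizer (X : Set G) ∧
    ∀ U ∈ Cfsg.signalizerFamily p A θ, IsPiNum σ (Nat.card U) →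
      Cfsg.signalizerInf A θ ≤ normalizer (U : Set G) → U ≤ X

/-- A choice of the largest invariant member. -/
noncomputable def bigS (p : ℕ) (A : Subgroup G) (θ : G → Subgroup G) (σ : Set ℕ) : Subgroup G :=
  haveI := _root_.Classical.propDecidable (∃ X, IsBigS p A θ σ X)
  if h : ∃ X, IsBigS p A θ σ X then h.choose else ⊥

/-- The intersection of the cores. -/
noncomputable def kern (p : ℕ) (A : Subgroup G) (θ : G → Subgroup G) (s : ℕ) : Subgroup G :=
  ⨅ r : {r : ℕ // IsPi A θ r ∧ r ≠ s}, coreOf s (bigS p A θ {s, (r : ℕ)})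

variable [Finite G] {p : ℕ} [hp : Fact p.Prime] {A : Subgroup G} {θ : G → Subgroup G}
  (S : Hyp p A θ)

include S

theorem isPiNum_of_pGroup {σ : Set ℕ} {s : ℕ} [Fact s.Prime] (hs : s ∈ σ) {U : Subgroup G}
    (hU : IsPGroup s U) : IsPiNum σ (Nat.card U) := by
  intro q hq hd
  obtain ⟨k, hk⟩ := IsPGroup.iff_card.mp hU
  rw [hk] at hd
  rwa [(Nat.prime_dvd_prime_iff_eq hq Fact.out).mp (hq.dvd_of_dvd_pow hd)]

theorem isPGroup_of_isPiNum {s : ℕ} [Fact s.Prime] {U : Subgroup G}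
    (h : IsPiNum ({s} : Set ℕ) (Nat.card U)) : IsPGroup s U :=
  IsPGroup.of_card (Nat.eq_prime_pow_of_unique_prime_dvd Nat.card_pos.ne' fun {d} hd hdvd => h d hd hdvd)

theorem isPi_of_dvd {U : Subgroup G} (hU : U ∈ Cfsg.signalizerFamily p A θ) {q : ℕ} (hq : q.Prime)
    (hd : q ∣ Nat.card U) : IsPi A θ q := ⟨hq, S.exists_theta_of_dvd hU hq hd⟩

theorem isPi_of_core {U : Subgroup G} (hU : U ∈ Cfsg.signalizerFamily p A θ) {q : ℕ} [hq : Fact q.Prime]
    (h : coreOf q U ≠ ⊥) : IsPi A θ q := by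
  obtain ⟨k, hk⟩ := IsPGroup.iff_card.mp (Grp.coreOf_isPGroup (r := q) U)
  cases k with
  | zero => exact absurd (Subgroup.card_eq_one.mp (by rw [hk, pow_zero])) h
  | succ k =>
    exact isPi_of_dvd S hU hq.out
      ((hk ▸ dvd_pow_self q k.succ_ne_zero).trans (card_dvd_of_le (Grp.coreOf_le U)))

theorem bigS_spec {σ : Set ℕ} {q : ℕ} (hq : IsPi A θ q) (hqσ : q ∉ σ) :
    IsBigS p A θ σ (bigS p A θ σ) := by
  obtain ⟨hq', a, ha, ha1, hd⟩ := hq
  obtain ⟨X, h1, h2, h3, h4⟩ := S.hS σ ⟨a, ha, ha1, fun h => hqσ (h q hq' hd)⟩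
  have hex : ∃ X, IsBigS p A θ σ X := ⟨X, h1, h2, h3, h4⟩
  rw [bigS, dif_pos hex]
  exact hex.choose_spec

theorem bigS_pair (h3 : HasThree A θ) (s r : ℕ) : IsBigS p A θ {s, r} (bigS p A θ {s, r}) := by
  obtain ⟨q, hq, hqs, hqr⟩ := h3 s r
  exact bigS_spec S hq (by simp [hqs, hqr])

theorem bigS_one (h3 : HasThree A θ) (s : ℕ) : IsBigS p A θ {s} (bigS p A θ {s}) := by
  obtain ⟨q, hq, hqs, -⟩ := h3 s s
  exact bigS_spec S hq (by simp [hqs])

variable (h3 : HasThree A θ) {s : ℕ} [hs : Fact s.Prime]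

include h3

theorem bigS_one_pGroup : IsPGroup s (bigS p A θ {s}) :=
  isPGroup_of_isPiNum S (bigS_one S h3 s).2.1

theorem le_bigS_one {U : Subgroup G} (hU : U ∈ Cfsg.signalizerFamily p A θ) (hUs : IsPGroup s U)
    (hUC : Cfsg.signalizerInf A θ ≤ normalizer (U : Set G)) : U ≤ bigS p A θ {s} :=
  (bigS_one S h3 s).2.2.2 U hU (isPiNum_of_pGroup S (Set.mem_singleton s) hUs) hUC

theorem bigS_one_le_pair (r : ℕ) : bigS p A θ {s} ≤ bigS p A θ {s, r} :=
  (bigS_pair S h3 s r).2.2.2 _ (bigS_one S h3 s).1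
    (fun q hq hd => Or.inl ((bigS_one S h3 s).2.1 q hq hd)) (bigS_one S h3 s).2.2.1

theorem bigS_right_le {r : ℕ} [Fact r.Prime] {U : Subgroup G} (hU : U ∈ Cfsg.signalizerFamily p A θ)
    (hUr : IsPGroup r U) (hUC : Cfsg.signalizerInf A θ ≤ normalizer (U : Set G)) (s' : ℕ) :
    U ≤ bigS p A θ {s', r} :=
  (bigS_pair S h3 s' r).2.2.2 U hU (isPiNum_of_pGroup S (Or.inr rfl) hUr) hUC

theorem core_pair_le (r : ℕ) : coreOf s (bigS p A θ {s, r}) ≤ bigS p A θ {s} :=
  le_bigS_one S h3 (S.coreOf_mem (bigS_pair S h3 s r).1 s) (Grp.coreOf_isPGroup _)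
    ((bigS_pair S h3 s r).2.2.1.trans (Grp.normalizer_le_coreOf _ s))

theorem pair_inf_pair {r t : ℕ} (hrt : r ≠ t) :
    bigS p A θ {s, t} ⊓ bigS p A θ {s, r} ≤ bigS p A θ {s} := by
  refine (bigS_one S h3 s).2.2.2 _ (S.sub_mem (bigS_pair S h3 s t).1 inf_le_left
    (Grp.le_normalizer_inf' (S.normalizer_mem (bigS_pair S h3 s t).1)
      (S.normalizer_mem (bigS_pair S h3 s r).1))) (fun q hq hd => ?_)
    (Grp.le_normalizer_inf' (bigS_pair S h3 s t).2.2.1 (bigS_pair S h3 s r).2.2.1)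
  rcases (bigS_pair S h3 s t).2.1 q hq (hd.trans (card_dvd_of_le inf_le_left)) with h | h
  · exact h
  rcases (bigS_pair S h3 s r).2.1 q hq (hd.trans (card_dvd_of_le inf_le_right)) with h' | h'
  · exact h'
  · rw [Set.mem_singleton_iff] at h h'
    exact absurd (h'.symm.trans h) hrt

theorem kern_le {r : ℕ} (hr : IsPi A θ r) (hrs : r ≠ s) :
    kern p A θ s ≤ coreOf s (bigS p A θ {s, r}) :=
  iInf_le (fun r : {r : ℕ // IsPi A θ r ∧ r ≠ s} => coreOf s (bigS p A θ {s, (r : ℕ)})) ⟨r, hr, hrs⟩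

theorem le_kern {U : Subgroup G}
    (h : ∀ r, r.Prime → IsPi A θ r → r ≠ s → U ≤ coreOf s (bigS p A θ {s, r})) : U ≤ kern p A θ s :=
  le_iInf fun r => h r r.2.1.1 r.2.1 r.2.2

theorem kern_le_bigS : kern p A θ s ≤ bigS p A θ {s} := by
  obtain ⟨r, hr, hrs, -⟩ := h3 s s
  exact (kern_le S h3 hr hrs).trans (core_pair_le S h3 r)

theorem kern_pGroup : IsPGroup s (kern p A θ s) := (bigS_one_pGroup S h3).to_le (kern_le_bigS S h3)

theorem kern_invariant {H : Subgroup G}
    (h : ∀ r, IsPi A θ r → r ≠ s → H ≤ normalizer ((coreOf s (bigS p A θ {s, r}) : Subgroup G) : Set G)) :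
    H ≤ normalizer ((kern p A θ s : Subgroup G) : Set G) := by
  refine Grp.invariant_iff.mp fun g hg x hx => ?_
  rw [kern, mem_iInf] at hx ⊢
  exact fun r => Grp.mem_conj_normalizer (h r r.2.1 r.2.2 hg) (hx r)

theorem kern_mem : kern p A θ s ∈ Cfsg.signalizerFamily p A θ :=
  S.sub_mem (bigS_one S h3 s).1 (kern_le_bigS S h3) (kern_invariant S h3 fun r _ _ =>
    (S.normalizer_mem (S.coreOf_mem (bigS_pair S h3 s r).1 s)))

theorem C_le_normalizer_kern : Cfsg.signalizerInf A θ ≤ normalizer ((kern p A θ s : Subgroup G) : Set G) :=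
  kern_invariant S h3 fun r _ _ => (bigS_pair S h3 s r).2.2.1.trans (Grp.normalizer_le_coreOf _ s)

theorem bigS_le_normalizer_kern :
    bigS p A θ {s} ≤ normalizer ((kern p A θ s : Subgroup G) : Set G) :=
  kern_invariant S h3 fun r _ _ => (bigS_one_le_pair S h3 r).trans
    (le_normalizer.trans (Grp.normalizer_le_coreOf _ s))

/-- A member containing the fixed group meets the kernel inside its core. -/
theorem kern_inf_le {H : Subgroup G} (hH : H ∈ Cfsg.signalizerFamily p A θ)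
    (hCH : Cfsg.signalizerInf A θ ≤ H) : kern p A θ s ⊓ H ≤ coreOf s H := by
  refine le_core_of_layer hH.1 inf_le_right ((kern_pGroup S h3).to_le inf_le_left)
    (layerPart_le_commSet_of_primes (inf_le_right.trans le_normalizer) fun r hr hrs => ?_)
  haveI := Fact.mk hr
  intro x hx
  have hxH := layerPart_le s r H hx
  by_cases hpi : IsPi A θ r
  · refine ⟨hxH, fun γ hγ => ?_⟩
    have hxS : x ∈ bigS p A θ {s, r} :=
      (bigS_pair S h3 s r).2.2.2 _ (S.sub_mem hH (layerPart_le s r H)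
        ((S.normalizer_mem hH).trans (normalizer_le_layerPart s r H)))
        (layerPart_isPiNum H) ((hCH.trans le_normalizer).trans (normalizer_le_layerPart s r H)) hx
    exact commutator_mem_core_of_invariant (Grp.coreOf_isPGroup (bigS p A θ {s, r}))
      (kern_le S h3 hpi hrs hγ.1) hγ.2 (layerPart_le_layer s H hr hx)
      (Hyp.max_normalizes_core S s hxS)
  · refine coreOf_le_commSet (inf_le_right.trans le_normalizer) ?_
    haveI : (Cfsg.pCore s ↥H).Normal := Grp.pCore_isNormal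
    have hL : IsPGroup s (layerPart s r H) := by
      refine isPGroup_of_isPiNum S fun q hq hd => ?_
      rcases layerPart_isPiNum (s := s) (r := r) H q hq hd with h | h
      · exact h
      · exact absurd (h ▸ isPi_of_dvd S hH hq (hd.trans (card_dvd_of_le (layerPart_le s r H)))) hpi
    exact mem_core_of_mem_layer (layerPart_le_layer s H hr hx) hL hx

/-- A point none of whose maximal members has an `s`-core. -/
def Lacking (p : ℕ) (A : Subgroup G) (θ : G → Subgroup G) (s : ℕ) (e : G) : Prop :=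
  ∀ M, IsMax p A θ M → θ e ≤ M → coreOf s M = ⊥

omit S h3 in
theorem exists_of_not_lacking {e : G} (h : ¬ Lacking p A θ s e) :
    ∃ M, IsMax p A θ M ∧ θ e ≤ M ∧ coreOf s M ≠ ⊥ := by
  unfold Lacking at h
  push Not at h
  exact h

theorem kern_inf_of_lacking {e : G} (he : e ∈ A) (he1 : e ≠ 1) (hl : Lacking p A θ s e)
    {M : Subgroup G} (hM : IsMax p A θ M) (hle : θ e ≤ M) : kern p A θ s ⊓ M = ⊥ :=
  le_bot_iff.mp ((kern_inf_le S h3 hM.1 ((S.C_le_theta he he1).trans hle)).trans (hl M hM hle).le)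

theorem kern_le_core {e : G} (he : e ∈ A) (he1 : e ≠ 1) {M : Subgroup G} (hM : IsMax p A θ M)
    (hle : θ e ≤ M) (hne : coreOf s M ≠ ⊥) :
    coreOf s M ≤ bigS p A θ {s} ∧ kern p A θ s ≤ coreOf s M := by
  have hCM := (S.C_le_theta he he1).trans hle
  set D := coreOf s M with hD
  have hDS : D ≤ bigS p A θ {s} := le_bigS_one S h3 (S.coreOf_mem hM.1 s) (Grp.coreOf_isPGroup _)
    (hCM.trans (Hyp.max_normalizes_core S s))
  refine ⟨hDS, ?_⟩
  set Gk := kern p A θ s
  have hn : D ≤ normalizer (Gk : Set G) := hDS.trans (bigS_le_normalizer_kern S h3)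
  have hPp : IsPGroup s (D ⊔ Gk : Subgroup G) :=
    (bigS_one_pGroup S h3).to_le (sup_le hDS (kern_le_bigS S h3))
  suffices h : ¬ D < D ⊔ Gk from le_sup_right.trans (le_sup_left.lt_or_eq.resolve_left h).ge
  intro hlt
  have h2 := Grp.lt_inf_normalizer hPp.isNilpotent hlt
  refine h2.not_ge ?_
  rintro x ⟨hx, hxN⟩
  change x ∈ D ⊔ Gk at hx
  rw [← SetLike.mem_coe, Subgroup.coe_mul_of_left_le_normalizer_right _ _ hn] at hx
  obtain ⟨d, hd, g, hg, rfl⟩ := hx
  refine mul_mem hd (kern_inf_le S h3 hM.1 hCM ⟨hg, ?_⟩)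
  have hgN : g ∈ normalizer (D : Set G) := by
    simpa using mul_mem (inv_mem (le_normalizer hd)) hxN
  refine Hyp.le_max_of_core S hM hne (S.sub_mem (kern_mem S h3) inf_le_left
    (Grp.le_normalizer_inf' (S.normalizer_mem (kern_mem S h3))
      ((S.normalizer_mem (S.coreOf_mem hM.1 s)).trans le_normalizer))) inf_le_right ⟨hg, hgN⟩

theorem kern_fixed_lacking {e : G} (he : e ∈ A) (he1 : e ≠ 1) (hl : Lacking p A θ s e) :
    kern p A θ s ⊓ centralizer ({e} : Set G) = ⊥ := by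
  obtain ⟨M, hM, hle⟩ := S.exists_max (S.theta_mem he he1)
  rw [eq_bot_iff, ← kern_inf_of_lacking S h3 he he1 hl hM hle]
  exact le_inf inf_le_left ((S.mem_inf_point (kern_mem S h3) he he1).trans hle)

theorem conj_kern_le_bigS {n : Subgroup G} (hn : IsLine p A n) {g : G}
    (hg : g ∈ Cfsg.signalizerInf n θ) : MulAut.conj g • kern p A θ s ≤ bigS p A θ {s} := by
  have h : kern p A θ s ≤ (bigS p A θ {s}).comap (MulAut.conj g).toMonoidHom := by
    refine S.member_le_of_line (kern_mem S h3) hn fun b hb hb1 x hx => ?_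
    by_cases hl : Lacking p A θ s b
    · rw [kern_fixed_lacking S h3 (hn.1 hb) hb1 hl, mem_bot] at hx
      rw [hx]; exact one_mem _
    · obtain ⟨M, hM, hle, hne⟩ := exists_of_not_lacking hl
      obtain ⟨h1, h2⟩ := kern_le_core S h3 (hn.1 hb) hb1 hM hle hne
      exact h1 (conj_mem_coreOf (le_normalizer (hle (S.K_le_theta hb hb1 hg))) (h2 hx.1))
  exact map_le_iff_le_comap.mpr h

theorem conj_smul_kern_eq {g : G}
    (h : ∀ r, r.Prime → IsPi A θ r → r ≠ s →
      MulAut.conj g • kern p A θ s ≤ coreOf s (bigS p A θ {s, r})) :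
    g ∈ normalizer ((kern p A θ s : Subgroup G) : Set G) :=
  Grp.mem_normalizer_iff_smul.mpr (Subgroup.eq_of_le_of_card_ge (le_kern S h3 h)
    (Grp.card_conj_smul _ _).ge)

theorem line_normalizes_of_no_lacking {n : Subgroup G} (hn : IsLine p A n)
    (hnl : ∀ b ∈ n, b ≠ 1 → ¬ Lacking p A θ s b) :
    Cfsg.signalizerInf n θ ≤ normalizer ((kern p A θ s : Subgroup G) : Set G) := by
  intro g hg
  refine conj_smul_kern_eq S h3 fun r hr hpi hrs => ?_
  have hX := bigS_pair S h3 s r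
  refine le_core_of_line S.hA S.card3 hX.1.1 hX.1.2.1 (S.normalizer_mem hX.1)
    ((conj_kern_le_bigS S h3 hn hg).trans (bigS_one_le_pair S h3 r))
    ((bigS_one_pGroup S h3).to_le (conj_kern_le_bigS S h3 hn hg)) hn.1 hn.2 fun b hb hb1 => ?_
  obtain ⟨M, hM, hle, hne⟩ := exists_of_not_lacking (hnl b hb hb1)
  obtain ⟨-, h2⟩ := kern_le_core S h3 (hn.1 hb) hb1 hM hle hne
  refine ⟨coreOf s M, Grp.coreOf_isPGroup M, ?_,
    ((S.mem_inf_point hX.1 (hn.1 hb) hb1).trans hle).trans (Hyp.max_normalizes_core S s)⟩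
  exact map_le_iff_le_comap.mpr fun x hx =>
    conj_mem_coreOf (le_normalizer (hle (S.K_le_theta hb hb1 hg))) (h2 hx)

theorem R_le_bigS {e : G} (he : e ∈ A) (he1 : e ≠ 1) {M : Subgroup G} (hM : IsMax p A θ M)
    (hle : θ e ≤ M) (t : ℕ) [Fact t.Prime] : coreOf t M ≤ bigS p A θ {s, t} :=
  bigS_right_le S h3 (S.coreOf_mem hM.1 t) (Grp.coreOf_isPGroup M)
    (((S.C_le_theta he he1).trans hle).trans (Hyp.max_normalizes_core S t)) s

section Lacking

variable {e : G} (he : e ∈ A) (he1 : e ≠ 1) (hl : Lacking p A θ s e)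
  {M : Subgroup G} (hM : IsMax p A θ M) (hle : θ e ≤ M) {t : ℕ} [ht : Fact t.Prime]
  (htM : coreOf t M ≠ ⊥) (hts : t ≠ s) (hk : kern p A θ s ≠ ⊥)

include he he1 hl hM hle htM hts

theorem fixed_R_normalizes :
    coreOf t M ⊓ centralizer ({e} : Set G) ≤ normalizer ((kern p A θ s : Subgroup G) : Set G) := by
  refine S.member_point_le (S.coreOf_mem hM.1 t) he fun B hB heB ρ ⟨hρR, hρB⟩ => ?_
  have hρK : ρ ∈ Cfsg.signalizerInf B θ := S.member_line_le_K (S.coreOf_mem hM.1 t) hB ⟨hρR, hρB⟩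
  have hRS := R_le_bigS S h3 (s := s) he he1 hM hle t
  refine conj_smul_kern_eq S h3 fun r hr hpi hrs => ?_
  by_cases hrt : r = t
  · subst hrt
    exact map_le_iff_le_comap.mpr fun x hx =>
      conj_mem_coreOf (le_normalizer (hRS hρR)) (kern_le S h3 hpi hrs hx)
  haveI := Fact.mk hr
  have hX := bigS_pair S h3 s r
  set Γ := MulAut.conj ρ • kern p A θ s with hΓ
  have hΓS : Γ ≤ bigS p A θ {s} := conj_kern_le_bigS S h3 hB hρK
  have hρe : e * ρ = ρ * e := mem_centralizer_iff.mp hρB e heB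
  refine le_core_of_fpf (b := e) hX.1.1 hX.1.2.1 (hΓS.trans (bigS_one_le_pair S h3 r))
    ((bigS_one_pGroup S h3).to_le hΓS) (S.mem_normalizer_member hX.1 he) (S.pow_eq he) ?_ ?_ ?_
  · rw [Grp.mem_normalizer_iff_smul, hΓ, Grp.conj_smul_conj_smul, hρe, ← Grp.conj_smul_conj_smul,
      Grp.mem_normalizer_iff_smul.mp (S.mem_normalizer_member (kern_mem S h3) he)]
  · refine (Subgroup.eq_bot_iff_forall _).mpr fun x ⟨hx, hxe⟩ => ?_
    have hx' := Grp.mem_smul_conj.mp hx
    have hρc : ρ ∈ centralizer ({e} : Set G) := (centralizer_le (Set.singleton_subset_iff.mpr heB)) hρB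
    have h0 : ρ⁻¹ * x * ρ ∈ centralizer ({e} : Set G) := mul_mem (mul_mem (inv_mem hρc) hxe) hρc
    have h1 : ρ⁻¹ * x * ρ ∈ kern p A θ s ⊓ centralizer ({e} : Set G) := ⟨hx', h0⟩
    rw [kern_fixed_lacking S h3 he he1 hl, mem_bot] at h1
    calc x = ρ * (ρ⁻¹ * x * ρ) * ρ⁻¹ := by group
      _ = 1 := by rw [h1]; group
  · refine layer_point_le S.hA S.card3 hX.1.2.1 (S.normalizer_mem hX.1) he fun B' heB' hB'A hB'i x hx => ?_
    obtain ⟨hxL, hxB⟩ := hx
    have hxX := layer_le s _ hxL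
    refine ⟨hxX, fun γ hγ => ?_⟩
    have hB' : IsLine p A B' := ⟨hB'A, hB'i⟩
    have hxK : x ∈ Cfsg.signalizerInf B' θ := S.member_line_le_K hX.1 hB' ⟨hxX, hxB⟩
    have hγX := bigS_one_le_pair S h3 r (hΓS hγ)
    refine mem_core_of_mem_layer (S := bigS p A θ {s}) ?_ (bigS_one_pGroup S h3) ?_
    · exact commutator_mem_of_normalizes (normalizer_le_layer s _ (le_normalizer hγX)) hxL
    rw [commutatorElement_def]
    have h1 : x * γ * x⁻¹ ∈ bigS p A θ {s} := by
      have h0 : x * γ * x⁻¹ ∈ bigS p A θ {s, r} := mul_mem (mul_mem hxX hγX) (inv_mem hxX)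
      refine pair_inf_pair S h3 hrt ⟨?_, h0⟩
      have hk' := Grp.mem_smul_conj.mp hγ
      have hρ' : x * ρ * x⁻¹ ∈ bigS p A θ {s, t} :=
        hRS (conj_mem_coreOf (le_normalizer (hle (S.K_le_theta heB' he1 hxK))) hρR)
      have hg' : x * (ρ⁻¹ * γ * ρ) * x⁻¹ ∈ bigS p A θ {s, t} :=
        bigS_one_le_pair S h3 t (conj_kern_le_bigS S h3 hB' hxK
          (Grp.mem_smul_conj.mpr (by simpa [mul_assoc] using hk')))
      show x * γ * x⁻¹ ∈ bigS p A θ {s, t}
      convert mul_mem (mul_mem hρ' hg') (inv_mem hρ') using 1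
      group
    have h2 : γ * x * γ⁻¹ * x⁻¹ = γ * (x * γ * x⁻¹)⁻¹ := by group
    rw [h2]
    exact mul_mem (hΓS hγ) (inv_mem h1)

include hk

theorem Z_fixed : zCen (coreOf t M) ≤ centralizer ({e} : Set G) := by
  set R := coreOf t M
  set Z := zCen R with hZ
  have hZR : Z ≤ R := zCen_le R
  have heZ : zpowers e ≤ normalizer (Z : Set G) := zpowers_le.mpr
    (normalizer_le_zCen R (S.mem_normalizer_member (S.coreOf_mem hM.1 t) he))
  have hpM : ¬ p ∣ Nat.card M := hM.1.2.1
  have hZcop : (Nat.card (zpowers e)).Coprime (Nat.card Z) :=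
    coprime_zpowers (S.pow_eq he) fun h => hpM (h.trans (card_dvd_of_le (hZR.trans (Grp.coreOf_le M))))
  set Y := ⁅Z, zpowers e⁆ with hY
  suffices hY1 : Y = ⊥ by
    rw [Grp.centralizer_singleton_eq_zpowers]
    exact commutator_eq_bot_iff_le_centralizer.mp hY1
  by_contra hne
  have hYZ : Y ≤ Z := Grp.commutator_le_left_of_le_normalizer heZ
  have hYfpf : Y ⊓ centralizer ({e} : Set G) = ⊥ := by
    rw [Grp.centralizer_singleton_eq_zpowers, eq_bot_iff,
      ← Grp.abelian_commutator_inf_fixed (zpowers e) Z heZ hZcop]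
    exact le_inf (le_inf (inf_le_left.trans hYZ) inf_le_right) inf_le_left
  have hθY : θ e ≤ normalizer (Y : Set G) := by
    intro u hu
    have huM := hle hu
    have hue : ∀ k ∈ zpowers e, u * k * u⁻¹ = k := fun k hk => by
      have h5 := zpowers_le_centralizer_of (S.theta_le_centralizer he he1) hk
      rw [mem_centralizer_iff.mp h5 u hu, mul_inv_cancel_right]
    rw [Grp.mem_normalizer_iff_smul, hY, ← Grp.map_conj_eq_smul, Subgroup.map_commutator,
      Grp.map_conj_eq_smul, Grp.map_conj_eq_smul, Grp.mem_normalizer_iff_smul.mp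
        (normalizer_le_zCen R (Hyp.max_normalizes_core S t huM))]
    congr 1
    refine le_antisymm (fun k hk => ?_) (fun k hk => Grp.mem_smul_conj.mpr ?_)
    · have h6 := Grp.mem_smul_conj.mp hk
      rw [show k = u * (u⁻¹ * k * u) * u⁻¹ by group, hue _ h6]
      exact h6
    · rw [show u⁻¹ * k * u = k by
        calc u⁻¹ * k * u = u⁻¹ * (u * k * u⁻¹) * u := by rw [hue k hk]
          _ = k := by group]
      exact hk
  have hst : IsPi A θ t := isPi_of_core S hM.1 htM
  set P := coreOf s (bigS p A θ {s, t})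
  have hX := bigS_pair S h3 s t
  have hRS := R_le_bigS S h3 (s := s) he he1 hM hle t
  have hYP : Y ≤ normalizer (P : Set G) :=
    (hYZ.trans (hZR.trans hRS)).trans (Hyp.max_normalizes_core S s)
  have hYt : IsPGroup t Y := (Grp.coreOf_isPGroup M).to_le (hYZ.trans hZR)
  have hPs : IsPGroup s P := Grp.coreOf_isPGroup _
  have hPm := S.coreOf_mem hX.1 s
  have hYc : Y ≤ centralizer (P : Set G) := by
    haveI : Group.IsNilpotent P := hPs.isNilpotent
    refine le_centralizer_of_fpf Y (S.pow_eq he)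
      (Grp.right_le_normalizer_commutator _ _ (mem_zpowers e)) hYfpf P inferInstance hPm.2.1
      (IsPGroup.coprime_card_of_ne t s hts _ _ hYt hPs) (S.mem_normalizer_member hPm he) hYP ?_
    rintro u ⟨huP, hue⟩
    have huθ : u ∈ θ e := S.mem_inf_point hPm he he1 ⟨huP, hue⟩
    rw [mem_centralizer_iff]
    intro y hy
    have h1 : ⁅y, u⁆ ∈ Y ⊓ P := ⟨commutator_mem_of_normalizes' (hθY huθ) hy,
      commutator_mem_of_normalizes (hYP hy) huP⟩
    rw [inf_pgroup_eq_bot hts hYt hPs, mem_bot] at h1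
    exact commutatorElement_eq_one_iff_mul_comm.mp h1
  have hYm : Y ∈ Cfsg.signalizerFamily p A θ := by
    refine S.sub_mem hM.1 (hYZ.trans (hZR.trans (Grp.coreOf_le M))) ?_
    intro a ha
    rw [Grp.mem_normalizer_iff_smul, hY, ← Grp.map_conj_eq_smul, Subgroup.map_commutator,
      Grp.map_conj_eq_smul, Grp.map_conj_eq_smul, Grp.mem_normalizer_iff_smul.mp
        (normalizer_le_zCen R (S.mem_normalizer_member (S.coreOf_mem hM.1 t) ha)),
      Grp.mem_normalizer_iff_smul.mp (S.le_normalizer_of_le (zpowers_le.mpr he) ha)]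
  obtain ⟨W, hW, -, -, hall⟩ := S.hW Y hYm hne
  have hG : kern p A θ s ≤ W := hall _ (kern_mem S h3)
    ((le_centralizer_iff.mp (hYc.trans (centralizer_le (SetLike.coe_subset_coe.mpr
      (kern_le S h3 hst hts))))).trans (centralizer_le_normalizer _))
  obtain ⟨M', hM', hWM'⟩ := S.exists_max hW
  exact hk (eq_bot_iff.mpr ((le_inf le_rfl (hG.trans hWM')).trans (kern_inf_of_lacking S h3 he he1 hl hM'
    ((hall _ (S.theta_mem he he1) hθY).trans hWM')).le))

theorem line_normalizes_of_lacking {n : Subgroup G} (hn : IsLine p A n) (hen : e ∈ n) :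
    Cfsg.signalizerInf n θ ≤ normalizer ((kern p A θ s : Subgroup G) : Set G) := by
  intro g hg
  set R := coreOf t M
  set Z := zCen R with hZ
  have hZR : Z ≤ R := zCen_le R
  have hZe : Z ≤ centralizer ({e} : Set G) := Z_fixed S h3 he he1 hl hM hle htM hts hk
  have hZk : Z ≤ normalizer ((kern p A θ s : Subgroup G) : Set G) :=
    (le_inf hZR hZe).trans (fixed_R_normalizes S h3 he he1 hl hM hle htM hts)
  have hgθ : g ∈ θ e := S.K_le_theta hen he1 hg
  have hgM := hle hgθ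
  have hgZ : g ∈ normalizer (Z : Set G) := normalizer_le_zCen R (Hyp.max_normalizes_core S t hgM)
  set Γ := MulAut.conj g • kern p A θ s with hΓ
  have hΓS : Γ ≤ bigS p A θ {s} := conj_kern_le_bigS S h3 hn hg
  have hΓs : IsPGroup s Γ := (bigS_one_pGroup S h3).to_le hΓS
  have hge : e * g = g * e := mem_centralizer_iff.mp (S.K_le_centralizer hn hg) e hen
  have heΓ : e ∈ normalizer (Γ : Set G) := by
    rw [Grp.mem_normalizer_iff_smul, hΓ, Grp.conj_smul_conj_smul, hge, ← Grp.conj_smul_conj_smul,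
      Grp.mem_normalizer_iff_smul.mp (S.mem_normalizer_member (kern_mem S h3) he)]
  have hge' : g ∈ centralizer ({e} : Set G) := S.theta_le_centralizer he he1 hgθ
  have hΓe : Γ ⊓ centralizer ({e} : Set G) = ⊥ := by
    refine (Subgroup.eq_bot_iff_forall _).mpr fun x ⟨hx, hxe⟩ => ?_
    have h0 : g⁻¹ * x * g ∈ centralizer ({e} : Set G) := mul_mem (mul_mem (inv_mem hge') hxe) hge'
    have h1 : g⁻¹ * x * g ∈ kern p A θ s ⊓ centralizer ({e} : Set G) :=
      ⟨Grp.mem_smul_conj.mp hx, h0⟩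
    rw [kern_fixed_lacking S h3 he he1 hl, mem_bot] at h1
    calc x = g * (g⁻¹ * x * g) * g⁻¹ := by group
      _ = 1 := by rw [h1]; group
  have hZΓ : Z ≤ normalizer (Γ : Set G) := by
    refine Grp.invariant_iff.mp fun z hz x hx => ?_
    rw [hΓ, Grp.mem_smul_conj] at hx ⊢
    convert Grp.mem_conj_normalizer (hZk (Grp.mem_conj_normalizer' hgZ hz)) hx using 1
    group
  have hGZ : kern p A θ s ⊓ centralizer (Z : Set G) = ⊥ := by
    have hm : kern p A θ s ⊓ centralizer (Z : Set G) ∈ Cfsg.signalizerFamily p A θ :=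
      S.sub_mem (kern_mem S h3) inf_le_left (Grp.le_normalizer_inf'
        (S.normalizer_mem (kern_mem S h3)) (Grp.invariant_iff.mp fun a ha x hx => by
          rw [mem_centralizer_iff] at hx ⊢
          intro y hy
          have han := normalizer_le_zCen R (S.mem_normalizer_member (S.coreOf_mem hM.1 t) ha)
          calc y * (a * x * a⁻¹) = a * ((a⁻¹ * y * a) * x) * a⁻¹ := by group
            _ = a * (x * (a⁻¹ * y * a)) * a⁻¹ := by rw [hx _ (Grp.mem_conj_normalizer' han hy)]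
            _ = _ := by group))
    rw [eq_bot_iff, ← kern_inf_of_lacking S h3 he he1 hl hM hle]
    exact le_inf inf_le_left (Hyp.le_max_of_zCen S hM htM hm
      (inf_le_right.trans (centralizer_le_normalizer _)))
  have hΓZ : Γ ⊓ centralizer (Z : Set G) = ⊥ := by
    refine (Subgroup.eq_bot_iff_forall _).mpr fun x ⟨hx, hxZ⟩ => ?_
    have h1 : g⁻¹ * x * g ∈ kern p A θ s ⊓ centralizer (Z : Set G) := by
      refine ⟨Grp.mem_smul_conj.mp hx, mem_centralizer_iff.mpr fun z hz => ?_⟩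
      have h5 := mem_centralizer_iff.mp hxZ _ (Grp.mem_conj_normalizer hgZ hz)
      calc z * (g⁻¹ * x * g) = g⁻¹ * ((g * z * g⁻¹) * x) * g := by group
        _ = g⁻¹ * (x * (g * z * g⁻¹)) * g := by rw [h5]
        _ = _ := by group
    rw [hGZ, mem_bot] at h1
    calc x = g * (g⁻¹ * x * g) * g⁻¹ := by group
      _ = 1 := by rw [h1]; group
  have hZt : IsPGroup t Z := (Grp.coreOf_isPGroup M).to_le hZR
  have hbZ : ∀ z ∈ Z, Commute e z := fun z hz => mem_centralizer_iff.mp (hZe hz) e rfl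
  have htp : t ≠ p := S.ne_p_of_pGroup (S.coreOf_mem hM.1 t) (Grp.coreOf_isPGroup M) htM
  have hRS := R_le_bigS S h3 (s := s) he he1 hM hle t
  refine conj_smul_kern_eq S h3 fun r hr hpi hrs => ?_
  haveI := Fact.mk hr
  by_cases hrt : r = t
  · subst hrt
    have hX := bigS_pair S h3 s r
    refine le_core_of_fpf_pair (t := r) hts htp hX.1.1 hX.1.2.1 (hΓS.trans (bigS_one_le_pair S h3 r))
      hΓs (S.mem_normalizer_member hX.1 he) (S.pow_eq he) heΓ hΓe hZt
      ((hZR.trans hRS).trans le_normalizer) hZΓ hbZ hΓZ ?_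
    rintro z hz u ⟨huL, hue⟩ γ hγ
    have huM := hle (S.mem_inf_point hX.1 he he1 ⟨layer_le s _ huL, hue⟩)
    have hw : ⁅z, u⁆ ∈ Z :=
      commutator_mem_of_normalizes' (normalizer_le_zCen R (Hyp.max_normalizes_core S r huM)) hz
    have hwL : ⁅z, u⁆ ∈ layer s (bigS p A θ {s, r}) :=
      commutator_mem_of_normalizes (normalizer_le_layer s _ (le_normalizer (hRS (hZR hz)))) huL
    exact mem_core_of_mem_layer
      (commutator_mem_of_normalizes (normalizer_le_layer s _
        (le_normalizer (bigS_one_le_pair S h3 r (hΓS hγ)))) hwL)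
      hΓs (commutator_mem_of_normalizes' (hZΓ hw) hγ)
  · have hX := bigS_pair S h3 s r
    set X := bigS p A θ {s, r} with hXdef
    set D := X ⊓ centralizer ({e} : Set G) with hD
    set K0 : Subgroup G := ⨆ y : D, MulAut.conj (y : G) • Γ with hK0
    have hDθ : D ≤ θ e := S.mem_inf_point hX.1 he he1
    have hΓX : Γ ≤ X := hΓS.trans (bigS_one_le_pair S h3 r)
    have hK0X : K0 ≤ X := iSup_le fun y => by
      rw [← Grp.mem_normalizer_iff_smul.mp (le_normalizer y.2.1)]
      exact Subgroup.pointwise_smul_le_pointwise_smul_iff.mpr hΓX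
    have hΓK : Γ ≤ K0 :=
      le_iSup_of_le ⟨1, one_mem _⟩ (by show Γ ≤ MulAut.conj (1 : G) • Γ; rw [map_one, one_smul])
    have hDK : D ≤ normalizer (K0 : Set G) := by
      refine fun y hy => ?_
      rw [Grp.mem_normalizer_iff_smul, ← Grp.map_conj_eq_smul, hK0, Subgroup.map_iSup]
      simp only [Grp.map_conj_eq_smul, Grp.conj_smul_conj_smul]
      exact (Equiv.mulLeft (⟨y, hy⟩ : D)).iSup_congr (g := fun w : D => MulAut.conj (w : G) • Γ) fun w => rfl
    have heK : e ∈ normalizer (K0 : Set G) := by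
      rw [Grp.mem_normalizer_iff_smul, ← Grp.map_conj_eq_smul, hK0, Subgroup.map_iSup]
      simp only [Grp.map_conj_eq_smul, Grp.conj_smul_conj_smul]
      refine iSup_congr fun w => ?_
      rw [mem_centralizer_iff.mp w.2.2 e rfl, ← Grp.conj_smul_conj_smul,
        Grp.mem_normalizer_iff_smul.mp heΓ]
    have hZK : Z ≤ normalizer (K0 : Set G) := by
      intro z hz
      rw [Grp.mem_normalizer_iff_smul, ← Grp.map_conj_eq_smul, hK0, Subgroup.map_iSup]
      simp only [Grp.map_conj_eq_smul, Grp.conj_smul_conj_smul]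
      refine iSup_congr fun w => ?_
      have hw : (w : G)⁻¹ * z * w ∈ Z :=
        Grp.mem_conj_normalizer' (normalizer_le_zCen R (Hyp.max_normalizes_core S t (hle (hDθ w.2)))) hz
      rw [show z * (w : G) = (w : G) * ((w : G)⁻¹ * z * w) by group, ← Grp.conj_smul_conj_smul,
        Grp.mem_normalizer_iff_smul.mp (hZΓ hw)]
    have hpK : ¬ p ∣ Nat.card K0 := fun h => hX.1.2.1 (h.trans (card_dvd_of_le hK0X))
    have hKs : IsPGroup s K0 := by
      have h := le_core_of_fpf_pair (t := t) hts htp (Grp.isSolvable_of_le hK0X hX.1.1) hpK hΓK hΓs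
        heK (S.pow_eq he) heΓ hΓe hZt hZK hZΓ hbZ hΓZ ?_
      · refine (Grp.coreOf_isPGroup K0).to_le (iSup_le fun y => ?_)
        rw [← Grp.mem_normalizer_iff_smul.mp ((Grp.normalizer_le_coreOf K0 s) (hDK y.2))]
        exact Subgroup.pointwise_smul_le_pointwise_smul_iff.mpr h
      · rintro z hz u ⟨huL, hue⟩ γ _
        have huK := layer_le s _ huL
        have hw1 : ⁅z, u⁆ ∈ Z := commutator_mem_of_normalizes'
          (normalizer_le_zCen R (Hyp.max_normalizes_core S t (hle (hDθ ⟨hK0X huK, hue⟩)))) hz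
        have hw2 : ⁅z, u⁆ ∈ K0 := commutator_mem_of_normalizes (hZK hz) huK
        have hbot : Z ⊓ K0 = ⊥ := by
          refine Grp.inf_eq_bot_of_coprime (Nat.coprime_of_dvd fun q hq h1 h2 => ?_)
          have e1 := isPiNum_of_pGroup S (σ := {t}) (Set.mem_singleton t) hZt q hq h1
          rw [Set.mem_singleton_iff] at e1
          rcases hX.2.1 q hq (h2.trans (card_dvd_of_le hK0X)) with h | h
          · exact hts (e1.symm.trans h)
          · rw [Set.mem_singleton_iff] at h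
            exact hrt (h.symm.trans e1)
        have h1 : ⁅z, u⁆ ∈ Z ⊓ K0 := ⟨hw1, hw2⟩
        rw [hbot, mem_bot] at h1
        rw [h1, commutatorElement_one_right]
        exact one_mem _
    refine le_core_of_fpf (b := e) hX.1.1 hX.1.2.1 hΓX hΓs (S.mem_normalizer_member hX.1 he)
      (S.pow_eq he) heΓ hΓe ?_
    rintro x ⟨hxL, hxe⟩
    exact ⟨layer_le s _ hxL, fun γ hγ => commutator_mem_core_of_invariant hKs (hΓK hγ) (hΓX hγ) hxL
      (hDK ⟨layer_le s _ hxL, hxe⟩)⟩

end Lacking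

/-- A nontrivial kernel gives completeness. -/
theorem complete_of_kern (hk : kern p A θ s ≠ ⊥) : Complete p A θ := by
  obtain ⟨W, hW, -, -, hall⟩ := S.hW _ (kern_mem S h3) hk
  refine ⟨W, hW, fun a ha ha1 => hall _ (S.theta_mem ha ha1) (S.theta_le_of_lines ha ha1 fun n hn _ => ?_)⟩
  by_cases hnl : ∀ b ∈ n, b ≠ 1 → ¬ Lacking p A θ s b
  · exact line_normalizes_of_no_lacking S h3 hn hnl
  push Not at hnl
  obtain ⟨e, hen, he1, hl⟩ := hnl
  have he := hn.1 hen
  obtain ⟨M, hM, hle⟩ := S.exists_max (S.theta_mem he he1)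
  have hMne : M ≠ ⊥ := fun e0 => hk (le_bot_iff.mp
    ((hM.2 _ (kern_mem S h3) (e0 ▸ bot_le)).trans e0.le))
  obtain ⟨t, ht, -, htM⟩ := S.exists_core_ne_bot hM.1 hMne
  haveI := Fact.mk ht
  have hts : t ≠ s := fun h => htM (by subst h; exact hl M hM hle)
  exact line_normalizes_of_lacking S h3 he he1 hl hM hle htM hts hk hn hen

end Cfsg.Agent.Transfer.SFT
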