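import Mathlib
import Cfsg.Agent.Lib.Transfer.SFT.ThreeKernel

/-!
Completeness with at least three primes.
-/

set_option autoImplicit false
set_option linter.unusedSectionVars false

namespace Cfsg.Agent.Transfer.SFT

open Subgroup
open Cfsg.Agent.Grp (coreOf IsMaxQMember IsSylowIn)
open Cfsg.Agent.Grp.PiHall (IsPiNum)
open scoped commutatorElement Pointwise

universe u

variable {G : Type u} [Group G]

/-- The elements acting trivially on `L` modulo `O_s(H)`. -/
def actSet (s : ℕ) (H L : Subgroup G) : Subgroup G where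
  carrier := {y | y ∈ normalizer (H : Set G) ∧ ∀ x ∈ L, ⁅y, x⁆ ∈ coreOf s H}
  one_mem' := ⟨one_mem _, fun x _ => by rw [commutatorElement_one_left]; exact one_mem _⟩
  mul_mem' := fun {a b} ha hb => ⟨mul_mem ha.1 hb.1, fun x hx => by
    rw [show ⁅a * b, x⁆ = a * ⁅b, x⁆ * a⁻¹ * ⁅a, x⁆ by simp only [commutatorElement_def]; group]
    exact mul_mem (conj_mem_coreOf ha.1 (hb.2 x hx)) (ha.2 x hx)⟩
  inv_mem' := fun {a} ha => ⟨inv_mem ha.1, fun x hx => by
    rw [show ⁅a⁻¹, x⁆ = a⁻¹ * ⁅a, x⁆⁻¹ * a⁻¹⁻¹ by simp only [commutatorElement_def]; group]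
    exact conj_mem_coreOf (inv_mem ha.1) (inv_mem (ha.2 x hx))⟩

theorem conj_mem_actSet {s : ℕ} {H L : Subgroup G} {g y : G} (hgH : g ∈ normalizer (H : Set G))
    (hgL : g ∈ normalizer (L : Set G)) (hy : y ∈ actSet s H L) : g * y * g⁻¹ ∈ actSet s H L := by
  refine ⟨mul_mem (mul_mem hgH hy.1) (inv_mem hgH), fun x hx => ?_⟩
  rw [show ⁅g * y * g⁻¹, x⁆ = g * ⁅y, g⁻¹ * x * g⁆ * g⁻¹ by simp only [commutatorElement_def]; group]
  exact conj_mem_coreOf hgH (hy.2 _ (Grp.mem_conj_normalizer' hgL hx))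

theorem commutator_mem_actSet {s : ℕ} {H L : Subgroup G} {g y : G} (hgH : g ∈ normalizer (H : Set G))
    (hgL : g ∈ normalizer (L : Set G)) (hy : y ∈ actSet s H L) : ⁅g, y⁆ ∈ actSet s H L := by
  rw [commutatorElement_def]
  exact mul_mem (conj_mem_actSet hgH hgL hy) (inv_mem hy)

theorem le_actSet_of_le_commSet {s : ℕ} {H L Γ : Subgroup G} (hΓ : Γ ≤ normalizer (H : Set G))
    (h : L ≤ commSet s H Γ) : Γ ≤ actSet s H L :=
  fun y hy => ⟨hΓ hy, fun x hx => (h hx).2 y hy⟩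

theorem le_commSet_of_le_actSet {s : ℕ} {H L Γ : Subgroup G} (hL : L ≤ H)
    (h : Γ ≤ actSet s H L) : L ≤ commSet s H Γ :=
  fun x hx => ⟨hL hx, fun y hy => (h hy).2 x hx⟩

theorem commutator_le_centralizer {H K Y : Subgroup G} (hH : H ≤ normalizer (K : Set G))
    (hY : Y ≤ centralizer (K : Set G)) : ⁅H, Y⁆ ≤ centralizer (K : Set G) := by
  rw [commutator_le]
  intro m hm k hk
  rw [commutatorElement_def]
  refine mul_mem ?_ (inv_mem (hY hk))
  rw [mem_centralizer_iff]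
  intro y hy
  have h5 := mem_centralizer_iff.mp (hY hk) _ (Grp.mem_conj_normalizer' (hH hm) hy)
  calc y * (m * k * m⁻¹) = m * ((m⁻¹ * y * m) * k) * m⁻¹ := by group
    _ = m * (k * (m⁻¹ * y * m)) * m⁻¹ := by rw [h5]
    _ = _ := by group

theorem centralizer_trivial_commutator {s : ℕ} {H : Subgroup G} {γ x : G} (h : γ * x = x * γ) :
    ⁅γ, x⁆ ∈ coreOf s H := by
  rw [commutatorElement_eq_one_iff_mul_comm.mpr h]
  exact one_mem _

theorem commutator_mul_fixed {x k m : G} (h1 : m * x = x * m) (h2 : m * k = k * m) :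
    ⁅x, m * k⁆ = ⁅x, k⁆ := by
  calc ⁅x, m * k⁆ = ⁅x, m⁆ * (m * ⁅x, k⁆ * m⁻¹) := by simp only [commutatorElement_def]; group
    _ = ⁅m * x * m⁻¹, m * k * m⁻¹⁆ := by
      rw [commutatorElement_eq_one_iff_mul_comm.mpr h1.symm, one_mul]
      simp only [commutatorElement_def]
      group
    _ = _ := by rw [h1, h2, mul_inv_cancel_right, mul_inv_cancel_right]

theorem le_coreOf [Finite G] {q : ℕ} {T H : Subgroup G} (hTH : T ≤ H) (hn : H ≤ normalizer (T : Set G))
    (hT : IsPGroup q T) : T ≤ coreOf q H := by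
  have h : (T.subgroupOf H).map H.subtype ≤ coreOf q H :=
    map_mono (Grp.le_pCore ((Subgroup.normal_subgroupOf_iff_le_normalizer hTH).mpr hn)
      hT.comap_subtype)
  rwa [Subgroup.map_subgroupOf_eq_of_le hTH] at h

variable [Finite G] {p : ℕ} [hp : Fact p.Prime] {A : Subgroup G} {θ : G → Subgroup G}

theorem centralizes_of_commutator (S : Setup p A θ) {U : Subgroup G}
    (hU : U ∈ Cfsg.signalizerFamily p A θ) {d : G} (hd : d ∈ A)
    (h : ⁅U, zpowers d⁆ ≤ centralizer ({d} : Set G)) : U ≤ centralizer ({d} : Set G) := by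
  have hdU := zpowers_le.mpr (S.mem_normalizer_member hU hd)
  have h1 : ⁅U, zpowers d⁆ = ⊥ := by
    rw [← Grp.commutator_commutator_eq (zpowers d) U hdU (coprime_zpowers (S.pow_eq hd) hU.2.1)
      (Or.inl inferInstance), commutator_eq_bot_iff_le_centralizer]
    rwa [← Grp.centralizer_singleton_eq_zpowers]
  rw [Grp.centralizer_singleton_eq_zpowers]
  exact commutator_eq_bot_iff_le_centralizer.mp h1

theorem exists_not_mem_two (S : Setup p A θ) {n m : Subgroup G} (hn : IsLine p A n) (hm : IsLine p A m) :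
    ∃ d ∈ A, d ∉ n ∧ d ∉ m := by
  have hc : ∀ {k}, IsLine p A k → Nat.card k < p ^ 3 := fun hk => by
    rw [S.line_card hk]; exact Nat.pow_lt_pow_right hp.out.one_lt (by norm_num)
  obtain ⟨a, ha, han⟩ := S.exists_not_mem (hc hn)
  obtain ⟨b, hb, hbm⟩ := S.exists_not_mem (hc hm)
  by_cases ham : a ∈ m
  · by_cases hbn : b ∈ n
    · refine ⟨a * b, mul_mem ha hb, fun h => han ?_, fun h => hbm ?_⟩
      · simpa using mul_mem h (inv_mem hbn)
      · simpa [← mul_assoc] using mul_mem (inv_mem ham) h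
    · exact ⟨b, hb, hbn, hbm⟩
  · exact ⟨a, ha, han, ham⟩

theorem decompose_line (S : Setup p A θ) {n : Subgroup G} (hn : IsLine p A n) {x : G} (hx : x ∈ A)
    (hxn : x ∉ n) {k : G} (hk : k ∈ A) : ∃ n₀ ∈ n, ∃ j : ℤ, k = n₀ * x ^ j := by
  rw [← S.eq_top_of_line hn hx hxn, ← SetLike.mem_coe, Subgroup.coe_mul_of_right_le_normalizer_left n
    (zpowers x) ((zpowers_le.mpr hx).trans (S.le_normalizer_of_le hn.1))] at hk
  obtain ⟨n₀, hn₀, y, hy, rfl⟩ := hk
  obtain ⟨j, rfl⟩ := Subgroup.mem_zpowers_iff.mp hy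
  exact ⟨n₀, hn₀, j, rfl⟩

theorem exists_bigS_max (S : Hyp p A θ) {q : ℕ} (hq : IsPi A θ q) :
    ∃ H, IsMax p A θ H ∧ bigS p A θ {x | x ≠ q} ≤ H ∧ Cfsg.signalizerInf A θ ≤ H := by
  have h := bigS_spec S (σ := {x | x ≠ q}) hq (fun h => h rfl)
  have hm := Grp.family_sup S.hA S.hθ h.1 S.C_mem h.2.2.1
  obtain ⟨H, hH, hle⟩ := S.exists_max hm
  exact ⟨H, hH, le_sup_left.trans hle, le_sup_right.trans hle⟩

theorem le_bigS_of_ne (S : Hyp p A θ) {q : ℕ} (hq : IsPi A θ q) {U : Subgroup G}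
    (hU : U ∈ Cfsg.signalizerFamily p A θ) (hUC : Cfsg.signalizerInf A θ ≤ normalizer (U : Set G))
    (h : ¬ q ∣ Nat.card U) : U ≤ bigS p A θ {x | x ≠ q} :=
  (bigS_spec S (σ := {x | x ≠ q}) hq (fun h => h rfl)).2.2.2 U hU
    (fun r _ hd e => h (e ▸ hd)) hUC

theorem core_le_bigS_of_ne (S : Hyp p A θ) {q t : ℕ} [ht : Fact t.Prime] (hq : IsPi A θ q) (htq : t ≠ q)
    {M : Subgroup G} (hM : M ∈ Cfsg.signalizerFamily p A θ) (hCM : Cfsg.signalizerInf A θ ≤ M) :
    coreOf t M ≤ bigS p A θ {x | x ≠ q} := by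
  refine le_bigS_of_ne S hq (S.coreOf_mem hM t) (hCM.trans (Hyp.max_normalizes_core S t)) fun h => ?_
  exact htq (Set.mem_singleton_iff.mp
    (isPiNum_of_pGroup S (σ := {t}) (Set.mem_singleton t) (Grp.coreOf_isPGroup M) q hq.1 h)).symm

section Lemmas

variable (S : Hyp p A θ) (h3 : HasThree A θ) {s : ℕ} [hs : Fact s.Prime]

include S h3

theorem le_kern_of_line {Γ n : Subgroup G} (hn : IsLine p A n) (hΓ : Γ ≤ bigS p A θ {s})
    (h : ∀ b ∈ n, b ≠ 1 → ∃ R : Subgroup G, IsPGroup s R ∧ Γ ≤ R ∧ θ b ≤ normalizer (R : Set G)) :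
    Γ ≤ kern p A θ s := by
  refine le_kern S h3 fun r hr _ hrs => ?_
  have hX := bigS_pair S h3 s r
  refine le_core_of_line S.hA S.card3 hX.1.1 hX.1.2.1 (S.normalizer_mem hX.1)
    (hΓ.trans (bigS_one_le_pair S h3 r)) ((bigS_one_pGroup S h3).to_le hΓ) hn.1 hn.2 fun b hb hb1 => ?_
  obtain ⟨R, h1, h2, h3'⟩ := h b hb hb1
  exact ⟨R, h1, h2, (S.mem_inf_point hX.1 (hn.1 hb) hb1).trans h3'⟩

theorem le_kern_of_fpf {X Γ : Subgroup G} (hX : X ≤ bigS p A θ {s}) {a : G} (ha : a ∈ A) (ha1 : a ≠ 1)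
    (hθX : θ a ≤ normalizer (X : Set G)) (hΓ : Γ ≤ X) (haΓ : a ∈ normalizer (Γ : Set G))
    (hfpf : Γ ⊓ centralizer ({a} : Set G) = ⊥) : Γ ≤ kern p A θ s := by
  refine le_kern S h3 fun r hr _ hrs => ?_
  have hS := bigS_pair S h3 s r
  have hΓX := (hΓ.trans hX).trans (bigS_one_le_pair S h3 r)
  refine le_core_of_fpf hS.1.1 hS.1.2.1 hΓX ((bigS_one_pGroup S h3).to_le (hΓ.trans hX))
    (S.mem_normalizer_member hS.1 ha) (S.pow_eq ha) haΓ hfpf ?_
  rintro x ⟨hxL, hxa⟩
  exact ⟨layer_le s _ hxL, fun γ hγ => commutator_mem_core_of_invariant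
    ((bigS_one_pGroup S h3).to_le hX) (hΓ hγ) (hΓX hγ) hxL
    (hθX (S.mem_inf_point hS.1 ha ha1 ⟨layer_le s _ hxL, hxa⟩))⟩

theorem core_le_bigS_one {M : Subgroup G} (hM : M ∈ Cfsg.signalizerFamily p A θ)
    (hCM : Cfsg.signalizerInf A θ ≤ M) : coreOf s M ≤ bigS p A θ {s} :=
  le_bigS_one S h3 (S.coreOf_mem hM s) (Grp.coreOf_isPGroup M)
    (hCM.trans (Hyp.max_normalizes_core S s))

variable (hk : ∀ q : ℕ, q.Prime → kern p A θ q = ⊥)

include hk

theorem odd_core_centralized (hs2 : s ≠ 2) {a : G} (ha : a ∈ A) (ha1 : a ≠ 1) {M : Subgroup G}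
    (hM : IsMax p A θ M) (hle : θ a ≤ M) : coreOf s M ≤ centralizer ({a} : Set G) := by
  by_cases hne : coreOf s M = ⊥
  · rw [hne]; exact bot_le
  have hCM := (S.C_le_theta ha ha1).trans hle
  set X := coreOf s M
  have hXS : X ≤ bigS p A θ {s} := core_le_bigS_one S h3 hM.1 hCM
  have hsp : s ≠ p := S.ne_p_of_pGroup (S.coreOf_mem hM.1 s) (Grp.coreOf_isPGroup M) hne
  refine centralizes_of_commutator S.toSetup (S.coreOf_mem hM.1 s) ha ?_
  have h : ⁅X, zpowers a⁆ ≤ kern p A θ s := by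
    refine le_kern S h3 fun r hr _ hrs => ?_
    have hS := bigS_pair S h3 s r
    refine commutator_le_core_of_fixed hs2 hsp hS.1.1 hS.1.2.1 (hXS.trans (bigS_one_le_pair S h3 r))
      (Grp.coreOf_isPGroup M) (S.mem_normalizer_member hS.1 ha) (S.pow_eq ha)
      (S.mem_normalizer_member (S.coreOf_mem hM.1 s) ha) ?_
    rintro x ⟨hxL, hxa⟩
    exact ⟨layer_le s _ hxL, fun γ hγ => commutator_mem_core_of_invariant
      (Grp.coreOf_isPGroup M) hγ ((hXS.trans (bigS_one_le_pair S h3 r)) hγ) hxL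
      (Hyp.max_normalizes_core S s (hle (S.mem_inf_point hS.1 ha ha1 ⟨layer_le s _ hxL, hxa⟩)))⟩
  rw [hk s hs.out] at h
  exact h.trans bot_le

theorem zCen_core_centralized {a : G} (ha : a ∈ A) (ha1 : a ≠ 1) {M : Subgroup G}
    (hM : IsMax p A θ M) (hle : θ a ≤ M) : zCen (coreOf s M) ≤ centralizer ({a} : Set G) := by
  have hCM := (S.C_le_theta ha ha1).trans hle
  set X := coreOf s M
  set Z := zCen X
  have haZ : zpowers a ≤ normalizer (Z : Set G) := zpowers_le.mpr
    (normalizer_le_zCen X (S.mem_normalizer_member (S.coreOf_mem hM.1 s) ha))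
  have hYZ : ⁅Z, zpowers a⁆ ≤ Z := Grp.commutator_le_left_of_le_normalizer haZ
  have h : ⁅Z, zpowers a⁆ ≤ kern p A θ s := by
    refine le_kern_of_fpf S h3 (core_le_bigS_one S h3 hM.1 hCM) ha ha1
      (hle.trans (Hyp.max_normalizes_core S s)) (hYZ.trans (zCen_le X))
      (Grp.right_le_normalizer_commutator _ _ (mem_zpowers a)) ?_
    rw [Grp.centralizer_singleton_eq_zpowers, eq_bot_iff, ← Grp.abelian_commutator_inf_fixed
      (zpowers a) Z haZ (coprime_zpowers (S.pow_eq ha) fun h => hM.1.2.1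
        (h.trans (card_dvd_of_le ((zCen_le X).trans (Grp.coreOf_le M)))))]
    exact le_inf (le_inf (inf_le_left.trans hYZ) inf_le_right) inf_le_left
  rw [hk s hs.out, le_bot_iff] at h
  rw [Grp.centralizer_singleton_eq_zpowers]
  exact commutator_eq_bot_iff_le_centralizer.mp h

end Lemmas

section Main

variable (S : Hyp p A θ) (h3 : HasThree A θ) (hk : ∀ q : ℕ, q.Prime → kern p A θ q = ⊥)

include S h3 hk

/-- The points with a `2`-core lie on a line. -/
theorem exists_line_two_core : ∃ L0, IsLine p A L0 ∧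
    ∀ d ∈ A, d ≠ 1 → ∀ M, IsMax p A θ M → θ d ≤ M → coreOf 2 M ≠ ⊥ → d ∈ L0 := by
  haveI := Fact.mk Nat.prime_two
  set P2 : Set G := {d | d ∈ A ∧ d ≠ 1 ∧ ∃ M, IsMax p A θ M ∧ θ d ≤ M ∧ coreOf 2 M ≠ ⊥}
  by_cases hspan : A ≤ closure P2
  swap
  · obtain ⟨n, hn, hle⟩ := S.exists_line_of_cyclic (T := P2) (fun d hd => hd.1) hspan
    exact ⟨n, hn, fun d hd hd1 M hM h1 h2 => hle ⟨hd, hd1, M, hM, h1, h2⟩⟩
  exfalso
  obtain ⟨d₀, hd₀⟩ : P2.Nonempty := by
    by_contra h
    rw [Set.not_nonempty_iff_eq_empty] at h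
    rw [h, Subgroup.closure_empty] at hspan
    exact S.A_ne (le_bot_iff.mp hspan)
  obtain ⟨hd₀A, hd₀1, M₀, hM₀, hd₀M, hM₀2⟩ := hd₀
  have h2pi : IsPi A θ 2 := isPi_of_core S hM₀.1 hM₀2
  obtain ⟨Q, hQ⟩ := S.exists_maxQ (q := 2)
  set Γ := zCen Q with hΓdef
  have hΓm : Γ ∈ Cfsg.signalizerFamily p A θ :=
    S.sub_mem hQ.1 (zCen_le Q) ((S.normalizer_mem hQ.1).trans (normalizer_le_zCen Q))
  have hΓ2 : IsPGroup 2 Γ := hQ.2.1.to_le (zCen_le Q)
  have hΓne : Γ ≠ ⊥ := zCen_ne_bot hQ.2.1 fun e => hM₀2 (le_bot_iff.mp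
    (e ▸ S.coreOf_le_maxQ hM₀.1 ((S.C_le_theta hd₀A hd₀1).trans hd₀M) hQ))
  have hΓcen : ∀ {U : Subgroup G}, U ≤ Q → Γ ≤ centralizer (U : Set G) :=
    fun hU x hx => mem_centralizer_iff.mpr fun y hy => (zCen_comm hx (hU hy)).symm
  -- `Γ` is fixed by `A`
  have hΓC : Γ ≤ Cfsg.signalizerInf A θ := by
    refine S.le_C_of_span hΓm hspan fun d hd => ?_
    obtain ⟨hdA, hd1, M, hM, hdM, hM2⟩ := hd
    have hCM := (S.C_le_theta hdA hd1).trans hdM
    have hXQ := S.coreOf_le_maxQ hM.1 hCM hQ (q := 2)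
    have hΓM : Γ ≤ M := Hyp.le_max_of_core S hM hM2 hΓm ((hΓcen hXQ).trans (centralizer_le_normalizer _))
    have hdΓ := zpowers_le.mpr (S.mem_normalizer_member hΓm hdA)
    have hle : ⁅Γ, zpowers d⁆ ≤ Γ := Grp.commutator_le_left_of_le_normalizer hdΓ
    refine centralizes_of_commutator S.toSetup hΓm hdA fun x hx => ?_
    have hxX : x ∈ coreOf 2 M := by
      refine S.mem_core_of_centralizes hM.1 (hΓM (hle hx)) hΓ2 (hle hx) fun r hr => ?_
      by_cases hr2 : r = 2
      · subst hr2; exact hΓcen hXQ (hle hx)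
      · haveI := Fact.mk hr
        exact commutator_le_centralizer (hΓM.trans (Hyp.max_normalizes_core S r))
          (zpowers_le_centralizer_of (odd_core_centralized S h3 hk hr2 hdA hd1 hM hdM)) hx
    exact zCen_core_centralized S h3 hk hdA hd1 hM hdM ⟨hxX, hΓcen hXQ (hle hx)⟩
  obtain ⟨H, hH, hSH, hCH⟩ := exists_bigS_max S h2pi
  have hΓH : Γ ≤ H := hΓC.trans hCH
  -- `Γ` centralizes the odd cores of `H`
  have hodd : ∀ v : ℕ, v.Prime → v ≠ 2 → Γ ≤ centralizer ((coreOf v H : Subgroup G) : Set G) := by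
    intro v hv hv2
    haveI := Fact.mk hv
    set Y := coreOf v H
    refine le_centralizer_iff.mp (S.member_le_of_lines (S.coreOf_mem hH.1 v) fun n hn => ?_)
    set X := ⁅Y ⊓ centralizer (n : Set G), Γ⁆
    have hΓn : Γ ≤ centralizer (n : Set G) :=
      hΓC.trans (S.C_le_centralizer.trans (centralizer_le (SetLike.coe_subset_coe.mpr hn.1)))
    have hXle : X ≤ Y ⊓ centralizer (n : Set G) := Grp.commutator_le_left_of_le_normalizer
      (Grp.le_normalizer_inf' (hΓH.trans (Hyp.max_normalizes_core S v)) (hΓn.trans le_normalizer))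
    suffices hX : X = ⊥ by exact commutator_eq_bot_iff_le_centralizer.mp hX
    have hXv : IsPGroup v X := (Grp.coreOf_isPGroup H).to_le (hXle.trans inf_le_left)
    have hcore : ∀ d ∈ n, d ≠ 1 → ∀ M, IsMax p A θ M → θ d ≤ M → X ≤ coreOf v M := by
      intro d hd hd1 M hM hdM
      have hCM := (S.C_le_theta (hn.1 hd) hd1).trans hdM
      have hYM : Y ⊓ centralizer (n : Set G) ≤ M :=
        ((S.member_line_le_K (S.coreOf_mem hH.1 v) hn).trans (S.K_le_theta hd hd1)).trans hdM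
      have hXM := hXle.trans hYM
      refine le_core_of_layer hM.1.1 hXM hXv
        (layerPart_le_commSet_of_primes (hXM.trans le_normalizer) fun r hr hrv => ?_)
      haveI := Fact.mk hr
      by_cases hr2 : r = 2
      · subst hr2
        have hL := layerPart_le_commSet_of_sylow (s := v) hrv
          ((hΓC.trans hCM).trans le_normalizer) (S.maxQ_inf_sylow hQ hM.1 hCM) fun x hx =>
            ⟨hx.1.2, fun γ hγ => centralizer_trivial_commutator (zCen_comm hγ hx.1.1)⟩
        have hact := le_actSet_of_le_commSet ((hΓC.trans hCM).trans le_normalizer) hL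
        refine le_commSet_of_le_actSet (layerPart_le _ _ _) (commutator_le.mpr fun u hu γ hγ => ?_)
        exact commutator_mem_actSet (le_normalizer (hYM hu))
          (normalizer_le_layerPart _ _ _ (le_normalizer (hYM hu))) (hact hγ)
      · intro x hx
        refine ⟨layerPart_le _ _ _ hx, fun γ hγ => ?_⟩
        have hxH : x ∈ H := hSH (le_bigS_of_ne S h2pi (S.sub_mem hM.1 (layerPart_le v r M)
          ((S.normalizer_mem hM.1).trans (normalizer_le_layerPart v r M)))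
          ((hCM.trans le_normalizer).trans (normalizer_le_layerPart v r M)) (fun hd => by
            rcases layerPart_isPiNum (s := v) (r := r) M 2 Nat.prime_two hd with h | h
            · exact hv2 h.symm
            · exact hr2 (Set.mem_singleton_iff.mp h).symm) hx)
        exact commutator_mem_core_of_invariant (Grp.coreOf_isPGroup H) (hXle hγ).1 (hXM hγ)
          (layerPart_le_layer v M hr hx) (Hyp.max_normalizes_core S v hxH)
    have h := le_kern_of_line S h3 (s := v) hn (Γ := X) ?_ fun b hb hb1 => ?_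
    · rw [hk v hv, le_bot_iff] at h; exact h
    · obtain ⟨b, hb, hb1⟩ : ∃ b ∈ n, b ≠ 1 := by
        by_contra h
        push Not at h
        exact S.line_ne_bot hn ((Subgroup.eq_bot_iff_forall _).mpr h)
      obtain ⟨M, hM, hle⟩ := S.exists_max (S.theta_mem (hn.1 hb) hb1)
      exact (hcore b hb hb1 M hM hle).trans
        (core_le_bigS_one S h3 hM.1 ((S.C_le_theta (hn.1 hb) hb1).trans hle))
    · obtain ⟨M, hM, hle⟩ := S.exists_max (S.theta_mem (hn.1 hb) hb1)
      exact ⟨coreOf v M, Grp.coreOf_isPGroup M, hcore b hb hb1 M hM hle,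
        hle.trans (Hyp.max_normalizes_core S v)⟩
  have hΓH2 : Γ ≤ coreOf 2 H := fun x hx => S.mem_core_of_centralizes hH.1 (hΓH hx) hΓ2 hx fun r hr => by
    by_cases hr2 : r = 2
    · subst hr2; exact hΓcen (S.coreOf_le_maxQ hH.1 hCH hQ) hx
    · exact hodd r hr hr2 hx
  have hall : ∀ M, IsMax p A θ M → Cfsg.signalizerInf A θ ≤ M → Γ ≤ coreOf 2 M := by
    intro M hM hCM x hx
    refine S.mem_core_of_centralizes hM.1 (hCM (hΓC hx)) hΓ2 hx fun r hr => ?_
    by_cases hr2 : r = 2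
    · subst hr2; exact hΓcen (S.coreOf_le_maxQ hM.1 hCM hQ) hx
    haveI := Fact.mk hr
    rw [mem_centralizer_iff]
    intro y hy
    have hyH : y ∈ H := hSH (core_le_bigS_of_ne S h2pi hr2 hM.1 hCM hy)
    have h1 : ⁅x, y⁆ ∈ coreOf 2 H ⊓ coreOf r M :=
      ⟨commutator_mem_of_normalizes' (Hyp.max_normalizes_core S 2 hyH) (hΓH2 hx),
        commutator_mem_of_normalizes (Hyp.max_normalizes_core S r (hCM (hΓC hx))) hy⟩
    rw [inf_pgroup_eq_bot (Ne.symm hr2) (Grp.coreOf_isPGroup H) (Grp.coreOf_isPGroup M), mem_bot] at h1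
    exact (commutatorElement_eq_one_iff_mul_comm.mp h1).symm
  obtain ⟨n, hn⟩ := S.exists_line
  have h := le_kern_of_line S h3 (s := 2) hn (Γ := Γ) ((hall H hH hCH).trans (core_le_bigS_one S h3 hH.1 hCH))
    fun b hb hb1 => by
      obtain ⟨M, hM, hle⟩ := S.exists_max (S.theta_mem (hn.1 hb) hb1)
      exact ⟨coreOf 2 M, Grp.coreOf_isPGroup M, hall M hM ((S.C_le_theta (hn.1 hb) hb1).trans hle),
        hle.trans (Hyp.max_normalizes_core S 2)⟩
  rw [hk 2 Nat.prime_two, le_bot_iff] at h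
  exact hΓne h

variable (hinc : ¬ Complete p A θ)

include hinc

theorem max_ne_bot {M : Subgroup G} (hM : IsMax p A θ M) : M ≠ ⊥ := fun e => hinc
  ⟨M, hM.1, fun _ ha ha1 => hM.2 _ (S.theta_mem ha ha1) (e ▸ bot_le)⟩

/-- Every value of the functor is the only maximal member over it. -/
theorem max_centralized {a : G} (ha : a ∈ A) (ha1 : a ≠ 1) {M : Subgroup G} (hM : IsMax p A θ M)
    (hle : θ a ≤ M) : M ≤ centralizer ({a} : Set G) := by
  haveI := Fact.mk Nat.prime_two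
  refine S.le_centralizer_of_cores hM.1 ha fun r hr => ?_
  haveI := Fact.mk hr
  by_cases hr2 : r = 2
  swap
  · exact odd_core_centralized S h3 hk hr2 ha ha1 hM hle
  subst hr2
  obtain ⟨L0, hL0, hP2⟩ := exists_line_two_core S h3 hk
  refine S.member_le_of_lines (S.coreOf_mem hM.1 2) fun m hm => ?_
  by_cases ham : a ∈ m
  · exact inf_le_right.trans (centralizer_le (Set.singleton_subset_iff.mpr ham))
  obtain ⟨d, hd, hdL, hdm⟩ := exists_not_mem_two S.toSetup hL0 hm
  have hd1 : d ≠ 1 := fun e => hdL (e ▸ one_mem _)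
  obtain ⟨Md, hMd, hdMd⟩ := S.exists_max (S.theta_mem hd hd1)
  have hMd2 : coreOf 2 Md = ⊥ := by
    by_contra h
    exact hdL (hP2 d hd hd1 Md hMd hdMd h)
  have hMdc : Md ≤ centralizer ({d} : Set G) := by
    refine S.le_centralizer_of_cores hMd.1 hd fun q hq => ?_
    by_cases hq2 : q = 2
    · subst hq2; rw [hMd2]; exact bot_le
    · haveI := Fact.mk hq
      exact odd_core_centralized S h3 hk hq2 hd hd1 hMd hdMd
  have hCMd := (S.C_le_theta hd hd1).trans hdMd
  have hS2 := bigS_one S h3 2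
  set S2 := bigS p A θ {2}
  set Ω := ⁅S2, zpowers d⁆
  have hdS : zpowers d ≤ normalizer (S2 : Set G) := zpowers_le.mpr (S.mem_normalizer_member hS2.1 hd)
  have hΩ : Ω ≤ S2 := Grp.commutator_le_left_of_le_normalizer hdS
  -- `d` has no fixed points on `[S₂, d]`
  have hfix : Ω ⊓ centralizer ({d} : Set G) = ⊥ := by
    refine (Subgroup.eq_bot_iff_forall _).mpr fun z ⟨hzΩ, hzd⟩ => ?_
    have hzM : z ∈ Md := hdMd (S.mem_inf_point hS2.1 hd hd1 ⟨hΩ hzΩ, hzd⟩)
    have h := S.mem_core_of_centralizes hMd.1 hzM (bigS_one_pGroup S h3 (s := 2)) (hΩ hzΩ) fun t ht => ?_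
    · rw [hMd2, mem_bot] at h; exact h
    by_cases htb : coreOf t Md = ⊥
    · rw [htb, mem_centralizer_iff]
      intro y hy
      rw [SetLike.mem_coe, mem_bot] at hy
      simp [hy]
    haveI := Fact.mk ht
    have ht2 : t ≠ 2 := fun e => htb (e ▸ hMd2)
    have hown : Owner p t A θ d := Hyp.owner_of_max S hMd hCMd htb hd hMdc
    have hHp := bigS_pair S h3 2 t
    set H := bigS p A θ {2, t}
    have hΩH : Ω ≤ H := hΩ.trans (bigS_one_le_pair S h3 t)
    have hdH : zpowers d ≤ normalizer (H : Set G) := zpowers_le.mpr (S.mem_normalizer_member hHp.1 hd)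
    have hΩcore : Ω ≤ coreOf 2 H := by
      refine le_core_of_layer hHp.1.1 hΩH ((bigS_one_pGroup S h3 (s := 2)).to_le hΩ)
        (layerPart_le_commSet_of_primes (hΩH.trans le_normalizer) fun r hr hr2 => ?_)
      haveI := Fact.mk hr
      by_cases hrt : r = t
      · subst hrt
        obtain ⟨X, hX, hXA⟩ := Grp.exists_invariant_sylow A H (S.normalizer_mem hHp.1)
          (S.coprime_A hHp.1) (Or.inr hHp.1.1) r
        have hXd := zpowers_le_centralizer_of (hown X (S.sub_mem hHp.1 hX.1 hXA) hX.2.1)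
        have hact := le_actSet_of_le_commSet hdH (layerPart_le_commSet_of_sylow (s := 2) ht2 hdH hX
          fun x hx => ⟨layerPart_le _ _ _ hx.2, fun k hk' => centralizer_trivial_commutator
            (mem_centralizer_iff.mp (hXd hk') x hx.1).symm⟩)
        refine le_commSet_of_le_actSet (layerPart_le _ _ _) (commutator_le.mpr fun u hu k hk' => ?_)
        have huH : u ∈ H := bigS_one_le_pair S h3 r hu
        exact commutator_mem_actSet (le_normalizer huH)
          (normalizer_le_layerPart _ _ _ (le_normalizer huH)) (hact hk')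
      · intro x hx
        refine coreOf_le_commSet (hΩH.trans le_normalizer) ?_
        refine mem_core_of_mem_layer (layerPart_le_layer 2 H hr hx) (isPGroup_of_isPiNum S fun q hq hq' => ?_) hx
        rcases layerPart_isPiNum (s := 2) (r := r) H q hq hq' with h | h
        · exact h
        rcases hHp.2.1 q hq (hq'.trans (card_dvd_of_le (layerPart_le _ _ _))) with h' | h'
        · exact h'
        · rw [Set.mem_singleton_iff] at h h'
          exact absurd (h.symm.trans h') hrt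
    rw [mem_centralizer_iff]
    intro y hy
    have hyH : y ∈ H := bigS_right_le S h3 (S.coreOf_mem hMd.1 t) (Grp.coreOf_isPGroup Md)
      (hCMd.trans (Hyp.max_normalizes_core S t)) 2 hy
    have h1 : ⁅z, y⁆ ∈ coreOf 2 H ⊓ coreOf t Md :=
      ⟨commutator_mem_of_normalizes' (Hyp.max_normalizes_core S 2 hyH) (hΩcore hzΩ),
        commutator_mem_of_normalizes (Hyp.max_normalizes_core S t hzM) hy⟩
    rw [inf_pgroup_eq_bot ht2.symm (Grp.coreOf_isPGroup H) (Grp.coreOf_isPGroup Md), mem_bot] at h1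
    exact (commutatorElement_eq_one_iff_mul_comm.mp h1).symm
  -- hence `a` centralizes `R ∩ C(m)`
  have hCM := (S.C_le_theta ha ha1).trans hle
  set R := coreOf 2 M
  set P := R ⊓ centralizer (m : Set G)
  have hPm : P ∈ Cfsg.signalizerFamily p A θ := S.sub_mem (S.coreOf_mem hM.1 2) inf_le_left
    (Grp.le_normalizer_inf' (S.normalizer_mem (S.coreOf_mem hM.1 2)) (S.le_normalizer_centralizer hm.1))
  have hPS : P ≤ S2 := inf_le_left.trans (core_le_bigS_one S h3 hM.1 hCM)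
  refine centralizes_of_commutator S.toSetup hPm ha ?_
  set V := ⁅P, zpowers a⁆
  have hVP : V ≤ P :=
    Grp.commutator_le_left_of_le_normalizer (zpowers_le.mpr (S.mem_normalizer_member hPm ha))
  have hVΩ : V ≤ Ω := by
    refine commutator_le.mpr fun x hx k hk' => ?_
    obtain ⟨n₀, hn₀, j, rfl⟩ := decompose_line S.toSetup hm hd hdm (zpowers_le.mpr ha hk')
    have hcx : n₀ * x = x * n₀ := mem_centralizer_iff.mp hx.2 n₀ hn₀
    have hcd : n₀ * d ^ j = d ^ j * n₀ := S.comm (hm.1 hn₀) (zpow_mem hd j)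
    have e : ⁅x, n₀ * d ^ j⁆ = ⁅x, d ^ j⁆ := commutator_mul_fixed hcx hcd
    rw [e]
    exact Subgroup.commutator_mem_commutator (hPS hx) (zpow_mem (mem_zpowers d) j)
  have hfa : V ⊓ centralizer ({a} : Set G) = ⊥ := by
    rw [eq_bot_iff, ← hfix]
    rintro x ⟨hxV, hxa⟩
    refine ⟨hVΩ hxV, ?_⟩
    have h1 : m ⊔ zpowers a ≤ centralizer ((zpowers x : Subgroup G) : Set G) := by
      rw [Grp.centralizer_singleton_eq_zpowers] at hxa
      exact sup_le (le_centralizer_iff.mp (zpowers_le.mpr (hVP hxV).2))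
        (le_centralizer_iff.mp (zpowers_le.mpr hxa))
    rw [S.eq_top_of_line hm ha ham] at h1
    refine centralizer_le (Set.singleton_subset_iff.mpr hd) ?_
    exact le_centralizer_iff.mp h1 (mem_zpowers x)
  have h := le_kern_of_fpf S h3 (s := 2) (X := R) (core_le_bigS_one S h3 hM.1 hCM) ha ha1
    (hle.trans (Hyp.max_normalizes_core S 2)) (hVP.trans inf_le_left)
    (Grp.right_le_normalizer_commutator _ _ (mem_zpowers a)) hfa
  rw [hk 2 Nat.prime_two] at h
  exact h.trans bot_le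

theorem theta_isMax {a : G} (ha : a ∈ A) (ha1 : a ≠ 1) : IsMax p A θ (θ a) := by
  obtain ⟨M, hM, hle⟩ := S.exists_max (S.theta_mem ha ha1)
  rw [Hyp.max_eq_theta S hM ha ha1 hle (max_centralized S h3 hk hinc ha ha1 hM hle)]
  exact hM

theorem owner_of_core {a : G} (ha : a ∈ A) (ha1 : a ≠ 1) {t : ℕ} [Fact t.Prime]
    (h : coreOf t (θ a) ≠ ⊥) : Owner p t A θ a :=
  Hyp.owner_of_max S (theta_isMax S h3 hk hinc ha ha1) (S.C_le_theta ha ha1) h ha
    (S.theta_le_centralizer ha ha1)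

/-- The owners of a prime are not in one cyclic group. -/
theorem owners_not_cyclic {q : ℕ} (hq : IsPi A θ q) {x : G} (hx : x ∈ A) (hx1 : x ≠ 1) :
    ∃ d ∈ A, d ≠ 1 ∧ d ∉ zpowers x ∧ Owner p q A θ d := by
  by_contra hne
  haveI := Fact.mk hq.1
  have hout : ∀ d ∈ A, d ≠ 1 → d ∉ zpowers x → coreOf q (θ d) = ⊥ := fun d hd hd1 hdx => by
    by_contra h
    exact hne ⟨d, hd, hd1, hdx, owner_of_core S h3 hk hinc hd hd1 h⟩
  obtain ⟨H, hH, hSH, hCH⟩ := exists_bigS_max S hq
  have hcores : ∀ d ∈ A, d ≠ 1 → d ∉ zpowers x → ∀ t : ℕ, t.Prime → coreOf t (θ d) ≤ H := by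
    intro d hd hd1 hdx t ht
    haveI := Fact.mk ht
    by_cases htq : t = q
    · subst htq; rw [hout d hd hd1 hdx]; exact bot_le
    · exact (core_le_bigS_of_ne S hq htq (S.theta_mem hd hd1) (S.C_le_theta hd hd1)).trans hSH
  by_cases hxH : ∀ v : ℕ, v.Prime → coreOf v H ≤ centralizer ({x} : Set G)
  · have hHc := S.le_centralizer_of_cores hH.1 hx hxH
    have hHθ : H ≤ θ x := (le_inf le_rfl hHc).trans (S.mem_inf_point hH.1 hx hx1)
    refine hinc ⟨θ x, S.theta_mem hx hx1, fun d hd hd1 => ?_⟩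
    refine le_trans (le_inf le_rfl ?_) (S.mem_inf_point (S.theta_mem hd hd1) hx hx1)
    by_cases hdx : d ∈ zpowers x
    · have e : zpowers d = zpowers x := Subgroup.eq_of_le_of_card_ge (zpowers_le.mpr hdx)
        (by rw [S.card_zpowers_point hd hd1, S.card_zpowers_point hx hx1])
      rw [Grp.centralizer_singleton_eq_zpowers, ← e, ← Grp.centralizer_singleton_eq_zpowers]
      exact S.theta_le_centralizer hd hd1
    · exact S.le_centralizer_of_cores (S.theta_mem hd hd1) hx fun t ht =>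
        ((hcores d hd hd1 hdx t ht).trans hHθ).trans (S.theta_le_centralizer hx hx1)
  push Not at hxH
  obtain ⟨v, hv, hvx⟩ := hxH
  haveI := Fact.mk hv
  set Y := coreOf v H
  obtain ⟨n, hn, hYn⟩ : ∃ n, IsLine p A n ∧ ¬ Y ⊓ centralizer (n : Set G) ≤ centralizer ({x} : Set G) := by
    by_contra h
    push Not at h
    exact hvx (S.member_le_of_lines (S.coreOf_mem hH.1 v) h)
  have hxn : x ∉ n := fun h => hYn (inf_le_right.trans (centralizer_le (Set.singleton_subset_iff.mpr h)))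
  have hnx : ∀ d ∈ n, d ≠ 1 → d ∉ zpowers x := fun d hd hd1 h => hxn (by
    have e : zpowers d = zpowers x := Subgroup.eq_of_le_of_card_ge (zpowers_le.mpr h)
      (by rw [S.card_zpowers_point (hn.1 hd) hd1, S.card_zpowers_point hx hx1])
    exact zpowers_le.mpr hd (e.symm ▸ mem_zpowers x))
  have hθd : ∀ {U : Subgroup G}, U ∈ Cfsg.signalizerFamily p A θ → ∀ d ∈ n, d ≠ 1 →
      U ⊓ centralizer ({d} : Set G) ≤ θ d := fun hU d hd hd1 => S.mem_inf_point hU (hn.1 hd) hd1
  have hother : ∀ d ∈ n, d ≠ 1 → ∀ u ∈ Y, u ∈ θ d → ∀ t : ℕ, t.Prime → t ≠ v →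
      u ∈ centralizer ((coreOf t (θ d) : Subgroup G) : Set G) := by
    intro d hd hd1 u hu huθ t ht htv
    haveI := Fact.mk ht
    rw [mem_centralizer_iff]
    intro y hy
    have hyH := hcores d (hn.1 hd) hd1 (hnx d hd hd1) t ht hy
    have h1 : ⁅u, y⁆ ∈ Y ⊓ coreOf t (θ d) :=
      ⟨commutator_mem_of_normalizes' (Hyp.max_normalizes_core S v hyH) hu,
        commutator_mem_of_normalizes (Hyp.max_normalizes_core S t huθ) hy⟩
    rw [inf_pgroup_eq_bot (Ne.symm htv) (Grp.coreOf_isPGroup H) (Grp.coreOf_isPGroup _), mem_bot] at h1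
    exact (commutatorElement_eq_one_iff_mul_comm.mp h1).symm
  have hvd : ∀ d ∈ n, d ≠ 1 → coreOf v (θ d) ≠ ⊥ := by
    intro d hd hd1 hbot
    refine hYn ?_
    intro u ⟨huY, hun⟩
    have huθ : u ∈ θ d := hθd (S.coreOf_mem hH.1 v) d hd hd1
      ⟨huY, centralizer_le (Set.singleton_subset_iff.mpr hd) hun⟩
    have h := S.mem_core_of_centralizes (S.theta_mem (hn.1 hd) hd1) huθ
      (Grp.coreOf_isPGroup (r := v) H) huY fun t ht => ?_
    · rw [hbot, mem_bot] at h; rw [h]; exact one_mem _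
    by_cases htv : t = v
    · subst htv
      rw [hbot, mem_centralizer_iff]
      intro y hy
      rw [SetLike.mem_coe, mem_bot] at hy
      simp [hy]
    · exact hother d hd hd1 u huY huθ t ht htv
  obtain ⟨d₀, hd₀, hd₀1⟩ : ∃ b ∈ n, b ≠ 1 := by
    by_contra h
    push Not at h
    exact S.line_ne_bot hn ((Subgroup.eq_bot_iff_forall _).mpr h)
  have hvq : v ≠ q := fun e => hvd d₀ hd₀ hd₀1 (by subst e; exact hout d₀ (hn.1 hd₀) hd₀1 (hnx _ hd₀ hd₀1))
  have hS := bigS_one S h3 v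
  set Sv := bigS p A θ {v}
  have hSvH : Sv ≤ H := (le_bigS_of_ne S hq hS.1 hS.2.2.1
    (fun h => hvq (hS.2.1 q hq.1 h).symm)).trans hSH
  have hYS : Y ≤ Sv := core_le_bigS_one S h3 hH.1 hCH
  have hYne : Y ≠ ⊥ := fun e => hYn (by rw [e, bot_inf_eq]; exact bot_le)
  obtain ⟨Z, hZY, hZS, hZne⟩ : ∃ Z : Subgroup G, Z ≤ Y ∧ Z ≤ zCen Sv ∧ Z ≠ ⊥ := by
    refine ⟨Y ⊓ zCen Sv, inf_le_left, inf_le_right, ?_⟩
    haveI : (Y.subgroupOf Sv).Normal := (Subgroup.normal_subgroupOf_iff_le_normalizer hYS).mpr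
      (hSvH.trans (Hyp.max_normalizes_core S v))
    haveI : Group.IsNilpotent Sv := (bigS_one_pGroup S h3 (s := v)).isNilpotent
    intro e
    refine Grp.inf_center_ne_bot (Y.subgroupOf Sv) (fun e0 => hYne ?_) ?_
    · rw [← Subgroup.map_subgroupOf_eq_of_le hYS, e0, Subgroup.map_bot]
    · refine (Subgroup.eq_bot_iff_forall _).mpr fun z ⟨hz, hzc⟩ => ?_
      have h1 : (z : G) ∈ Y ⊓ zCen Sv := ⟨hz, z.2, mem_centralizer_iff.mpr fun w hw =>
        congrArg Subtype.val (Subgroup.mem_center_iff.mp hzc ⟨w, hw⟩)⟩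
      rw [e, mem_bot] at h1
      exact Subtype.ext h1
  have hcore : ∀ d ∈ n, d ≠ 1 → Z ≤ coreOf v (θ d) := by
    intro d hd hd1 z hz
    have hown : Owner p v A θ d := owner_of_core S h3 hk hinc (hn.1 hd) hd1 (hvd d hd hd1)
    have hzθ : z ∈ θ d := hθd hS.1 d hd hd1
      ⟨(hZS hz).1, hown Sv hS.1 (bigS_one_pGroup S h3 (s := v)) (hZS hz).1⟩
    refine S.mem_core_of_centralizes (S.theta_mem (hn.1 hd) hd1) hzθ
      (Grp.coreOf_isPGroup (r := v) H) (hZY hz) fun t ht => ?_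
    by_cases htv : t = v
    · subst htv
      rw [mem_centralizer_iff]
      intro y hy
      exact (zCen_comm (hZS hz) (core_le_bigS_one S h3 (S.theta_mem (hn.1 hd) hd1)
        (S.C_le_theta (hn.1 hd) hd1) hy)).symm
    · exact hother d hd hd1 z (hZY hz) hzθ t ht htv
  have h := le_kern_of_line S h3 (s := v) hn (Γ := Z) (hZY.trans hYS) fun b hb hb1 =>
    ⟨coreOf v (θ b), Grp.coreOf_isPGroup _, hcore b hb hb1, Hyp.max_normalizes_core S v⟩
  rw [hk v hv, le_bot_iff] at h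
  exact hZne h

theorem three_false : False := by
  obtain ⟨a₀, ha₀, ha₀1⟩ := S.exists_point
  obtain ⟨a, ha, ha1, v, hv, hvC⟩ : ∃ a ∈ A, a ≠ 1 ∧ ∃ v : ℕ, v.Prime ∧
      ¬ coreOf v (θ a) ≤ Cfsg.signalizerInf A θ := by
    by_contra h
    refine hinc ⟨Cfsg.signalizerInf A θ, S.C_mem, fun a ha ha1 => ?_⟩
    refine S.le_C_of_span (S.theta_mem ha ha1) (T := (A : Set G)) (closure_eq A).ge fun b hb => ?_
    refine S.le_centralizer_of_cores (S.theta_mem ha ha1) hb fun r hr => ?_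
    have h1 : coreOf r (θ a) ≤ Cfsg.signalizerInf A θ := by
      by_contra h2
      exact h ⟨a, ha, ha1, r, hr, h2⟩
    exact h1.trans (S.C_le_centralizer.trans (centralizer_le (Set.singleton_subset_iff.mpr hb)))
  haveI := Fact.mk hv
  have hTne : coreOf v (θ a) ≠ ⊥ := fun e => hvC (by rw [e]; exact bot_le)
  have hvpi : IsPi A θ v := isPi_of_core S (S.theta_mem ha ha1) hTne
  set O : Set G := {d | d ∈ A ∧ d ≠ 1 ∧ Owner p v A θ d}
  have hnspan : ¬ A ≤ closure O := fun h => hvC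
    (S.le_C_of_span (S.coreOf_mem (S.theta_mem ha ha1) v) h fun d hd =>
      hd.2.2 _ (S.coreOf_mem (S.theta_mem ha ha1) v) (Grp.coreOf_isPGroup _))
  obtain ⟨n, hn, hOn⟩ := S.exists_line_of_cyclic (T := O) (fun d hd => hd.1) hnspan
  have hao : Owner p v A θ a := owner_of_core S h3 hk hinc ha ha1 hTne
  have han : a ∈ n := hOn ⟨ha, ha1, hao⟩
  obtain ⟨c, hc, hc1, hca, hco⟩ := owners_not_cyclic S h3 hk hinc hvpi ha ha1
  have hcn : c ∈ n := hOn ⟨hc, hc1, hco⟩
  have hvn : ∀ U ∈ Cfsg.signalizerFamily p A θ, IsPGroup v U → U ≤ centralizer (n : Set G) :=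
    fun U hU hUv x hx => S.centralizer_line hn han hcn ha1 hca (hao U hU hUv hx) (hco U hU hUv hx)
  set K := Cfsg.signalizerInf n θ
  set O' := coreOf v K
  have hTm := S.coreOf_mem (S.theta_mem ha ha1) v
  have hTK : coreOf v (θ a) ≤ K :=
    (le_inf le_rfl (hvn _ hTm (Grp.coreOf_isPGroup _))).trans (S.member_line_le_K hTm hn)
  have hTO : coreOf v (θ a) ≤ O' := le_coreOf hTK
    ((S.K_le_theta han ha1).trans (Hyp.max_normalizes_core S v)) (Grp.coreOf_isPGroup _)
  have hOm : O' ∈ Cfsg.signalizerFamily p A θ := S.coreOf_mem (S.K_mem hn) v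
  set X := ⁅O', A⁆
  have hXO : X ≤ O' := Grp.commutator_le_left_of_le_normalizer (S.normalizer_mem hOm)
  have hXne : X ≠ ⊥ := fun e => hvC
    (((le_inf le_rfl (hTO.trans (commutator_eq_bot_iff_le_centralizer.mp e)))).trans (S.member_A_le_C hTm))
  have hOn' : O' ≤ centralizer (n : Set G) := (Grp.coreOf_le K).trans (S.K_le_centralizer hn)
  have hcore : ∀ e ∈ n, e ≠ 1 → X ≤ coreOf v (θ e) := by
    intro e he he1
    have heA := hn.1 he
    have hθm := S.theta_mem heA he1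
    have hKθ : K ≤ θ e := S.K_le_theta he he1
    have hOθ : O' ≤ θ e := (Grp.coreOf_le K).trans hKθ
    refine le_core_of_layer hθm.1 (hXO.trans hOθ) ((Grp.coreOf_isPGroup K).to_le hXO)
      (layerPart_le_commSet_of_primes ((hXO.trans hOθ).trans le_normalizer) fun r hr hrv => ?_)
    haveI := Fact.mk hr
    by_cases hrpi : IsPi A θ r
    swap
    · intro y hy
      refine coreOf_le_commSet ((hXO.trans hOθ).trans le_normalizer) ?_
      refine mem_core_of_mem_layer (layerPart_le_layer v _ hr hy) (isPGroup_of_isPiNum S fun q hq hq' => ?_) hy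
      rcases layerPart_isPiNum (s := v) (r := r) (θ e) q hq hq' with h | h
      · exact h
      · rw [Set.mem_singleton_iff] at h
        subst h
        exact absurd (isPi_of_dvd S hθm hq (hq'.trans (card_dvd_of_le (layerPart_le _ _ _)))) hrpi
    obtain ⟨X1, hX1, hX1A⟩ := Grp.exists_invariant_sylow A (θ e) (S.normalizer_mem hθm)
      (S.coprime_A hθm) (Or.inr hθm.1) r
    have hX1m := S.sub_mem hθm hX1.1 hX1A
    by_cases hout : ∃ x ∈ A, x ∉ n ∧ Owner p r A θ x
    · obtain ⟨x, hx, hxn, hxo⟩ := hout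
      have hxN : zpowers x ≤ normalizer ((θ e : Subgroup G) : Set G) :=
        zpowers_le.mpr (S.mem_normalizer_member hθm hx)
      have hxc := zpowers_le_centralizer_of (hxo X1 hX1m hX1.2.1)
      have hact := le_actSet_of_le_commSet hxN (layerPart_le_commSet_of_sylow (s := v) hrv hxN hX1
        fun y hy => ⟨layerPart_le _ _ _ hy.2, fun k hk' => centralizer_trivial_commutator
          (mem_centralizer_iff.mp (hxc hk') y hy.1).symm⟩)
      refine le_commSet_of_le_actSet (layerPart_le _ _ _) (commutator_le.mpr fun u hu k hk' => ?_)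
      obtain ⟨n₀, hn₀, j, rfl⟩ := decompose_line S.toSetup hn hx hxn hk'
      have hcu : n₀ * u = u * n₀ := mem_centralizer_iff.mp (hOn' hu) n₀ hn₀
      have hcx : n₀ * x ^ j = x ^ j * n₀ := S.comm (hn.1 hn₀) (zpow_mem hx j)
      have e' : ⁅u, n₀ * x ^ j⁆ = ⁅u, x ^ j⁆ := commutator_mul_fixed hcu hcx
      rw [e']
      exact commutator_mem_actSet (le_normalizer (hOθ hu))
        (normalizer_le_layerPart _ _ _ (le_normalizer (hOθ hu))) (hact (zpow_mem (mem_zpowers x) j))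
    · obtain ⟨x₁, hx₁, hx₁1, -, ho1⟩ := owners_not_cyclic S h3 hk hinc hrpi ha ha1
      obtain ⟨x₂, hx₂, -, hx₂1, ho2⟩ := owners_not_cyclic S h3 hk hinc hrpi hx₁ hx₁1
      have h1n : x₁ ∈ n := by_contra fun h => hout ⟨x₁, hx₁, h, ho1⟩
      have h2n : x₂ ∈ n := by_contra fun h => hout ⟨x₂, hx₂, h, ho2⟩
      have hXK : X1 ≤ K := (le_inf le_rfl fun y hy => S.centralizer_line hn h1n h2n hx₁1 hx₂1
        (ho1 X1 hX1m hX1.2.1 hy) (ho2 X1 hX1m hX1.2.1 hy)).trans (S.member_line_le_K hX1m hn)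
      refine layerPart_le_commSet_of_sylow hrv ((hXO.trans hOθ).trans le_normalizer) hX1 fun y hy =>
        ⟨layerPart_le _ _ _ hy.2, fun γ hγ => ?_⟩
      exact commutator_mem_core_of_invariant (Grp.coreOf_isPGroup K) (hXO hγ) (hOθ (hXO hγ))
        (layerPart_le_layer v _ hr hy.2) (Hyp.max_normalizes_core S v (hXK hy.1))
  have h := le_kern_of_line S h3 (s := v) hn (Γ := X)
    ((hcore a han ha1).trans (core_le_bigS_one S h3 (S.theta_mem ha ha1) (S.C_le_theta ha ha1)))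
    fun b hb hb1 => ⟨coreOf v (θ b), Grp.coreOf_isPGroup _, hcore b hb hb1, Hyp.max_normalizes_core S v⟩
  rw [hk v hv, le_bot_iff] at h
  exact hXne h

end Main

/-- Completeness with three primes. -/
theorem complete_of_three (S : Hyp p A θ) (h3 : HasThree A θ) : Complete p A θ := by
  by_contra hinc
  refine three_false S h3 (fun q hq => ?_) hinc
  haveI := Fact.mk hq
  by_contra hne
  exact hinc (complete_of_kern S h3 hne)

end Cfsg.Agent.Transfer.SFT
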