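import Mathlib
import Cfsg.Agent.Lib.Transfer.SFT.ThreePrimes

/-!
Commutator subgroups from the pieces fixed by hyperplanes.
-/

set_option autoImplicit false
set_option linter.unusedSectionVars false

namespace Cfsg.Agent.Transfer.SFT

open Subgroup
open scoped commutatorElement Pointwise

variable {G : Type*} [Group G] [Finite G] {p : ℕ} [hp : Fact p.Prime] {A : Subgroup G}
  {θ : G → Subgroup G}

/-- A `[V, X] = V` group is generated by the commutators of its pieces. -/
theorem le_of_pieces (S : Setup p A θ) {r : ℕ} [Fact r.Prime] {V X T : Subgroup G}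
    (hV : V ∈ Cfsg.signalizerFamily p A θ) (hVr : IsPGroup r V) (hXV : X ≤ normalizer (V : Set G))
    (hcop : (Nat.card X).Coprime (Nat.card V)) (hVX : V ≤ ⁅V, X⁆)
    (hXn : ∀ n, IsLine p A n → X ≤ normalizer ((V ⊓ centralizer (n : Set G) : Subgroup G) : Set G))
    (h : ∀ n, IsLine p A n → ⁅V ⊓ centralizer (n : Set G), X⁆ ≤ T) : V ≤ T := by
  haveI : Group.IsNilpotent V := hVr.isNilpotent
  set T1 : Subgroup G := ⨆ n : {n // IsLine p A n}, ⁅V ⊓ centralizer ((n : Subgroup G) : Set G), X⁆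
  set W := ⁅V, V⁆
  have hT1V : T1 ≤ V := iSup_le fun n =>
    (Grp.commutator_le_left_of_le_normalizer (hXn n n.2)).trans inf_le_left
  have hWV : W ≤ V := Subgroup.commutator_le_self V
  set M0 := T1 ⊔ W
  have hM0V : M0 ≤ V := sup_le hT1V hWV
  have hXM0 : X ≤ normalizer (M0 : Set G) :=
    Grp.le_normalizer_sup' (le_normalizer_iSup fun n => Grp.right_le_normalizer_commutator _ _)
      (commutator_normal_of hXV)
  have hVM0 : V ≤ normalizer (M0 : Set G) := by
    refine Grp.invariant_iff.mp fun v hv m hm => ?_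
    have h1 : ⁅v, m⁆ ∈ M0 := mem_sup_right (Subgroup.commutator_mem_commutator hv (hM0V hm))
    convert mul_mem h1 hm using 1
    rw [commutatorElement_def]; group
  let S0 : Subgroup G :=
    { carrier := {v | v ∈ V ∧ ∀ x ∈ X, ⁅v, x⁆ ∈ M0}
      one_mem' := ⟨one_mem _, fun x _ => by rw [commutatorElement_one_left]; exact one_mem _⟩
      mul_mem' := fun {a b} ha hb => ⟨mul_mem ha.1 hb.1, fun x hx => by
        rw [show ⁅a * b, x⁆ = a * ⁅b, x⁆ * a⁻¹ * ⁅a, x⁆ by simp only [commutatorElement_def]; group]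
        exact mul_mem (Grp.mem_conj_normalizer (hVM0 ha.1) (hb.2 x hx)) (ha.2 x hx)⟩
      inv_mem' := fun {a} ha => ⟨inv_mem ha.1, fun x hx => by
        rw [show ⁅a⁻¹, x⁆ = a⁻¹ * ⁅a, x⁆⁻¹ * a by simp only [commutatorElement_def]; group]
        simpa using Grp.mem_conj_normalizer' (hVM0 ha.1) (inv_mem (ha.2 x hx))⟩ }
  have hVS : V ≤ S0 := S.member_le_of_lines hV fun n hn v hv =>
    ⟨hv.1, fun x hx => mem_sup_left
      (mem_iSup_of_mem (⟨n, hn⟩ : {n // IsLine p A n}) (Subgroup.commutator_mem_commutator hv hx))⟩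
  have hle : V ≤ M0 := hVX.trans (commutator_le.mpr fun v hv x hx => (hVS hv).2 x hx)
  have hT1 : T1.subgroupOf V = ⊤ := by
    refine frattini_nongenerating (top_le_iff.mp ?_)
    intro v _
    have hv : (v : G) ∈ ((T1.subgroupOf V ⊔ frattini V).map V.subtype) := by
      rw [Subgroup.map_sup, Subgroup.map_subgroupOf_eq_of_le hT1V]
      refine (sup_le_sup_left ?_ T1) (hle v.2)
      rw [show W = (commutator ↥V).map V.subtype from (Subgroup.map_subtype_commutator V).symm]
      exact map_mono (Grp.pGroup_commutator_le_frattini hVr)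
    obtain ⟨w, hw, e⟩ := hv
    exact (show w = v from Subtype.ext e) ▸ hw
  exact (Subgroup.subgroupOf_eq_top.mp hT1).trans (iSup_le fun n => h n n.2)

/-- A commutator with an operator comes from those of the invariant Sylow subgroups. -/
theorem commutator_le_of_sylows (S : Setup p A θ) {H T : Subgroup G}
    (hH : H ∈ Cfsg.signalizerFamily p A θ) {f : G} (hf : f ∈ A)
    (h : ∀ q : ℕ, q.Prime → ∀ P ∈ Cfsg.signalizerFamily p A θ, IsPGroup q P → P ≤ H →
      ⁅P, zpowers f⁆ ≤ T) : ⁅H, zpowers f⁆ ≤ T := by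
  set I := ⁅H, zpowers f⁆ with hI
  have hfH : zpowers f ≤ normalizer (H : Set G) := zpowers_le.mpr (S.mem_normalizer_member hH hf)
  have hIH : I ≤ H := Grp.commutator_le_left_of_le_normalizer hfH
  have hII : ⁅I, zpowers f⁆ = I := Grp.commutator_commutator_eq (zpowers f) H hfH
    (coprime_zpowers (S.pow_eq hf) hH.2.1) (Or.inl inferInstance)
  set J : Subgroup G := ⨆ x : {x : ℕ × Subgroup G // x.1.Prime ∧ x.2 ∈ Cfsg.signalizerFamily p A θ ∧
    IsPGroup x.1 x.2 ∧ x.2 ≤ H}, ⁅x.1.2, zpowers f⁆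
  have hJT : J ≤ T := iSup_le fun x => h x.1.1 x.2.1 x.1.2 x.2.2.1 x.2.2.2.1 x.2.2.2.2
  have hJ : zpowers f ≤ normalizer (J : Set G) :=
    le_normalizer_iSup fun x => Grp.right_le_normalizer_commutator _ _
  let D : ℕ → Subgroup G := fun k => (derivedSeries ↥I k).map I.subtype
  have hDI : ∀ k, D k ≤ I := fun k => map_subtype_le _
  have hIm : A ≤ normalizer (I : Set G) := by
    intro a ha
    rw [Grp.mem_normalizer_iff_smul, hI, ← Grp.map_conj_eq_smul, Subgroup.map_commutator,
      Grp.map_conj_eq_smul, Grp.map_conj_eq_smul, Grp.mem_normalizer_iff_smul.mp (S.normalizer_mem hH ha),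
      Grp.mem_normalizer_iff_smul.mp (S.le_normalizer_of_le (zpowers_le.mpr hf) ha)]
  have hDn : ∀ k, normalizer (I : Set G) ≤ normalizer ((D k : Subgroup G) : Set G) := fun k => by
    haveI := derivedSeries_characteristic ↥I k
    exact Grp.FlavellPair.normalizer_le_map_char I _
  have key : ∀ k, I ≤ J ⊔ D k := by
    intro k
    induction k with
    | zero =>
      refine le_trans ?_ le_sup_right
      show I ≤ (derivedSeries ↥I 0).map I.subtype
      rw [derivedSeries_zero, ← MonoidHom.range_eq_map, Subgroup.range_subtype]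
    | succ k ih =>
      set N := D k
      set M0 := J ⊔ D (k + 1)
      have hfM0 : zpowers f ≤ normalizer (M0 : Set G) := Grp.le_normalizer_sup' hJ
        (((zpowers_le.mpr hf).trans hIm).trans (hDn (k + 1)))
      have hN' : ∀ a ∈ N, ∀ b ∈ N, ⁅a, b⁆ ∈ M0 := by
        rintro _ ⟨a, ha, rfl⟩ _ ⟨b, hb, rfl⟩
        refine mem_sup_right ⟨⁅a, b⁆, ?_, by rw [map_commutatorElement]⟩
        rw [derivedSeries_succ]
        exact Subgroup.commutator_mem_commutator ha hb
      have hfN : zpowers f ≤ normalizer (N : Set G) := ((zpowers_le.mpr hf).trans hIm).trans (hDn k)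
      have hNm : N ∈ Cfsg.signalizerFamily p A θ :=
        S.sub_mem hH ((hDI k).trans hIH) (hIm.trans (hDn k))
      let S0 : Subgroup G :=
        { carrier := {n | n ∈ N ∧ ∀ x ∈ zpowers f, ⁅n, x⁆ ∈ M0}
          one_mem' := ⟨one_mem _, fun x _ => by rw [commutatorElement_one_left]; exact one_mem _⟩
          mul_mem' := fun {a b} ha hb => ⟨mul_mem ha.1 hb.1, fun x hx => by
            rw [show ⁅a * b, x⁆ = ⁅a, ⁅b, x⁆⁆ * ⁅b, x⁆ * ⁅a, x⁆ by simp only [commutatorElement_def]; group]
            exact mul_mem (mul_mem (hN' a ha.1 _ (commutator_mem_of_normalizes' (hfN hx) hb.1))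
              (hb.2 x hx)) (ha.2 x hx)⟩
          inv_mem' := fun {a} ha => ⟨inv_mem ha.1, fun x hx => by
            rw [show ⁅a⁻¹, x⁆ = ⁅a⁻¹, ⁅a, x⁆⁻¹⁆ * ⁅a, x⁆⁻¹ by simp only [commutatorElement_def]; group]
            exact mul_mem (hN' _ (inv_mem ha.1) _
              (inv_mem (commutator_mem_of_normalizes' (hfN hx) ha.1))) (inv_mem (ha.2 x hx))⟩ }
      have hNS : N ≤ S0 := Grp.le_of_forall_sylow (fun n hn => hn.1) (fun q hq => by
        obtain ⟨P, hP, hPA⟩ := Grp.exists_invariant_sylow A N (hIm.trans (hDn k)) (S.coprime_A hNm)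
          (Or.inr hNm.1) q
        exact ⟨P, hP, fun y hy => ⟨hP.1 hy, fun x hx => mem_sup_left (mem_iSup_of_mem
          (⟨(q, P), hq.out, S.sub_mem hNm hP.1 hPA, hP.2.1, hP.1.trans ((hDI k).trans hIH)⟩ : {x : ℕ × Subgroup G // x.1.Prime ∧ x.2 ∈ Cfsg.signalizerFamily p A θ ∧ IsPGroup x.1 x.2 ∧ x.2 ≤ H})
          (Subgroup.commutator_mem_commutator hy hx))⟩⟩)
      have hJI : J ≤ I := iSup_le fun x => Subgroup.commutator_mono x.2.2.2.2 le_rfl
      refine hII.symm.le.trans (commutator_le.mpr fun y hy x hx => ?_)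
      have hy' := ih hy
      rw [← SetLike.mem_coe, Subgroup.coe_mul_of_left_le_normalizer_right _ _
        ((hJI.trans le_normalizer).trans (hDn k))] at hy'
      obtain ⟨j, hj, n, hn, rfl⟩ := hy'
      have hj' : j ∈ M0 := mem_sup_left hj
      rw [show ⁅j * n, x⁆ = j * ⁅n, x⁆ * j⁻¹ * ⁅j, x⁆ by simp only [commutatorElement_def]; group]
      exact mul_mem (mul_mem (mul_mem hj' ((hNS hn).2 x hx)) (inv_mem hj'))
        (commutator_mem_of_normalizes' (hfM0 hx) hj')
  have hIs : Group.IsSolvable I := Grp.isSolvable_of_le hIH hH.1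
  obtain ⟨k, hk⟩ := (Group.isSolvable_def ↥I).mp hIs
  have := key k
  rw [show D k = ⊥ by show (derivedSeries ↥I k).map I.subtype = ⊥; rw [hk, Subgroup.map_bot], sup_bot_eq] at this
  exact this.trans hJT

end Cfsg.Agent.Transfer.SFT
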