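import Mathlib
import Cfsg.Agent.Lib.Transfer.SFT.ThreePrimes

/-!
Two primes: maximal members with both cores, the key trick and commuting centres.
-/

set_option autoImplicit false
set_option linter.unusedSectionVars false

namespace Cfsg.Agent.Transfer.SFT

open Subgroup
open Cfsg.Agent.Grp (coreOf IsMaxQMember IsSylowIn)
open Cfsg.Agent.Grp.PiHall (IsPiNum)
open scoped commutatorElement Pointwise

universe u

variable {G : Type u} [Group G]

/-- The values of the functor involve only two primes. -/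
def IsTwo (A : Subgroup G) (θ : G → Subgroup G) (s t : ℕ) : Prop :=
  s.Prime ∧ t.Prime ∧ s ≠ t ∧ ∀ q, IsPi A θ q → q = s ∨ q = t

/-- A maximal member over the fixed group with both cores nontrivial. -/
def Multi (p : ℕ) (A : Subgroup G) (θ : G → Subgroup G) (s t : ℕ) (M : Subgroup G) : Prop :=
  IsMax p A θ M ∧ Cfsg.signalizerInf A θ ≤ M ∧ coreOf s M ≠ ⊥ ∧ coreOf t M ≠ ⊥

/-- A point under a maximal member with both cores nontrivial. -/
def MultiPt (p : ℕ) (A : Subgroup G) (θ : G → Subgroup G) (s t : ℕ) (a : G) : Prop :=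
  ∃ M, Multi p A θ s t M ∧ θ a ≤ M

theorem IsTwo.symm {A : Subgroup G} {θ : G → Subgroup G} {s t : ℕ} (h : IsTwo A θ s t) :
    IsTwo A θ t s := ⟨h.2.1, h.1, h.2.2.1.symm, fun q hq => (h.2.2.2 q hq).symm⟩

theorem Multi.symm {p : ℕ} {A : Subgroup G} {θ : G → Subgroup G} {s t : ℕ} {M : Subgroup G}
    (h : Multi p A θ s t M) : Multi p A θ t s M := ⟨h.1, h.2.1, h.2.2.2, h.2.2.1⟩

theorem MultiPt.symm {p : ℕ} {A : Subgroup G} {θ : G → Subgroup G} {s t : ℕ} {a : G}
    (h : MultiPt p A θ s t a) : MultiPt p A θ t s a := h.imp fun _ h => ⟨h.1.symm, h.2⟩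

variable [Finite G]

theorem coreOf_le_sylowIn {q : ℕ} [Fact q.Prime] {X M : Subgroup G} (h : IsSylowIn q X M) :
    coreOf q M ≤ X := by
  obtain ⟨P, rfl⟩ := Grp.isSylowIn_iff.mp h
  exact map_mono (Grp.pCore_le_sylow P)

theorem isPGroup_sup_zpowers {q : ℕ} [Fact q.Prime] {U X : Subgroup G} (hU : IsPGroup q U)
    (hX : IsPGroup q X) {w : G} (hw : w ∈ X) (hn : w ∈ normalizer (U : Set G)) :
    IsPGroup q (U ⊔ zpowers w : Subgroup G) :=
  hU.to_sup_of_normal_left' (hX.to_le (zpowers_le.mpr hw)) (zpowers_le.mpr hn)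

theorem isPGroup_zpowers_conj {q : ℕ} {z w : G} (h : IsPGroup q (zpowers w)) :
    IsPGroup q (zpowers (z * w * z⁻¹)) := by
  have h1 := h.map (MulAut.conj z).toMonoidHom
  rwa [MonoidHom.map_zpowers] at h1

/-- A commuting product of two `q`-elements is a `q`-element. -/
theorem eq_one_of_mul_qElement {q r : ℕ} [hq : Fact q.Prime] [hr : Fact r.Prime] (hqr : q ≠ r)
    {X Y U : Subgroup G} {x y c : G} (hX : IsPGroup q X) (hY : IsPGroup q Y) (hU : IsPGroup r U)
    (hx : x ∈ X) (hy : y ∈ Y) (hc : c ∈ U) (e : c * y = x) (hcomm : c * y = y * c) : c = 1 := by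
  obtain ⟨i, hi⟩ := IsPGroup.iff_card.mp hX
  obtain ⟨j, hj⟩ := IsPGroup.iff_card.mp hY
  obtain ⟨k, hk⟩ := IsPGroup.iff_card.mp hU
  have hcxy : Commute x y⁻¹ := by
    rw [← e]
    exact Commute.inv_right (show Commute (c * y) y from
      (show Commute c y from hcomm).mul_left (Commute.refl y))
  have h1 : c = x * y⁻¹ := by rw [← e, mul_inv_cancel_right]
  have h2 : orderOf c ∣ q ^ i * q ^ j := by
    rw [h1]
    refine (hcxy.orderOf_mul_dvd_mul_orderOf).trans (Nat.mul_dvd_mul (hi ▸ Subgroup.orderOf_dvd_natCard X hx) ?_)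
    rw [orderOf_inv]
    exact hj ▸ Subgroup.orderOf_dvd_natCard Y hy
  rw [← orderOf_eq_one_iff]
  refine Nat.eq_one_of_dvd_coprimes ?_ h2 (hk ▸ Subgroup.orderOf_dvd_natCard U hc)
  rw [← pow_add]
  exact ((Nat.coprime_primes hq.out hr.out).mpr hqr).pow _ _

variable {p : ℕ} [hp : Fact p.Prime] {A : Subgroup G} {θ : G → Subgroup G} {s t : ℕ}
  [hs : Fact s.Prime] [ht : Fact t.Prime] (S : Hyp p A θ) (h2 : IsTwo A θ s t)

include S h2

omit hs ht in
theorem prime_cases {M : Subgroup G} (hM : M ∈ Cfsg.signalizerFamily p A θ) {q : ℕ} (hq : q.Prime)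
    (hd : q ∣ Nat.card M) : q = s ∨ q = t := h2.2.2.2 q ⟨hq, S.exists_theta_of_dvd hM hq hd⟩

omit hs ht in
theorem core_eq_bot_of_ne {M : Subgroup G} (hM : M ∈ Cfsg.signalizerFamily p A θ) {q : ℕ}
    (hq : q.Prime) (hqs : q ≠ s) (hqt : q ≠ t) : coreOf q M = ⊥ := by
  haveI := Fact.mk hq
  by_contra h
  rcases h2.2.2.2 q (isPi_of_core S hM h) with h' | h'
  · exact hqs h'
  · exact hqt h'

omit hs ht in
theorem centralizes_cores {M : Subgroup G} (hM : M ∈ Cfsg.signalizerFamily p A θ) {x : G}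
    (h1 : x ∈ centralizer ((coreOf s M : Subgroup G) : Set G))
    (h2' : x ∈ centralizer ((coreOf t M : Subgroup G) : Set G)) :
    ∀ r : ℕ, r.Prime → x ∈ centralizer ((coreOf r M : Subgroup G) : Set G) := by
  intro r hr
  by_cases hrs : r = s
  · exact hrs ▸ h1
  by_cases hrt : r = t
  · exact hrt ▸ h2'
  rw [core_eq_bot_of_ne S h2 hM hr hrs hrt, mem_centralizer_iff]
  intro y hy
  rw [SetLike.mem_coe, mem_bot] at hy
  simp [hy]

omit hs ht in
theorem exists_core (hinc : ¬ Complete p A θ) {M : Subgroup G} (hM : IsMax p A θ M) :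
    coreOf s M ≠ ⊥ ∨ coreOf t M ≠ ⊥ := by
  have hne : M ≠ ⊥ := fun e => hinc
    ⟨M, hM.1, fun _ ha ha1 => hM.2 _ (S.theta_mem ha ha1) (e ▸ bot_le)⟩
  obtain ⟨r, hr, hd, hc⟩ := S.exists_core_ne_bot hM.1 hne
  rcases prime_cases S h2 hM.1 hr hd with rfl | rfl
  · exact Or.inl hc
  · exact Or.inr hc

omit hs in
theorem mem_core_of_two {M : Subgroup G} (hM : M ∈ Cfsg.signalizerFamily p A θ) {Q : Subgroup G}
    (hQ : IsPGroup t Q) {x : G} (hxQ : x ∈ Q) (hx : x ∈ M)
    (h1 : x ∈ centralizer ((coreOf s M : Subgroup G) : Set G))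
    (h2' : x ∈ centralizer ((coreOf t M : Subgroup G) : Set G)) : x ∈ coreOf t M :=
  S.mem_core_of_centralizes hM hx hQ hxQ (centralizes_cores S h2 hM h1 h2')

theorem theta_decompose {Q R : Subgroup G} (hQ : IsMaxQMember p s A θ Q) (hR : IsMaxQMember p t A θ R)
    {b : G} (hb : b ∈ A) (hb1 : b ≠ 1) {g : G} (hg : g ∈ θ b) :
    ∃ r ∈ R ⊓ θ b, ∃ q ∈ Q ⊓ θ b, g = r * q := by
  have hQb := S.sylow_theta hQ hb hb1
  have hRb := S.sylow_theta hR hb hb1
  have hcop : (Nat.card ↥(R ⊓ θ b)).Coprime (Nat.card ↥(Q ⊓ θ b)) :=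
    IsPGroup.coprime_card_of_ne t s h2.2.2.1.symm _ _ hRb.2.1 hQb.2.1
  have hc : Nat.card (θ b) ∣ Nat.card ↥(R ⊓ θ b) * Nat.card ↥(Q ⊓ θ b) := by
    refine (Nat.dvd_iff_prime_pow_dvd_dvd _ _).mpr fun q k hq hk => ?_
    rcases k.eq_zero_or_pos with rfl | hk0
    · simp
    have hle := (hq.pow_dvd_iff_le_factorization Nat.card_pos.ne').mp hk
    rcases prime_cases S h2 (S.theta_mem hb hb1) hq ((dvd_pow_self q hk0.ne').trans hk) with rfl | rfl
    · exact ((pow_dvd_pow q hle).trans (hQb.card ▸ dvd_rfl)).mul_left _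
    · exact ((pow_dvd_pow q hle).trans (hRb.card ▸ dvd_rfl)).mul_right _
  let f : ↥(R ⊓ θ b) × ↥(Q ⊓ θ b) → θ b := fun x => ⟨x.1 * x.2, mul_mem x.1.2.2 x.2.2.2⟩
  have hf : Function.Injective f := by
    intro x y h
    have h0 : (x.1 : G) * x.2 = y.1 * y.2 := congrArg Subtype.val h
    have h1 : (y.1 : G)⁻¹ * x.1 = (y.2 : G) * (x.2 : G)⁻¹ := by
      calc (y.1 : G)⁻¹ * x.1 = (y.1 : G)⁻¹ * ((x.1 : G) * x.2) * (x.2 : G)⁻¹ := by group
        _ = _ := by rw [h0]; group
    have h3 : (y.1 : G)⁻¹ * x.1 ∈ (R ⊓ θ b) ⊓ (Q ⊓ θ b) := by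
      refine Subgroup.mem_inf.mpr ⟨mul_mem (inv_mem y.1.2) x.1.2, ?_⟩
      rw [h1]
      exact mul_mem y.2.2 (inv_mem x.2.2)
    rw [Grp.inf_eq_bot_of_coprime hcop, mem_bot] at h3
    have e1 : (y.1 : G) = x.1 := inv_mul_eq_one.mp h3
    have e2 : (x.2 : G) = y.2 := by rw [h3] at h1; exact (mul_inv_eq_one.mp h1.symm).symm
    exact Prod.ext (Subtype.ext e1.symm) (Subtype.ext e2)
  have hbij : Function.Bijective f := hf.bijective_of_nat_card_le
    (by rw [Nat.card_prod]; exact Nat.le_of_dvd (Nat.mul_pos Nat.card_pos Nat.card_pos) hc)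
  obtain ⟨⟨r, q⟩, h⟩ := hbij.2 ⟨g, hg⟩
  exact ⟨r, r.2, q, q.2, (congrArg Subtype.val h).symm⟩

omit h2 in
theorem isSylowIn_of_maxQ {R M : Subgroup G} (hR : IsMaxQMember p t A θ R)
    (hM : M ∈ Cfsg.signalizerFamily p A θ) (hRM : R ≤ M) : IsSylowIn t R M := by
  obtain ⟨X, hX, hXA, hle⟩ := Grp.exists_invariant_sylow_ge A M (S.normalizer_mem hM) (S.coprime_A hM)
    (Or.inr hM.1) hRM hR.2.1 (S.normalizer_mem hR.1)
  rwa [← hR.2.2 X (S.sub_mem hM hX.1 hXA) hX.2.1 hle]

/-- A maximal member with a maximal `s`-member and a `t`-core contains everything. -/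
theorem trick {M Q : Subgroup G} (hM : IsMax p A θ M) (hQ : IsMaxQMember p s A θ Q) (hQM : Q ≤ M)
    (hT : coreOf t M ≠ ⊥) : Complete p A θ := by
  obtain ⟨R, hR, hRS⟩ := S.exists_maxQ_sylow (q := t) hM.1
  by_cases hRM : R ≤ M
  · refine ⟨M, hM.1, fun a ha ha1 g hg => ?_⟩
    obtain ⟨r, hr, q, hq, rfl⟩ := theta_decompose S h2 hQ hR ha ha1 hg
    exact mul_mem (hRM hr.1) (hQM hq.1)
  exfalso
  set P := R ⊓ M with hP
  have hlt : P < R := lt_of_le_of_ne inf_le_left fun e => hRM (e ▸ inf_le_right)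
  have hlt2 := Grp.lt_inf_normalizer hR.2.1.isNilpotent hlt
  have hPA : A ≤ normalizer (P : Set G) :=
    Grp.le_normalizer_inf' (S.normalizer_mem hR.1) (S.normalizer_mem hM.1)
  have hNm : R ⊓ normalizer (P : Set G) ∈ Cfsg.signalizerFamily p A θ :=
    S.sub_mem hR.1 inf_le_left (Grp.le_normalizer_inf' (S.normalizer_mem hR.1) (hPA.trans le_normalizer))
  obtain ⟨n, hn, hne⟩ : ∃ n, IsLine p A n ∧
      ¬ (R ⊓ normalizer (P : Set G)) ⊓ centralizer (n : Set G) ≤ P := by
    by_contra h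
    push Not at h
    exact hlt2.not_ge (S.member_le_of_lines hNm h)
  obtain ⟨y, ⟨⟨hyR, hyN⟩, hyn⟩, hyP⟩ := SetLike.not_le_iff_exists.mp hne
  set X := coreOf t M
  have hXP : X ≤ P := coreOf_le_sylowIn hRS
  set Γ := MulAut.conj y • X with hΓ
  have hΓP : Γ ≤ P := by
    rw [hΓ, ← Grp.mem_normalizer_iff_smul.mp hyN]
    exact Subgroup.pointwise_smul_le_pointwise_smul_iff.mpr hXP
  have hyθ : ∀ b ∈ n, b ≠ 1 → y ∈ θ b := fun b hb hb1 =>
    S.mem_inf_point hR.1 (hn.1 hb) hb1 ⟨hyR, centralizer_le (Set.singleton_subset_iff.mpr hb) hyn⟩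
  have hcore : Γ ≤ coreOf t M := by
    refine le_core_of_line S.hA S.card3 hM.1.1 hM.1.2.1 (S.normalizer_mem hM.1) (hΓP.trans inf_le_right)
      (hR.2.1.to_le (hΓP.trans inf_le_left)) hn.1 hn.2 fun b hb hb1 => ?_
    set D := M ⊓ centralizer ({b} : Set G)
    refine ⟨⨆ m : D, MulAut.conj (m : G) • Γ, hR.2.1.to_le (iSup_le fun m => ?_),
      le_iSup_of_le ⟨1, one_mem _⟩ (by show Γ ≤ MulAut.conj (1 : G) • Γ; rw [map_one, one_smul]),
      fun m hm => ?_⟩
    · intro x hx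
      rw [Grp.mem_smul_conj, hΓ, Grp.mem_smul_conj] at hx
      obtain ⟨r, hr, q, hq, e⟩ := theta_decompose S h2 hQ hR (hn.1 hb) hb1
        (mul_mem (S.mem_inf_point hM.1 (hn.1 hb) hb1 m.2) (hyθ b hb hb1))
      have hξ : q * (y⁻¹ * ((m : G)⁻¹ * x * m) * y) * q⁻¹ ∈ X :=
        conj_mem_coreOf (le_normalizer (hQM hq.1)) hx
      have hr' := (inf_le_left : R ⊓ θ b ≤ R) hr
      convert mul_mem (mul_mem hr' ((hXP.trans inf_le_left) hξ)) (inv_mem hr') using 1
      calc x = ((m : G) * y) * (y⁻¹ * ((m : G)⁻¹ * x * m) * y) * ((m : G) * y)⁻¹ := by group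
        _ = _ := by rw [e]; group
    · rw [Grp.mem_normalizer_iff_smul, ← Grp.map_conj_eq_smul, Subgroup.map_iSup]
      simp only [Grp.map_conj_eq_smul, Grp.conj_smul_conj_smul]
      exact (Equiv.mulLeft (⟨m, hm⟩ : D)).iSup_congr (g := fun w : D => MulAut.conj (w : G) • Γ)
        fun w => rfl
  have hyX : y ∈ normalizer (X : Set G) :=
    Grp.mem_normalizer_iff_smul.mpr (Subgroup.eq_of_le_of_card_ge hcore (Grp.card_conj_smul _ _).ge)
  obtain ⟨b, hb, hb1⟩ : ∃ b ∈ n, b ≠ 1 := by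
    by_contra h
    push Not at h
    exact S.line_ne_bot hn ((Subgroup.eq_bot_iff_forall _).mpr h)
  exact hyP ⟨hyR, Hyp.mem_max_of_core S hM hT (hn.1 hb) hb1 (hyθ b hb hb1) hyX⟩

/-- The other core, inside a second member, centralizes its `t`-core. -/
theorem core_inf_centralizes {M L R : Subgroup G} (hM : IsMax p A θ M) (hT : coreOf t M ≠ ⊥)
    (hL : L ∈ Cfsg.signalizerFamily p A θ) (hR : IsMaxQMember p t A θ R) (h1 : coreOf t M ≤ R)
    (h1' : coreOf t L ≤ R) : coreOf s M ⊓ L ≤ centralizer ((coreOf t L : Subgroup G) : Set G) := by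
  set Q' := coreOf s M ⊓ L
  set P := coreOf t M
  set N := coreOf t L
  have hQ's : IsPGroup s Q' := (Grp.coreOf_isPGroup M).to_le inf_le_left
  have hPQ : P ≤ centralizer (Q' : Set G) :=
    (le_centralizer_of_inf_bot ((Grp.coreOf_le M).trans (Hyp.max_normalizes_core S s))
      ((Grp.coreOf_le M).trans (Hyp.max_normalizes_core S t))
      (inf_pgroup_eq_bot h2.2.2.1.symm (Grp.coreOf_isPGroup M) (Grp.coreOf_isPGroup M))).trans
      (centralizer_le (SetLike.coe_subset_coe.mpr inf_le_left))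
  set V := P ⊔ N
  have hV : IsPGroup t V := hR.2.1.to_le (sup_le h1 h1')
  have hVm : V ∈ Cfsg.signalizerFamily p A θ := S.sub_mem hR.1 (sup_le h1 h1')
    (Grp.le_normalizer_sup' (S.normalizer_mem (S.coreOf_mem hM.1 t)) (S.normalizer_mem (S.coreOf_mem hL t)))
  have hPV : P ≤ normalizer (V : Set G) := le_sup_left.trans le_normalizer
  have hQV : Q' ≤ normalizer (V : Set G) := Grp.le_normalizer_sup'
    ((inf_le_left.trans (Grp.coreOf_le M)).trans (Hyp.max_normalizes_core S t))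
    (inf_le_right.trans (Hyp.max_normalizes_core S t))
  refine (Grp.thompson_PQ P Q' (Grp.coreOf_isPGroup M) ?_ hPQ V hV hPV hQV ?_).trans
    (centralizer_le (SetLike.coe_subset_coe.mpr le_sup_right))
  · obtain ⟨k, hk⟩ := IsPGroup.iff_card.mp hQ's
    rw [hk]
    exact ((Nat.coprime_primes hs.out ht.out).mpr h2.2.2.1).pow_left k
  rintro x ⟨hxV, hxP⟩
  have hxM : x ∈ M := by
    refine Hyp.le_max_of_core S hM hT (S.sub_mem hVm (inf_le_left (b := centralizer (P : Set G))) ?_)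
      (inf_le_right.trans (centralizer_le_normalizer _)) ⟨hxV, hxP⟩
    refine Grp.le_normalizer_inf' (S.normalizer_mem hVm) (Grp.invariant_iff.mp fun g hg x hx => ?_)
    rw [mem_centralizer_iff] at hx ⊢
    intro y hy
    have hgn := S.normalizer_mem (S.coreOf_mem hM.1 t) hg
    calc y * (g * x * g⁻¹) = g * ((g⁻¹ * y * g) * x) * g⁻¹ := by group
      _ = g * (x * (g⁻¹ * y * g)) * g⁻¹ := by rw [hx _ (Grp.mem_conj_normalizer' hgn hy)]
      _ = _ := by group
  rw [mem_centralizer_iff]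
  intro q hq
  have h3 : ⁅q, x⁆ ∈ coreOf s M ⊓ V :=
    ⟨commutator_mem_of_normalizes' (Hyp.max_normalizes_core S s hxM) hq.1,
      commutator_mem_of_normalizes (hQV hq) hxV⟩
  rw [inf_pgroup_eq_bot h2.2.2.1 (Grp.coreOf_isPGroup M) hV, mem_bot] at h3
  exact commutatorElement_eq_one_iff_mul_comm.mp h3


/-- A member with trivial core for `s` meets `O_s` of such a maximal member trivially. -/
theorem core_inf_eq_bot {M L R : Subgroup G} (hM : IsMax p A θ M) (hT : coreOf t M ≠ ⊥)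
    (hL : L ∈ Cfsg.signalizerFamily p A θ) (hR : IsMaxQMember p t A θ R) (h1 : coreOf t M ≤ R)
    (h1' : coreOf t L ≤ R) (hLs : coreOf s L = ⊥) : coreOf s M ⊓ L = ⊥ := by
  refine (Subgroup.eq_bot_iff_forall _).mpr fun x hx => ?_
  have h := mem_core_of_two S h2.symm hL (Grp.coreOf_isPGroup M) hx.1 hx.2
    (core_inf_centralizes S h2 hM hT hL hR h1 h1' hx) (by
      rw [hLs, mem_centralizer_iff]
      intro y hy
      rw [SetLike.mem_coe, mem_bot] at hy
      simp [hy])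
  rwa [hLs, mem_bot] at h

/-- The same with both members over the fixed group. -/
theorem multi_inf_eq_bot {M L : Subgroup G} (hM : Multi p A θ s t M)
    (hL : L ∈ Cfsg.signalizerFamily p A θ) (hCL : Cfsg.signalizerInf A θ ≤ L)
    (hLs : coreOf s L = ⊥) : coreOf s M ⊓ L = ⊥ := by
  obtain ⟨R, hR⟩ := S.exists_maxQ (q := t)
  exact core_inf_eq_bot S h2 hM.1 hM.2.2.2 hL hR (S.coreOf_le_maxQ hM.1.1 hM.2.1 hR)
    (S.coreOf_le_maxQ hL hCL hR) hLs

theorem multi_inf_centralizes {M L : Subgroup G} (hM : Multi p A θ s t M)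
    (hL : L ∈ Cfsg.signalizerFamily p A θ) (hCL : Cfsg.signalizerInf A θ ≤ L) :
    coreOf s M ⊓ L ≤ centralizer ((coreOf t L : Subgroup G) : Set G) := by
  obtain ⟨R, hR⟩ := S.exists_maxQ (q := t)
  exact core_inf_centralizes S h2 hM.1 hM.2.2.2 hL hR (S.coreOf_le_maxQ hM.1.1 hM.2.1 hR)
    (S.coreOf_le_maxQ hL hCL hR)

theorem fitting_decompose {M : Subgroup G} (hM : M ∈ Cfsg.signalizerFamily p A θ) {x : G} (hx : x ∈ M)
    (h : (⟨x, hx⟩ : M) ∈ Cfsg.fittingSubgroup ↥M) :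
    ∃ a ∈ coreOf s M, ∃ b ∈ coreOf t M, x = a * b := by
  have h1 : (Cfsg.fittingSubgroup ↥M).map M.subtype ≤ coreOf s M ⊔ coreOf t M := by
    rw [Grp.fittingSubgroup_eq_iSup_pCore, Subgroup.map_iSup]
    refine iSup_le fun r => ?_
    by_cases hrs : (r : ℕ) = s
    · rw [hrs]; exact le_sup_left
    by_cases hrt : (r : ℕ) = t
    · rw [hrt]; exact le_sup_right
    exact (core_eq_bot_of_ne S h2 hM r.2 hrs hrt).le.trans bot_le
  have h3 : x ∈ coreOf s M ⊔ coreOf t M := h1 ⟨_, h, rfl⟩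
  rw [← SetLike.mem_coe, Subgroup.coe_mul_of_left_le_normalizer_right _ _
    ((Grp.coreOf_le M).trans (Hyp.max_normalizes_core S t))] at h3
  obtain ⟨a, ha, b, hb, e⟩ := h3
  exact ⟨a, ha, b, hb, e.symm⟩

/-- A `t`-element `w` centralizing `O_s(L)` and an element centralizing `O_t(L)`. -/
theorem commutator_mem_core_t {L X : Subgroup G} (hL : L ∈ Cfsg.signalizerFamily p A θ) {w u : G}
    (hw : w ∈ L) (hu : u ∈ L) (hX : IsPGroup t X) (hwX : w ∈ X)
    (hwc : w ∈ centralizer ((coreOf s L : Subgroup G) : Set G))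
    (huc : u ∈ centralizer ((coreOf t L : Subgroup G) : Set G)) : ⁅w, u⁆ ∈ coreOf t L := by
  have hsn : zpowers u ≤ normalizer ((coreOf s L : Subgroup G) : Set G) :=
    zpowers_le.mpr (Hyp.max_normalizes_core S s hu)
  have htn : zpowers w ≤ normalizer ((coreOf t L : Subgroup G) : Set G) :=
    zpowers_le.mpr (Hyp.max_normalizes_core S t hw)
  have hc1 : ⁅w, u⁆ ∈ centralizer ((coreOf s L : Subgroup G) : Set G) := by
    have h := commutator_le_centralizer hsn (zpowers_le.mpr hwc)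
      (Subgroup.commutator_mem_commutator (mem_zpowers u) (mem_zpowers w))
    rw [← commutatorElement_inv]
    exact inv_mem h
  have hc2 : ⁅w, u⁆ ∈ centralizer ((coreOf t L : Subgroup G) : Set G) :=
    commutator_le_centralizer htn (zpowers_le.mpr huc)
      (Subgroup.commutator_mem_commutator (mem_zpowers w) (mem_zpowers u))
  have hcL : ⁅w, u⁆ ∈ L := commutator_mem_of_normalizes (le_normalizer hw) hu
  obtain ⟨a, ha, b, hb, e⟩ := fitting_decompose S h2 hL hcL
    (S.centralizer_cores_le hL hcL (centralizes_cores S h2 hL hc1 hc2))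
  suffices ha1 : a = 1 by rw [e, ha1, one_mul]; exact hb
  have hab : a * b = b * a :=
    (mem_centralizer_iff.mp (le_centralizer_of_inf_bot
      ((Grp.coreOf_le L).trans (Hyp.max_normalizes_core S s))
      ((Grp.coreOf_le L).trans (Hyp.max_normalizes_core S t))
      (inf_pgroup_eq_bot h2.2.2.1.symm (Grp.coreOf_isPGroup L) (Grp.coreOf_isPGroup L)) hb) a ha)
  have haw : a * w = w * a := mem_centralizer_iff.mp hwc a ha
  have hT' := isPGroup_sup_zpowers (Grp.coreOf_isPGroup (r := t) L) hX hwX (Hyp.max_normalizes_core S t hw)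
  have hy : b⁻¹ * w ∈ coreOf t L ⊔ zpowers w :=
    mul_mem (mem_sup_left (inv_mem hb)) (mem_sup_right (mem_zpowers w))
  have hcomm : a⁻¹ * (b⁻¹ * w) = (b⁻¹ * w) * a⁻¹ := by
    have h1 : Commute a (b⁻¹ * w) :=
      Commute.mul_right (Commute.inv_right (show Commute a b from hab)) (show Commute a w from haw)
    exact h1.inv_left.eq
  have e2 : a⁻¹ * (b⁻¹ * w) = u * w * u⁻¹ := by
    calc a⁻¹ * (b⁻¹ * w) = (b * a)⁻¹ * w := by group
      _ = ⁅w, u⁆⁻¹ * w := by rw [← hab, ← e]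
      _ = _ := by rw [commutatorElement_def]; group
  exact inv_eq_one.mp (eq_one_of_mul_qElement h2.2.2.1.symm
    (isPGroup_zpowers_conj (isPGroup_zpowers_of_mem hX hwX)) hT' (Grp.coreOf_isPGroup L)
    (mem_zpowers _) hy (inv_mem ha) e2 hcomm)

omit h2 in
theorem zCen_core_mem {M : Subgroup G} (hM : M ∈ Cfsg.signalizerFamily p A θ) (r : ℕ) :
    zCen (coreOf r M) ∈ Cfsg.signalizerFamily p A θ :=
  S.sub_mem (S.coreOf_mem hM r) (zCen_le _)
    ((S.normalizer_mem (S.coreOf_mem hM r)).trans (normalizer_le_zCen _))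

/-- The centres of the cores of two such maximal members commute. -/
theorem multi_centres_commute {M H : Subgroup G} (hM : Multi p A θ s t M) (hH : Multi p A θ s t H) :
    zCen (coreOf s M) ≤ centralizer ((zCen (coreOf t H) : Subgroup G) : Set G) := by
  set ZU := zCen (coreOf s M)
  set ZT := zCen (coreOf t H)
  refine S.member_le_of_lines (zCen_core_mem S hM.1.1 s) fun n hn z hz => ?_
  have hzT : ZT ≤ centralizer ({z} : Set G) := by
    refine S.member_le_of_lines (zCen_core_mem S hH.1.1 t) fun m hm w hw => ?_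
    obtain ⟨b, ⟨hbn, hbm⟩, hb1⟩ := S.line_meet hn hm
    obtain ⟨L, hL, hbL⟩ := S.exists_max (S.theta_mem (hn.1 hbn) hb1)
    have hCL := (S.C_le_theta (hn.1 hbn) hb1).trans hbL
    have hzL : z ∈ L := hbL (S.mem_inf_point (zCen_core_mem S hM.1.1 s) (hn.1 hbn) hb1
      ⟨hz.1, centralizer_le (Set.singleton_subset_iff.mpr hbn) hz.2⟩)
    have hwL : w ∈ L := hbL (S.mem_inf_point (zCen_core_mem S hH.1.1 t) (hn.1 hbn) hb1
      ⟨hw.1, centralizer_le (Set.singleton_subset_iff.mpr hbm) hw.2⟩)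
    have hzc := multi_inf_centralizes S h2 hM hL.1 hCL ⟨(zCen_le _) hz.1, hzL⟩
    have hwc := multi_inf_centralizes S h2.symm hH.symm hL.1 hCL ⟨(zCen_le _) hw.1, hwL⟩
    have hc1 := commutator_mem_core_t S h2 hL.1 hwL hzL (Grp.coreOf_isPGroup (r := t) H)
      ((zCen_le _) hw.1) hwc hzc
    have hc2 := commutator_mem_core_t S h2.symm hL.1 hzL hwL (Grp.coreOf_isPGroup (r := s) M)
      ((zCen_le _) hz.1) hzc hwc
    have hc3 : ⁅z, w⁆ ∈ coreOf s L ⊓ coreOf t L :=
      Subgroup.mem_inf.mpr ⟨hc2, by rw [← commutatorElement_inv]; exact inv_mem hc1⟩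
    rw [inf_pgroup_eq_bot h2.2.2.1 (Grp.coreOf_isPGroup L) (Grp.coreOf_isPGroup L), mem_bot] at hc3
    rw [mem_centralizer_iff]
    rintro y (rfl : y = z)
    exact commutatorElement_eq_one_iff_mul_comm.mp hc3
  rw [mem_centralizer_iff]
  intro w hw
  exact (mem_centralizer_iff.mp (hzT hw) z rfl).symm

theorem multi_core_s_le {M H : Subgroup G} (hM : Multi p A θ s t M) (hH : Multi p A θ s t H) :
    coreOf t H ≤ M := by
  have hZH : zCen (coreOf s M) ≤ H := Hyp.le_max_of_zCen S hH.1 hH.2.2.2 (zCen_core_mem S hM.1.1 s)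
    ((multi_centres_commute S h2 hM hH).trans (centralizer_le_normalizer _))
  refine Hyp.le_max_of_zCen S hM.1 hM.2.2.1 (S.coreOf_mem hH.1.1 t) ?_
  refine le_trans (le_centralizer_iff.mp ?_) (centralizer_le_normalizer _)
  exact (le_inf (zCen_le _) hZH).trans (multi_inf_centralizes S h2 hM hH.1.1 hH.2.1)

/-- The cores of such maximal members centralize each other across primes. -/
theorem multi_cores_commute {M H : Subgroup G} (hM : Multi p A θ s t M) (hH : Multi p A θ s t H) :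
    coreOf s M ≤ centralizer ((coreOf t H : Subgroup G) : Set G) :=
  (le_inf le_rfl (multi_core_s_le S h2.symm hH.symm hM.symm)).trans
    (multi_inf_centralizes S h2 hM hH.1.1 hH.2.1)

/-- The centre of a maximal `t`-member lies in every maximal member with a `t`-core. -/
theorem zCen_le_max {M R : Subgroup G} (hM : IsMax p A θ M) (hT : coreOf t M ≠ ⊥)
    (hR : IsMaxQMember p t A θ R) (hTR : coreOf t M ≤ R) : zCen R ≤ M :=
  Hyp.le_max_of_core S hM hT
    (S.sub_mem hR.1 (zCen_le R) ((S.normalizer_mem hR.1).trans (normalizer_le_zCen R)))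
    (((inf_le_right : zCen R ≤ _).trans (centralizer_le (SetLike.coe_subset_coe.mpr hTR))).trans
      (centralizer_le_normalizer _))

theorem zCen_core_inter (hinc : ¬ Complete p A θ) {H R U : Subgroup G} (hH : Multi p A θ s t H)
    (hR : IsMaxQMember p t A θ R) (hU : U ∈ Cfsg.signalizerFamily p A θ) (hne : U ≠ ⊥)
    (hRU : R ≤ centralizer (U : Set G)) {V : Subgroup G} (hV : V ∈ Cfsg.signalizerFamily p A θ)
    (hVs : V ≤ coreOf s H) (hVU : V ≤ centralizer (U : Set G)) : V = ⊥ := by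
  obtain ⟨W, hW, -, -, hall⟩ := S.hW U hU hne
  obtain ⟨M', hM', hWM'⟩ := S.exists_max hW
  have hRM : R ≤ M' := (hall R hR.1 (hRU.trans (centralizer_le_normalizer _))).trans hWM'
  have hM's : coreOf s M' = ⊥ := by
    by_contra h
    exact hinc (trick S h2.symm hM' hR hRM h)
  have h := core_inf_eq_bot S h2 hH.1 hH.2.2.2 hM'.1 hR (S.coreOf_le_maxQ hH.1.1 hH.2.1 hR)
    (coreOf_le_sylowIn (isSylowIn_of_maxQ S hR hM'.1 hRM)) hM's
  rw [eq_bot_iff, ← h]
  exact le_inf hVs ((hall V hV (hVU.trans (centralizer_le_normalizer _))).trans hWM')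

theorem zCen_inf_core (hinc : ¬ Complete p A θ) {H R : Subgroup G} (hH : Multi p A θ s t H)
    (hR : IsMaxQMember p t A θ R) : zCen R ⊓ coreOf t H = ⊥ := by
  by_contra hne
  refine hH.2.2.1 (zCen_core_inter S h2 hinc hH hR (S.sub_mem (S.coreOf_mem hH.1.1 t) inf_le_right
    (Grp.le_normalizer_inf' ((S.normalizer_mem hR.1).trans (normalizer_le_zCen R))
      (S.normalizer_mem (S.coreOf_mem hH.1.1 t)))) hne ?_ (S.coreOf_mem hH.1.1 s) le_rfl ?_)
  · intro x hx
    rw [mem_centralizer_iff]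
    exact fun y hy => zCen_comm hy.1 hx
  · exact (multi_cores_commute S h2 hH hH).trans (centralizer_le (SetLike.coe_subset_coe.mpr inf_le_right))

/-- The centre of a maximal `t`-member has no fixed points on such an `s`-core. -/
theorem core_inf_centralizer_zCen (hinc : ¬ Complete p A θ) {H R : Subgroup G}
    (hH : Multi p A θ s t H) (hR : IsMaxQMember p t A θ R) :
    coreOf s H ⊓ centralizer ((zCen R : Subgroup G) : Set G) = ⊥ := by
  have hZm : zCen R ∈ Cfsg.signalizerFamily p A θ :=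
    S.sub_mem hR.1 (zCen_le R) ((S.normalizer_mem hR.1).trans (normalizer_le_zCen R))
  have hZne : zCen R ≠ ⊥ := zCen_ne_bot hR.2.1 fun e =>
    hH.2.2.2 (le_bot_iff.mp (e ▸ S.coreOf_le_maxQ hH.1.1 hH.2.1 hR))
  refine zCen_core_inter S h2 hinc hH hR hZm hZne ?_ (S.sub_mem (S.coreOf_mem hH.1.1 s) inf_le_left ?_)
    inf_le_left inf_le_right
  · intro x hx
    rw [mem_centralizer_iff]
    exact fun y hy => zCen_comm hy hx
  refine Grp.le_normalizer_inf' (S.normalizer_mem (S.coreOf_mem hH.1.1 s))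
    (Grp.invariant_iff.mp fun g hg x hx => ?_)
  rw [mem_centralizer_iff] at hx ⊢
  intro y hy
  have hgn := (S.normalizer_mem hZm) hg
  calc y * (g * x * g⁻¹) = g * ((g⁻¹ * y * g) * x) * g⁻¹ := by group
    _ = g * (x * (g⁻¹ * y * g)) * g⁻¹ := by rw [hx _ (Grp.mem_conj_normalizer' hgn hy)]
    _ = _ := by group

/-- A fixed central subgroup moves `s`-groups only inside the core. -/
theorem zeta {H R P : Subgroup G} (hR : IsMaxQMember p t A θ R)
    (hZC : zCen R ≤ Cfsg.signalizerInf A θ) (hH : H ∈ Cfsg.signalizerFamily p A θ)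
    (hCH : Cfsg.signalizerInf A θ ≤ H) (hPH : P ≤ H) (hP : IsPGroup s P)
    (hZP : zCen R ≤ normalizer (P : Set G)) : ⁅P, zCen R⁆ ≤ coreOf s H := by
  have hZH : zCen R ≤ normalizer (H : Set G) := (hZC.trans hCH).trans le_normalizer
  have hL : layer s H ≤ commSet s H (zCen R) := by
    refine layerPart_le_commSet_of_primes hZH fun r hr hrs => ?_
    haveI := Fact.mk hr
    by_cases hrt : r = t
    · subst hrt
      exact layerPart_le_commSet_of_sylow hrs hZH (S.maxQ_inf_sylow hR hH hCH) fun x hx =>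
        ⟨hx.1.2, fun γ hγ => centralizer_trivial_commutator (zCen_comm hγ hx.1.1)⟩
    · intro x hx
      refine coreOf_le_commSet hZH (mem_core_of_mem_layer (layerPart_le_layer s H hr hx)
        (isPGroup_of_isPiNum S fun q hq hd => ?_) hx)
      rcases layerPart_isPiNum (s := s) (r := r) H q hq hd with h | h
      · exact h
      rw [Set.mem_singleton_iff] at h
      rcases prime_cases S h2 hH hq (hd.trans (card_dvd_of_le (layerPart_le s r H))) with h' | h'
      · exact h'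
      · exact absurd (h.symm.trans h') hrt
  refine commutator_le.mpr fun u hu z hz => ?_
  exact commutator_mem_core_of_layer hH.1 hPH hP (hCH (hZC hz)) (hZP hz) (fun x hx => (hL hx).2 z hz) hu

end Cfsg.Agent.Transfer.SFT
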