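import Mathlib
import Cfsg.Agent.Lib.Transfer.SFT.TwoBasic
import Cfsg.Agent.Lib.Transfer.SFT.Pieces

/-!
A `t`-subgroup common to the cores of the maximal members over the points off one line.
-/

set_option autoImplicit false
set_option linter.unusedSectionVars false

namespace Cfsg.Agent.Transfer.SFT

open Subgroup
open Cfsg.Agent.Grp (coreOf IsMaxQMember IsSylowIn)
open scoped commutatorElement Pointwise

universe u

variable {G : Type u} [Group G]

/-- A point with no maximal member having a `t`-core. -/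
def DPt (p : ℕ) (A : Subgroup G) (θ : G → Subgroup G) (t : ℕ) (b : G) : Prop :=
  ∀ M, IsMax p A θ M → θ b ≤ M → coreOf t M = ⊥

variable [Finite G] {p : ℕ} [hp : Fact p.Prime] {A : Subgroup G} {θ : G → Subgroup G} {t : ℕ}
  [ht : Fact t.Prime]

theorem theta_eq_of_zpowers (S : Setup p A θ) {a b : G} (ha : a ∈ A) (ha1 : a ≠ 1) (hb1 : b ≠ 1)
    (h : b ∈ zpowers a) : θ b = θ a := by
  have hb : b ∈ A := zpowers_le.mpr ha h
  have e : zpowers b = zpowers a := Subgroup.eq_of_le_of_card_ge (zpowers_le.mpr h)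
    (by rw [S.card_zpowers_point hb hb1, S.card_zpowers_point ha ha1])
  have hc : centralizer ({b} : Set G) = centralizer ({a} : Set G) := by
    rw [Grp.centralizer_singleton_eq_zpowers, e, ← Grp.centralizer_singleton_eq_zpowers]
  exact le_antisymm
    ((le_inf le_rfl ((S.theta_le_centralizer hb hb1).trans hc.le)).trans
      (S.mem_inf_point (S.theta_mem hb hb1) ha ha1))
    ((le_inf le_rfl ((S.theta_le_centralizer ha ha1).trans hc.ge)).trans
      (S.mem_inf_point (S.theta_mem ha ha1) hb hb1))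

theorem closure_compl_line (S : Setup p A θ) {l : Subgroup G} (hl : IsLine p A l) :
    A ≤ closure {b | b ∈ A ∧ b ∉ l} := by
  obtain ⟨x, hx, hxl⟩ := S.exists_not_mem (B := l)
    (by rw [S.line_card hl]; exact Nat.pow_lt_pow_right hp.out.one_lt (by norm_num))
  intro a ha
  by_cases hal : a ∈ l
  · have h1 : a * x ∈ closure {b | b ∈ A ∧ b ∉ l} := subset_closure
      ⟨mul_mem ha hx, fun h => hxl (by simpa [← mul_assoc] using mul_mem (inv_mem hal) h)⟩
    simpa using mul_mem h1 (inv_mem (subset_closure ⟨hx, hxl⟩ : x ∈ closure {b | b ∈ A ∧ b ∉ l}))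
  · exact subset_closure ⟨ha, hal⟩

variable (S : Hyp p A θ)

include S

/-- The criterion. -/
theorem complete_of_criterion (Gk : Subgroup G) (F : Set (Subgroup G))
    (hGm : Gk ∈ Cfsg.signalizerFamily p A θ) (hGt : IsPGroup t Gk) (hGne : Gk ≠ ⊥)
    (hF : ∀ H ∈ F, H ∈ Cfsg.signalizerFamily p A θ)
    (hGF : ∀ H ∈ F, Gk ≤ coreOf t H)
    (hint : ∀ X : Subgroup G, (∀ H ∈ F, X ≤ coreOf t H) → X ≤ Gk)
    (hgood : ∀ b ∈ A, b ≠ 1 → ¬ DPt p A θ t b →
      ∃ M, IsMax p A θ M ∧ θ b ≤ M ∧ Gk ≤ coreOf t M)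
    (hlack : ∀ d ∈ A, d ≠ 1 → DPt p A θ t d → ∀ M, IsMax p A θ M → θ d ≤ M → Gk ⊓ M = ⊥)
    (hline : ∀ n, IsLine p A n → ∃ b ∈ n, b ≠ 1 ∧ ¬ DPt p A θ t b)
    {l : Subgroup G} (hl : IsLine p A l) (hdl : ∀ d ∈ A, d ≠ 1 → DPt p A θ t d → d ∈ l)
    (hmove : ∀ n, IsLine p A n → ∀ f₁ ∈ n, ∀ f₂ ∈ n, f₁ ≠ 1 → f₂ ∉ zpowers f₁ →
      ¬ DPt p A θ t f₁ → ¬ DPt p A θ t f₂ → ∀ g ∈ Cfsg.signalizerInf n θ,
      (∀ b ∈ n, b ≠ 1 → ∀ M, IsMax p A θ M → θ b ≤ M → Gk ≤ coreOf t M →
        MulAut.conj g • Gk ≤ coreOf t M) →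
      ∀ H ∈ F, MulAut.conj g • Gk ≤ H) : Complete p A θ := by
  have hfree : ∀ d ∈ A, d ≠ 1 → DPt p A θ t d → Gk ⊓ centralizer ({d} : Set G) = ⊥ := by
    intro d hd hd1 hD
    obtain ⟨M, hM, hle⟩ := S.exists_max (S.theta_mem hd hd1)
    rw [eq_bot_iff, ← hlack d hd hd1 hD M hM hle]
    exact le_inf inf_le_left ((S.mem_inf_point hGm hd hd1).trans hle)
  have hD' : ∀ {a b : G}, a ∈ A → a ≠ 1 → b ≠ 1 → b ∈ zpowers a →
      (DPt p A θ t b ↔ DPt p A θ t a) := by
    intro a b ha ha1 hb1 hba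
    unfold DPt
    rw [theta_eq_of_zpowers S.toSetup ha ha1 hb1 hba]
  -- lines with two independent good points
  have hgoodline : ∀ n, IsLine p A n → ∀ f₁ ∈ n, ∀ f₂ ∈ n, f₁ ≠ 1 → f₂ ∉ zpowers f₁ →
      ¬ DPt p A θ t f₁ → ¬ DPt p A θ t f₂ →
      Cfsg.signalizerInf n θ ≤ normalizer (Gk : Set G) := by
    intro n hn f₁ hf₁ f₂ hf₂ hf₁1 hf21 hg₁ hg₂ g hg
    have hconj : ∀ b ∈ n, b ≠ 1 → ∀ M, IsMax p A θ M → θ b ≤ M → Gk ≤ coreOf t M →
        MulAut.conj g • Gk ≤ coreOf t M := fun b hb hb1 M hM hle hG =>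
      map_le_iff_le_comap.mpr fun x hx =>
        conj_mem_coreOf (le_normalizer (hle (S.K_le_theta hb hb1 hg))) (hG hx)
    refine Grp.mem_normalizer_iff_smul.mpr (Subgroup.eq_of_le_of_card_ge (hint _ fun H hH => ?_)
      (Grp.card_conj_smul _ _).ge)
    have hHm := hF H hH
    have hΓH := hmove n hn f₁ hf₁ f₂ hf₂ hf₁1 hf21 hg₁ hg₂ g hg hconj H hH
    have hΓt : IsPGroup t (MulAut.conj g • Gk : Subgroup G) := hGt.map (MulAut.conj g).toMonoidHom
    by_cases hnd : ∀ b ∈ n, b ≠ 1 → ¬ DPt p A θ t b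
    · refine le_core_of_line S.hA S.card3 hHm.1 hHm.2.1 (S.normalizer_mem hHm) hΓH hΓt hn.1 hn.2
        fun b hb hb1 => ?_
      obtain ⟨M, hM, hle, hG⟩ := hgood b (hn.1 hb) hb1 (hnd b hb hb1)
      exact ⟨coreOf t M, Grp.coreOf_isPGroup M, hconj b hb hb1 M hM hle hG,
        ((S.mem_inf_point hHm (hn.1 hb) hb1).trans hle).trans (Hyp.max_normalizes_core S t)⟩
    push Not at hnd
    obtain ⟨d, hd, hd1, hD⟩ := hnd
    have key : Gk ≤ (coreOf t H).comap (MulAut.conj g).toMonoidHom := by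
      refine S.member_le_of_line hGm hn fun f hf hf1 => ?_
      by_cases hfD : DPt p A θ t f
      · rw [hfree f (hn.1 hf) hf1 hfD]; exact bot_le
      obtain ⟨f', hf', hf'1, hf'f, hg'⟩ : ∃ f' ∈ n, f' ≠ 1 ∧ f' ∉ zpowers f ∧ ¬ DPt p A θ t f' := by
        have hf₂1 : f₂ ≠ 1 := fun e => hf21 (e ▸ one_mem _)
        by_cases h1 : f₁ ∈ zpowers f
        · refine ⟨f₂, hf₂, hf₂1, fun h => hf21 ?_, hg₂⟩
          have e : zpowers f₁ = zpowers f := Subgroup.eq_of_le_of_card_ge (zpowers_le.mpr h1)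
            (by rw [S.card_zpowers_point (hn.1 hf₁) hf₁1, S.card_zpowers_point (hn.1 hf) hf1])
          exact e.symm ▸ h
        · exact ⟨f₁, hf₁, hf₁1, h1, hg₁⟩
      refine map_le_iff_le_comap.mp ?_
      show MulAut.conj g • (Gk ⊓ centralizer ({f} : Set G)) ≤ coreOf t H
      have hle : MulAut.conj g • (Gk ⊓ centralizer ({f} : Set G)) ≤ MulAut.conj g • Gk :=
        Subgroup.pointwise_smul_le_pointwise_smul_iff.mpr inf_le_left
      have hgc : ∀ k ∈ n, k * g = g * k := fun k hk =>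
        mem_centralizer_iff.mp (S.K_le_centralizer hn hg) k hk
      refine le_core_of_fpf (b := f') hHm.1 hHm.2.1 (hle.trans hΓH) (hΓt.to_le hle)
        (S.mem_normalizer_member hHm (hn.1 hf')) (S.pow_eq (hn.1 hf')) ?_ ?_ ?_
      · rw [Grp.mem_normalizer_iff_smul, Grp.conj_smul_conj_smul, hgc f' hf', ← Grp.conj_smul_conj_smul,
          Subgroup.smul_inf, Grp.mem_normalizer_iff_smul.mp (S.mem_normalizer_member hGm (hn.1 hf')),
          Grp.mem_normalizer_iff_smul.mp (S.le_normalizer_centralizer_one (hn.1 hf) (hn.1 hf'))]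
      · refine (Subgroup.eq_bot_iff_forall _).mpr fun x ⟨hx, hxf'⟩ => ?_
        obtain ⟨hxG, hxf⟩ := Subgroup.mem_inf.mp (Grp.mem_smul_conj.mp hx)
        have hgf' : g ∈ centralizer ({f'} : Set G) :=
          centralizer_le (Set.singleton_subset_iff.mpr hf') (S.K_le_centralizer hn hg)
        have h0 : g⁻¹ * x * g ∈ centralizer ({f'} : Set G) := mul_mem (mul_mem (inv_mem hgf') hxf') hgf'
        have h1 : g⁻¹ * x * g ∈ Gk ⊓ centralizer ({d} : Set G) :=
          Subgroup.mem_inf.mpr ⟨hxG, centralizer_le (Set.singleton_subset_iff.mpr hd)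
            (S.centralizer_line hn hf hf' hf1 hf'f hxf h0)⟩
        rw [hfree d (hn.1 hd) hd1 hD, mem_bot] at h1
        calc x = g * (g⁻¹ * x * g) * g⁻¹ := by group
          _ = 1 := by rw [h1]; group
      · obtain ⟨M, hM, hf'M, hG⟩ := hgood f' (hn.1 hf') hf'1 hg'
        rintro x ⟨hxL, hxf⟩
        refine ⟨layer_le t H hxL, fun γ hγ => commutator_mem_core_of_invariant (Grp.coreOf_isPGroup M)
          (hconj f' hf' hf'1 M hM hf'M hG (hle hγ)) (hΓH (hle hγ)) hxL
          (Hyp.max_normalizes_core S t (hf'M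
            (S.mem_inf_point hHm (hn.1 hf') hf'1 ⟨layer_le t H hxL, hxf⟩)))⟩
    exact map_le_iff_le_comap.mpr key
  have hoff : ∀ n, IsLine p A n → n ≠ l → Cfsg.signalizerInf n θ ≤ normalizer (Gk : Set G) := by
    intro n hn hne
    obtain ⟨f, hf, hfl⟩ : ∃ f ∈ n, f ∉ l := by
      by_contra h
      push Not at h
      exact hne (Subgroup.eq_of_le_of_card_ge h (by rw [S.line_card hn, S.line_card hl]))
    have hf1 : f ≠ 1 := fun e => hfl (e ▸ one_mem _)
    have hgood' : ∀ x ∈ n, x ∉ l → ¬ DPt p A θ t x := fun x hx hxl hD =>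
      hxl (hdl x (hn.1 hx) (fun e => hxl (e ▸ one_mem _)) hD)
    obtain ⟨b, hb, hbf⟩ := S.exists_indep hn (hn.1 hf)
    by_cases hbl : b ∈ l
    · refine hgoodline n hn f hf (f * b) (mul_mem hf hb) hf1 (fun h => hbf ?_) (hgood' f hf hfl)
        (hgood' _ (mul_mem hf hb) fun h => hfl ?_)
      · simpa [← mul_assoc] using mul_mem (inv_mem (mem_zpowers f)) h
      · simpa using mul_mem h (inv_mem hbl)
    · exact hgoodline n hn f hf b hb hf1 hbf (hgood' f hf hfl) (hgood' b hb hbl)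
  -- the exceptional line
  have hlast : Cfsg.signalizerInf l θ ≤ normalizer (Gk : Set G) := by
    obtain ⟨f, hf, hf1, hgf⟩ := hline l hl
    by_cases htwo : ∃ f₂ ∈ l, f₂ ∉ zpowers f ∧ ¬ DPt p A θ t f₂
    · obtain ⟨f₂, hf₂, h21, hg₂⟩ := htwo
      exact hgoodline l hl f hf f₂ hf₂ hf1 h21 hgf hg₂
    exfalso
    push Not at htwo
    obtain ⟨d, hd, hdf⟩ := S.exists_indep hl (hl.1 hf)
    have hd1 : d ≠ 1 := fun e => hdf (e ▸ one_mem _)
    have hD := htwo d hd hdf
    have hGf : Gk ≤ centralizer ({f} : Set G) := S.member_le_of_line hGm hl fun b hb hb1 => by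
      by_cases hbD : DPt p A θ t b
      · rw [hfree b (hl.1 hb) hb1 hbD]; exact bot_le
      · have hbf : b ∈ zpowers f := by_contra fun h => hbD (htwo b hb h)
        have e : zpowers b = zpowers f := Subgroup.eq_of_le_of_card_ge (zpowers_le.mpr hbf)
          (by rw [S.card_zpowers_point (hl.1 hb) hb1, S.card_zpowers_point (hl.1 hf) hf1])
        refine inf_le_right.trans ?_
        rw [Grp.centralizer_singleton_eq_zpowers, e, ← Grp.centralizer_singleton_eq_zpowers]
    have hdA := hl.1 hd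
    have hfA := hl.1 hf
    have hθm := S.theta_mem hdA hd1
    set I := ⁅θ d, zpowers f⁆ with hI
    have hfθ : zpowers f ≤ normalizer ((θ d : Subgroup G) : Set G) :=
      zpowers_le.mpr (S.mem_normalizer_member hθm hfA)
    -- `I` normalises `Gk`
    have hIN : I ≤ normalizer (Gk : Set G) := by
      refine commutator_le_of_sylows S.toSetup hθm hfA fun q hq P hP hPq hPle => ?_
      haveI := Fact.mk hq
      set V := ⁅P, zpowers f⁆ with hV
      have hfP : zpowers f ≤ normalizer (P : Set G) := zpowers_le.mpr (S.mem_normalizer_member hP hfA)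
      have hVP : V ≤ P := Grp.commutator_le_left_of_le_normalizer hfP
      have hcopP := coprime_zpowers (S.pow_eq hfA) hP.2.1
      have hVm : V ∈ Cfsg.signalizerFamily p A θ := by
        refine S.sub_mem hP hVP fun a ha => ?_
        rw [Grp.mem_normalizer_iff_smul, hV, ← Grp.map_conj_eq_smul, Subgroup.map_commutator,
          Grp.map_conj_eq_smul, Grp.map_conj_eq_smul, Grp.mem_normalizer_iff_smul.mp (S.normalizer_mem hP ha),
          Grp.mem_normalizer_iff_smul.mp (S.le_normalizer_of_le (zpowers_le.mpr hfA) ha)]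
      have hnn : ∀ k, IsLine p A k → zpowers f ≤ normalizer ((V ⊓ centralizer (k : Set G) : Subgroup G) : Set G) :=
        fun k hk => Grp.le_normalizer_inf' (Grp.right_le_normalizer_commutator _ _)
          ((zpowers_le.mpr hfA).trans (S.le_normalizer_centralizer hk.1))
      refine le_of_pieces S.toSetup hVm (hPq.to_le hVP) (Grp.right_le_normalizer_commutator _ _)
        (hcopP.coprime_dvd_right (card_dvd_of_le hVP))
        (Grp.commutator_commutator_eq (zpowers f) P hfP hcopP (Or.inl inferInstance)).ge hnn fun k hk => ?_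
      have hpd : V ⊓ centralizer (k : Set G) ≤ centralizer ({d} : Set G) :=
        inf_le_left.trans ((hVP.trans hPle).trans (S.theta_le_centralizer hdA hd1))
      by_cases hdk : d ∈ k
      · by_cases hkl : k = l
        · subst hkl
          rw [commutator_eq_bot_iff_le_centralizer.mpr]
          · exact bot_le
          rw [← Grp.centralizer_singleton_eq_zpowers]
          exact inf_le_right.trans (centralizer_le (Set.singleton_subset_iff.mpr hf))
        · exact (Grp.commutator_le_left_of_le_normalizer (hnn k hk)).trans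
            ((S.member_line_le_K hVm hk).trans (hoff k hk hkl))
      · rw [commutator_eq_bot_iff_le_centralizer.mpr]
        · exact bot_le
        rw [le_centralizer_iff]
        refine le_trans (zpowers_le.mpr hfA) ?_
        rw [← S.eq_top_of_line hk hdA hdk]
        refine sup_le (le_centralizer_iff.mp inf_le_right) ?_
        rw [le_centralizer_iff, ← Grp.centralizer_singleton_eq_zpowers]
        exact hpd
    have hIm : I ∈ Cfsg.signalizerFamily p A θ := by
      refine S.sub_mem hθm (Grp.commutator_le_left_of_le_normalizer hfθ) fun a ha => ?_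
      rw [Grp.mem_normalizer_iff_smul, hI, ← Grp.map_conj_eq_smul, Subgroup.map_commutator,
        Grp.map_conj_eq_smul, Grp.map_conj_eq_smul, Grp.mem_normalizer_iff_smul.mp (S.normalizer_mem hθm ha),
        Grp.mem_normalizer_iff_smul.mp (S.le_normalizer_of_le (zpowers_le.mpr hfA) ha)]
    have hIne : I ≠ ⊥ := by
      intro e
      obtain ⟨M, hM, hfM, hG⟩ := hgood f (hl.1 hf) hf1 hgf
      have hdf' : θ d ≤ θ f := le_trans (le_inf le_rfl (by
        rw [Grp.centralizer_singleton_eq_zpowers]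
        exact commutator_eq_bot_iff_le_centralizer.mp e)) (S.mem_inf_point hθm hfA hf1)
      exact hGne (le_bot_iff.mp (hG.trans (hD M hM (hdf'.trans hfM)).le))
    have hIc : I ≤ centralizer (Gk : Set G) := by
      rw [hI, ← Grp.commutator_commutator_eq (zpowers f) (θ d) hfθ
        (coprime_zpowers (S.pow_eq hfA) hθm.2.1) (Or.inl inferInstance)]
      exact commutator_le_centralizer hIN (zpowers_le_centralizer_of hGf)
    obtain ⟨W, hW, -, -, hall⟩ := S.hW I hIm hIne
    obtain ⟨M, hM, hWM⟩ := S.exists_max hW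
    have hdM : θ d ≤ M := (hall _ hθm (Grp.left_le_normalizer_commutator _ _)).trans hWM
    have hGM : Gk ≤ M :=
      (hall _ hGm ((le_centralizer_iff.mp hIc).trans (centralizer_le_normalizer _))).trans hWM
    exact hGne (le_bot_iff.mp ((le_inf le_rfl hGM).trans (hlack d hdA hd1 hD M hM hdM).le))
  obtain ⟨W, hW, -, -, hall⟩ := S.hW Gk hGm hGne
  refine ⟨W, hW, fun a ha ha1 => hall _ (S.theta_mem ha ha1) (S.theta_le_of_lines ha ha1 fun n hn _ => ?_)⟩
  by_cases hnl : n = l
  · exact hnl ▸ hlast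
  · exact hoff n hn hnl

end Cfsg.Agent.Transfer.SFT
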