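import Mathlib
import Cfsg.Agent.Lib.Transfer.SFT.TwoCriterion

/-!
Two primes, some maximal member over a point having both cores nontrivial.
-/

set_option autoImplicit false
set_option linter.unusedSectionVars false

namespace Cfsg.Agent.Transfer.SFT

open Subgroup
open Cfsg.Agent.Grp (coreOf IsMaxQMember IsSylowIn)
open scoped commutatorElement Pointwise

universe u

variable {G : Type u} [Group G] [Finite G] {p : ℕ} [hp : Fact p.Prime] {A : Subgroup G}
  {θ : G → Subgroup G} {s t : ℕ} [hs : Fact s.Prime] [ht : Fact t.Prime]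
  (S : Hyp p A θ) (h2 : IsTwo A θ s t) (hinc : ¬ Complete p A θ)

include S h2 hinc

omit hs ht in
theorem dPt_core {d : G} (hD : DPt p A θ t d) {M : Subgroup G} (hM : IsMax p A θ M) (hle : θ d ≤ M) :
    coreOf s M ≠ ⊥ :=
  (exists_core S h2 hinc hM).resolve_right fun h => h (hD M hM hle)

omit hs ht in
theorem single_core {b : G} (hb : b ∈ A) (hb1 : b ≠ 1) (hm : ¬ MultiPt p A θ s t b) {M : Subgroup G}
    (hM : IsMax p A θ M) (hle : θ b ≤ M) (hT : coreOf t M ≠ ⊥) : coreOf s M = ⊥ := by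
  by_contra h
  exact hm ⟨M, ⟨hM, (S.C_le_theta hb hb1).trans hle, h, hT⟩, hle⟩

omit hs ht h2 hinc in
theorem not_dPt_of_multiPt {b : G} (h : MultiPt p A θ s t b) : ¬ DPt p A θ t b := by
  obtain ⟨M, hM, hle⟩ := h
  exact fun hD => hM.2.2.2 (hD M hM.1 hle)

variable {H₀ : Subgroup G} (hH₀ : Multi p A θ s t H₀)

include hH₀

theorem line_not_all_d {n : Subgroup G} (hn : IsLine p A n) :
    ∃ b ∈ n, b ≠ 1 ∧ ¬ DPt p A θ t b := by
  by_contra h
  push Not at h
  refine hH₀.2.2.2 (le_bot_iff.mp (S.member_le_of_line (S.coreOf_mem hH₀.1.1 t) hn fun b hb hb1 => ?_))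
  obtain ⟨M, hM, hle⟩ := S.exists_max (S.theta_mem (hn.1 hb) hb1)
  rw [← multi_inf_eq_bot S h2.symm hH₀.symm hM.1 ((S.C_le_theta (hn.1 hb) hb1).trans hle) (h b hb hb1 M hM hle)]
  exact le_inf inf_le_left ((S.mem_inf_point (S.coreOf_mem hH₀.1.1 t) (hn.1 hb) hb1).trans hle)

theorem line_multi_or_d {n : Subgroup G} (hn : IsLine p A n) :
    ∃ b ∈ n, b ≠ 1 ∧ (MultiPt p A θ s t b ∨ DPt p A θ t b) := by
  by_contra h
  refine hH₀.2.2.1 (le_bot_iff.mp (S.member_le_of_line (S.coreOf_mem hH₀.1.1 s) hn fun b hb hb1 => ?_))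
  have hb' : ¬ MultiPt p A θ s t b ∧ ¬ DPt p A θ t b :=
    ⟨fun h' => h ⟨b, hb, hb1, Or.inl h'⟩, fun h' => h ⟨b, hb, hb1, Or.inr h'⟩⟩
  have hD := hb'.2
  unfold DPt at hD
  push Not at hD
  obtain ⟨M, hM, hle, hT⟩ := hD
  rw [← multi_inf_eq_bot S h2 hH₀ hM.1 ((S.C_le_theta (hn.1 hb) hb1).trans hle)
    (single_core S h2 hinc (hn.1 hb) hb1 hb'.1 hM hle hT)]
  exact le_inf inf_le_left ((S.mem_inf_point (S.coreOf_mem hH₀.1.1 s) (hn.1 hb) hb1).trans hle)

variable (ht2 : t ≠ 2)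

include ht2

theorem t_ne_p : t ≠ p := S.ne_p_of_pGroup (S.coreOf_mem hH₀.1.1 t) (Grp.coreOf_isPGroup H₀) hH₀.2.2.2

/-- A point of the third kind is centralized by its core. -/
theorem ePt_max {e : G} (he : e ∈ A) (he1 : e ≠ 1) (hm : ¬ MultiPt p A θ s t e) {M : Subgroup G}
    (hM : IsMax p A θ M) (hle : θ e ≤ M) (hT : coreOf t M ≠ ⊥) :
    θ e = M ∧ Owner p t A θ e := by
  have hCM := (S.C_le_theta he he1).trans hle
  have hMs := single_core S h2 hinc he he1 hm hM hle hT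
  set R := coreOf t M
  have hRm : R ∈ Cfsg.signalizerFamily p A θ := S.coreOf_mem hM.1 t
  set Ω := ⁅R, zpowers e⁆ with hΩdef
  have heR : zpowers e ≤ normalizer (R : Set G) := zpowers_le.mpr (S.mem_normalizer_member hRm he)
  have hΩR : Ω ≤ R := Grp.commutator_le_left_of_le_normalizer heR
  have hcopR := coprime_zpowers (S.pow_eq he) hRm.2.1
  have hΩΩ : ⁅Ω, zpowers e⁆ = Ω := Grp.commutator_commutator_eq (zpowers e) R heR hcopR (Or.inl inferInstance)
  have hΩm : Ω ∈ Cfsg.signalizerFamily p A θ := by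
    refine S.sub_mem hRm hΩR fun a ha => ?_
    rw [Grp.mem_normalizer_iff_smul, hΩdef, ← Grp.map_conj_eq_smul, Subgroup.map_commutator,
      Grp.map_conj_eq_smul, Grp.map_conj_eq_smul, Grp.mem_normalizer_iff_smul.mp (S.normalizer_mem hRm ha),
      Grp.mem_normalizer_iff_smul.mp (S.le_normalizer_of_le (zpowers_le.mpr he) ha)]
  have hθΩ : θ e ≤ normalizer (Ω : Set G) := fun x hx => by
    rw [Grp.mem_normalizer_iff_smul, hΩdef, ← Grp.map_conj_eq_smul, Subgroup.map_commutator,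
      Grp.map_conj_eq_smul, Grp.map_conj_eq_smul,
      Grp.mem_normalizer_iff_smul.mp (Hyp.max_normalizes_core S t (hle hx))]
    congr 1
    exact Grp.mem_normalizer_iff_smul.mp (centralizer_le_normalizer _
      (le_centralizer_iff.mp (zpowers_le_centralizer_of (S.theta_le_centralizer he he1)) hx))
  -- the commutator with `e` inside any member
  have hLA : ∀ {L Γ : Subgroup G}, L ∈ Cfsg.signalizerFamily p A θ → Γ ≤ L → Γ ≤ R →
      zpowers e ≤ normalizer (Γ : Set G) → ⁅Γ, zpowers e⁆ ≤ coreOf t L := by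
    intro L Γ hL hΓL hΓR hn
    refine commutator_le_core_of_fixed ht2 (t_ne_p S h2 hinc hH₀ ht2) hL.1 hL.2.1 hΓL
      ((Grp.coreOf_isPGroup M).to_le hΓR) (S.mem_normalizer_member hL he) (S.pow_eq he)
      (hn (mem_zpowers e)) ?_
    rintro x ⟨hxL, hxe⟩
    exact ⟨layer_le t L hxL, fun γ hγ => commutator_mem_core_of_invariant (Grp.coreOf_isPGroup M)
      (hΓR hγ) (hΓL hγ) hxL
      (Hyp.max_normalizes_core S t (hle (S.mem_inf_point hL he he1 ⟨layer_le t L hxL, hxe⟩)))⟩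
  have hΩ : Ω = ⊥ := by
    by_contra hne
    have hcen : ∀ H, Multi p A θ s t H → Ω ≤ centralizer ((coreOf s H : Subgroup G) : Set G) := by
      intro H hH
      refine le_of_pieces S.toSetup hΩm ((Grp.coreOf_isPGroup M).to_le hΩR)
        (Grp.right_le_normalizer_commutator _ _) (hcopR.coprime_dvd_right (card_dvd_of_le hΩR))
        hΩΩ.ge (fun n hn => Grp.le_normalizer_inf' (Grp.right_le_normalizer_commutator _ _)
          ((zpowers_le.mpr he).trans (S.le_normalizer_centralizer hn.1))) fun n hn => ?_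
      have hnn : zpowers e ≤ normalizer ((Ω ⊓ centralizer (n : Set G) : Subgroup G) : Set G) :=
        Grp.le_normalizer_inf' (Grp.right_le_normalizer_commutator _ _)
          ((zpowers_le.mpr he).trans (S.le_normalizer_centralizer hn.1))
      obtain ⟨b, hb, hb1, hbm | hbd⟩ := line_multi_or_d S h2 hinc hH₀ hn
      · obtain ⟨L, hL, hbL⟩ := hbm
        exact (hLA hL.1.1 (((S.member_line_le_K hΩm hn).trans (S.K_le_theta hb hb1)).trans hbL)
          (inf_le_left.trans hΩR) hnn).trans (le_centralizer_iff.mp (multi_cores_commute S h2 hH hL))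
      · obtain ⟨L, hL, hbL⟩ := S.exists_max (S.theta_mem (hn.1 hb) hb1)
        refine (hLA hL.1 (((S.member_line_le_K hΩm hn).trans (S.K_le_theta hb hb1)).trans hbL)
          (inf_le_left.trans hΩR) hnn).trans ?_
        rw [hbd L hL hbL]
        exact bot_le
    obtain ⟨W, hW, hΩW, -, hall⟩ := S.hW Ω hΩm hne
    obtain ⟨K, hK, hWK⟩ := S.exists_max hW
    have heK : θ e ≤ K := (hall _ (S.theta_mem he he1) hθΩ).trans hWK
    have hCK := (S.C_le_theta he he1).trans heK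
    by_cases hKs : coreOf s K = ⊥
    · refine hH₀.2.2.1 ?_
      rw [← inf_eq_left.mpr ((hall _ (S.coreOf_mem hH₀.1.1 s)
        ((le_centralizer_iff.mp (hcen H₀ hH₀)).trans (centralizer_le_normalizer _))).trans hWK)]
      exact multi_inf_eq_bot S h2 hH₀ hK.1 hCK hKs
    · have hKt : coreOf t K = ⊥ := by
        by_contra h
        exact hKs (single_core S h2 hinc he he1 hm hK heK h)
      refine hne (le_bot_iff.mp ?_)
      have h := hLA hK.1 (hΩW.trans hWK) hΩR (Grp.right_le_normalizer_commutator _ _)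
      rw [hΩΩ, hKt] at h
      exact h
  have hRc : R ≤ centralizer ({e} : Set G) := by
    rw [Grp.centralizer_singleton_eq_zpowers]
    exact commutator_eq_bot_iff_le_centralizer.mp hΩ
  have hMc : M ≤ centralizer ({e} : Set G) := S.le_centralizer_of_cores hM.1 he fun r hr => by
    by_cases hrt : r = t
    · exact hrt ▸ hRc
    by_cases hrs : r = s
    · rw [hrs, hMs]; exact bot_le
    rw [core_eq_bot_of_ne S h2 hM.1 hr hrs hrt]; exact bot_le
  exact ⟨Hyp.max_eq_theta S hM he he1 hle hMc, Hyp.owner_of_max S hM hCM hT he hMc⟩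

theorem ePt_data {e : G} (he : e ∈ A) (he1 : e ≠ 1) (hm : ¬ MultiPt p A θ s t e)
    (hd : ¬ DPt p A θ t e) :
    IsMax p A θ (θ e) ∧ coreOf t (θ e) ≠ ⊥ ∧ coreOf s (θ e) = ⊥ ∧ Owner p t A θ e := by
  unfold DPt at hd
  push Not at hd
  obtain ⟨M, hM, hle, hT⟩ := hd
  obtain ⟨h1, h2'⟩ := ePt_max S h2 hinc hH₀ ht2 he he1 hm hM hle hT
  rw [h1]
  exact ⟨hM, hT, single_core S h2 hinc he he1 hm hM hle hT, h2'⟩

/-- Such points lie in one cyclic group. -/
theorem ePt_cyclic : ∃ e₀ ∈ A, ∀ e ∈ A, e ≠ 1 → ¬ MultiPt p A θ s t e → ¬ DPt p A θ t e →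
    e ∈ zpowers e₀ := by
  by_contra h
  push Not at h
  obtain ⟨e₁, he₁, he₁1, hm₁, hd₁, -⟩ := h 1 (one_mem A)
  obtain ⟨e₂, he₂, he₂1, hm₂, hd₂, h21⟩ := h e₁ he₁
  have hn := S.line_of_two he₁ he₁1 he₂ h21
  obtain ⟨-, -, -, ho₁⟩ := ePt_data S h2 hinc hH₀ ht2 he₁ he₁1 hm₁ hd₁
  obtain ⟨-, -, -, ho₂⟩ := ePt_data S h2 hinc hH₀ ht2 he₂ he₂1 hm₂ hd₂
  obtain ⟨b, hb, hb1, hb'⟩ := line_multi_or_d S h2 hinc hH₀ hn
  obtain ⟨R, hR⟩ := S.exists_maxQ (q := t)
  have hRb : R ≤ θ b := by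
    refine le_trans (le_inf le_rfl fun x hx => ?_) (S.mem_inf_point hR.1 (hn.1 hb) hb1)
    exact centralizer_le (Set.singleton_subset_iff.mpr hb) (S.centralizer_line hn
      (mem_sup_left (mem_zpowers e₁)) (mem_sup_right (mem_zpowers e₂)) he₁1 h21
      (ho₁ R hR.1 hR.2.1 hx) (ho₂ R hR.1 hR.2.1 hx))
  rcases hb' with ⟨M, hM, hle⟩ | hD
  · exact hinc (trick S h2.symm hM.1 hR (hRb.trans hle) hM.2.2.1)
  · obtain ⟨M, hM, hle⟩ := S.exists_max (S.theta_mem (hn.1 hb) hb1)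
    exact hinc (trick S h2.symm hM hR (hRb.trans hle) (dPt_core S h2 hinc hD hM hle))

omit hinc in
theorem multi_of_two {e₀ : G} (he₀ : ∀ e ∈ A, e ≠ 1 → ¬ MultiPt p A θ s t e → ¬ DPt p A θ t e →
    e ∈ zpowers e₀) (he₀A : e₀ ∈ A) {n : Subgroup G} (hn : IsLine p A n) {f₁ f₂ : G} (hf₁ : f₁ ∈ n) (hf₂ : f₂ ∈ n)
    (hf₁1 : f₁ ≠ 1) (h21 : f₂ ∉ zpowers f₁) (hg₁ : ¬ DPt p A θ t f₁) (hg₂ : ¬ DPt p A θ t f₂) :
    ∃ b ∈ n, b ≠ 1 ∧ MultiPt p A θ s t b := by
  have hf₂1 : f₂ ≠ 1 := fun e => h21 (e ▸ one_mem _)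
  by_cases hm₁ : MultiPt p A θ s t f₁
  · exact ⟨f₁, hf₁, hf₁1, hm₁⟩
  refine ⟨f₂, hf₂, hf₂1, by_contra fun hm₂ => h21 ?_⟩
  have h1 := he₀ f₁ (hn.1 hf₁) hf₁1 hm₁ hg₁
  have h2' := he₀ f₂ (hn.1 hf₂) hf₂1 hm₂ hg₂
  have hone : e₀ ≠ 1 := fun e => hf₁1 (by subst e; rw [zpowers_one_eq_bot, mem_bot] at h1; exact h1)
  have e : zpowers f₁ = zpowers e₀ := Subgroup.eq_of_le_of_card_ge (zpowers_le.mpr h1)
    (by rw [S.card_zpowers_point (hn.1 hf₁) hf₁1, S.card_zpowers_point he₀A hone])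
  exact e.symm ▸ h2'

/-- The points without `t`-core lie on a line. -/
theorem dPt_line : ∃ l, IsLine p A l ∧ ∀ d ∈ A, d ≠ 1 → DPt p A θ t d → d ∈ l := by
  set D : Set G := {d | d ∈ A ∧ d ≠ 1 ∧ DPt p A θ t d}
  by_cases hspan : A ≤ closure D
  swap
  · obtain ⟨l, hl, hle⟩ := S.exists_line_of_cyclic (T := D) (fun d hd => hd.1) hspan
    exact ⟨l, hl, fun d hd hd1 h => hle ⟨hd, hd1, h⟩⟩
  exfalso
  obtain ⟨Q, hQ⟩ := S.exists_maxQ (q := s)
  set Γ := zCen Q with hΓdef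
  have hΓm : Γ ∈ Cfsg.signalizerFamily p A θ :=
    S.sub_mem hQ.1 (zCen_le Q) ((S.normalizer_mem hQ.1).trans (normalizer_le_zCen Q))
  have hΓs : IsPGroup s Γ := hQ.2.1.to_le (zCen_le Q)
  -- the centre is fixed
  have hΓC : Γ ≤ Cfsg.signalizerInf A θ := by
    refine S.le_C_of_span hΓm hspan fun d hd => ?_
    obtain ⟨hdA, hd1, hD⟩ := hd
    obtain ⟨M, hM, hdM⟩ := S.exists_max (S.theta_mem hdA hd1)
    have hMs := dPt_core S h2 hinc hD hM hdM
    have hCM := (S.C_le_theta hdA hd1).trans hdM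
    have hXQ := S.coreOf_le_maxQ hM.1 hCM hQ (q := s)
    have hΓM : Γ ≤ M := zCen_le_max S h2.symm hM hMs hQ hXQ
    have hΓX : Γ ≤ coreOf s M := fun x hx => by
      refine mem_core_of_two S h2.symm hM.1 hΓs hx (hΓM hx) ?_ ?_
      · rw [hD M hM hdM, mem_centralizer_iff]
        intro y hy
        rw [SetLike.mem_coe, mem_bot] at hy
        simp [hy]
      · rw [mem_centralizer_iff]
        exact fun y hy => (zCen_comm hx (hXQ hy)).symm
    have hdΓ : zpowers d ≤ normalizer (Γ : Set G) := zpowers_le.mpr (S.mem_normalizer_member hΓm hdA)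
    set Y := ⁅Γ, zpowers d⁆
    have hYΓ : Y ≤ Γ := Grp.commutator_le_left_of_le_normalizer hdΓ
    suffices hY : Y = ⊥ by
      rw [Grp.centralizer_singleton_eq_zpowers]
      exact commutator_eq_bot_iff_le_centralizer.mp hY
    have hΓH : Γ ≤ H₀ := zCen_le_max S h2.symm hH₀.1 hH₀.2.2.1 hQ (S.coreOf_le_maxQ hH₀.1.1 hH₀.2.1 hQ)
    rw [eq_bot_iff, ← zCen_inf_core S h2.symm hinc hH₀.symm hQ]
    refine le_inf hYΓ (le_core_of_fpf (b := d) hH₀.1.1.1 hH₀.1.1.2.1 (hYΓ.trans hΓH) (hΓs.to_le hYΓ)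
      (S.mem_normalizer_member hH₀.1.1 hdA) (S.pow_eq hdA)
      (Grp.right_le_normalizer_commutator _ _ (mem_zpowers d)) ?_ ?_)
    · rw [Grp.centralizer_singleton_eq_zpowers, eq_bot_iff, ← Grp.abelian_commutator_inf_fixed
        (zpowers d) Γ hdΓ (coprime_zpowers (S.pow_eq hdA) hΓm.2.1)]
      exact le_inf (le_inf (inf_le_left.trans hYΓ) inf_le_right) inf_le_left
    · rintro x ⟨hxL, hxd⟩
      exact ⟨layer_le s _ hxL, fun γ hγ => commutator_mem_core_of_invariant (Grp.coreOf_isPGroup M)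
        (hΓX (hYΓ hγ)) (hΓH (hYΓ hγ)) hxL
        (Hyp.max_normalizes_core S s (hdM (S.mem_inf_point hH₀.1.1 hdA hd1 ⟨layer_le s _ hxL, hxd⟩)))⟩
  have hΓn : ∀ {U : Subgroup G}, U ∈ Cfsg.signalizerFamily p A θ → Cfsg.signalizerInf A θ ≤ U →
      Γ ≤ normalizer (U : Set G) := fun _ hC => (hΓC.trans hC).trans le_normalizer
  have hcop : ∀ {U : Subgroup G}, IsPGroup t U → (Nat.card Γ).Coprime (Nat.card U) := fun hU =>
    IsPGroup.coprime_card_of_ne s t h2.2.2.1 _ _ hΓs hU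
  have hTΓ : ∀ H, Multi p A θ s t H → coreOf t H ≤ ⁅coreOf t H, Γ⁆ := by
    intro H hH
    have := Grp.commutator_sup_fixed Γ (coreOf t H) ((hΓC.trans hH.2.1).trans (Hyp.max_normalizes_core S t))
      (hcop (Grp.coreOf_isPGroup H))
      (Or.inr (have := (Grp.coreOf_isPGroup (r := t) H).isNilpotent; inferInstance))
    rw [core_inf_centralizer_zCen S h2.symm hinc hH.symm hQ, sup_bot_eq] at this
    exact this.ge
  have hsame : ∀ H M, Multi p A θ s t H → Multi p A θ s t M → coreOf t H ≤ coreOf t M := fun H M hH hM =>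
    (hTΓ H hH).trans (zeta S h2.symm hQ hΓC hM.1.1 hM.2.1 (multi_core_s_le S h2 hM hH)
      (Grp.coreOf_isPGroup H) ((hΓC.trans hH.2.1).trans (Hyp.max_normalizes_core S t)))
  have hone : ∀ M, Multi p A θ s t M → M ≤ H₀ := fun M hM => by
    refine Hyp.le_max_of_core S hH₀.1 hH₀.2.2.2 hM.1.1 ?_
    rw [le_antisymm (hsame H₀ M hH₀ hM) (hsame M H₀ hM hH₀)]
    exact Hyp.max_normalizes_core S t
  set T := coreOf t H₀
  have hQK : Q ≤ H₀ := by
    refine S.member_le_of_lines hQ.1 fun n hn q ⟨hq, hqn⟩ => ?_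
    have hqθ : ∀ b ∈ n, b ≠ 1 → q ∈ θ b := fun b hb hb1 =>
      S.mem_inf_point hQ.1 (hn.1 hb) hb1 ⟨hq, centralizer_le (Set.singleton_subset_iff.mpr hb) hqn⟩
    by_cases hmulti : ∃ b ∈ n, b ≠ 1 ∧ MultiPt p A θ s t b
    · obtain ⟨b, hb, hb1, L, hL, hle⟩ := hmulti
      exact hone L hL (hle (hqθ b hb hb1))
    push Not at hmulti
    obtain ⟨e, he, he1, hed⟩ := line_not_all_d S h2 hinc hH₀ hn
    have heA := hn.1 he
    obtain ⟨heM, heT, -, heo⟩ := ePt_data S h2 hinc hH₀ ht2 heA he1 (hmulti e he he1) hed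
    have hCe := S.C_le_theta heA he1
    set Te := coreOf t (θ e)
    set W := ⁅Te, Γ⁆ with hW
    have hΓTe : Γ ≤ normalizer (Te : Set G) := (hΓC.trans hCe).trans (Hyp.max_normalizes_core S t)
    have hWTe : W ≤ Te := Grp.commutator_le_left_of_le_normalizer hΓTe
    have hcopW := hcop (Grp.coreOf_isPGroup (r := t) (θ e))
    have hWW : ⁅W, Γ⁆ = W := Grp.commutator_commutator_eq Γ Te hΓTe hcopW
      (Or.inr (have := (Grp.coreOf_isPGroup (r := t) (θ e)).isNilpotent; inferInstance))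
    have hWm : W ∈ Cfsg.signalizerFamily p A θ := by
      refine S.sub_mem (S.coreOf_mem (S.theta_mem heA he1) t) hWTe fun a ha => ?_
      rw [Grp.mem_normalizer_iff_smul, hW, ← Grp.map_conj_eq_smul, Subgroup.map_commutator,
        Grp.map_conj_eq_smul, Grp.map_conj_eq_smul,
        Grp.mem_normalizer_iff_smul.mp (S.normalizer_mem (S.coreOf_mem (S.theta_mem heA he1) t) ha),
        Grp.mem_normalizer_iff_smul.mp (S.normalizer_mem hΓm ha)]
    have hnn : ∀ k, IsLine p A k → Γ ≤ normalizer ((W ⊓ centralizer (k : Set G) : Subgroup G) : Set G) :=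
      fun k hk => Grp.le_normalizer_inf' (Grp.right_le_normalizer_commutator _ _)
        ((hΓC.trans (S.C_le_centralizer.trans (centralizer_le (SetLike.coe_subset_coe.mpr hk.1)))).trans
          le_normalizer)
    have hWT : W ≤ T := by
      refine le_of_pieces S.toSetup hWm ((Grp.coreOf_isPGroup _).to_le hWTe)
        (Grp.right_le_normalizer_commutator _ _) (hcopW.coprime_dvd_right (card_dvd_of_le hWTe))
        hWW.ge hnn fun k hk => ?_
      have hWk : ∀ b ∈ k, b ≠ 1 → W ⊓ centralizer (k : Set G) ≤ θ b := fun b hb hb1 =>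
        (S.member_line_le_K hWm hk).trans (S.K_le_theta hb hb1)
      have hWt : IsPGroup t ↥(W ⊓ centralizer (k : Set G)) :=
        (Grp.coreOf_isPGroup (θ e)).to_le (inf_le_left.trans hWTe)
      obtain ⟨b, hb, hb1, hbm | hbd⟩ := line_multi_or_d S h2 hinc hH₀ hk
      · obtain ⟨L, hL, hle⟩ := hbm
        exact zeta S h2.symm hQ hΓC hH₀.1.1 hH₀.2.1 (((hWk b hb hb1).trans hle).trans (hone L hL))
          hWt (hnn k hk)
      · obtain ⟨L, hL, hle⟩ := S.exists_max (S.theta_mem (hk.1 hb) hb1)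
        have := zeta S h2.symm hQ hΓC hL.1 ((S.C_le_theta (hk.1 hb) hb1).trans hle)
          ((hWk b hb hb1).trans hle) hWt (hnn k hk)
        rw [hbd L hL hle] at this
        exact this.trans bot_le
    have hTe : T ≤ Te := by
      have hTθ : T ≤ θ e := (le_inf le_rfl (heo T (S.coreOf_mem hH₀.1.1 t) (Grp.coreOf_isPGroup H₀))).trans
        (S.mem_inf_point (S.coreOf_mem hH₀.1.1 t) heA he1)
      exact (hTΓ H₀ hH₀).trans (zeta S h2.symm hQ hΓC (S.theta_mem heA he1) hCe hTθ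
        (Grp.coreOf_isPGroup H₀) ((hΓC.trans hH₀.2.1).trans (Hyp.max_normalizes_core S t)))
    have hqe : q ∈ θ e := hqθ e he he1
    have hqT : MulAut.conj q • T ≤ T := by
      refine le_trans ?_ hWT
      calc MulAut.conj q • T ≤ MulAut.conj q • ⁅T, Γ⁆ :=
            Subgroup.pointwise_smul_le_pointwise_smul_iff.mpr (hTΓ H₀ hH₀)
        _ ≤ MulAut.conj q • W :=
            Subgroup.pointwise_smul_le_pointwise_smul_iff.mpr (Subgroup.commutator_mono hTe le_rfl)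
        _ = W := by
          rw [hW, ← Grp.map_conj_eq_smul, Subgroup.map_commutator, Grp.map_conj_eq_smul,
            Grp.map_conj_eq_smul, Grp.mem_normalizer_iff_smul.mp (Hyp.max_normalizes_core S t hqe),
            Grp.mem_normalizer_iff_smul.mp (normalizer_le_zCen Q (le_normalizer hq))]
    exact Hyp.mem_max_of_core S hH₀.1 hH₀.2.2.2 heA he1 hqe (Grp.mem_normalizer_iff_smul.mpr
      (Subgroup.eq_of_le_of_card_ge hqT (Grp.card_conj_smul _ _).ge))
  exact hinc (trick S h2 hH₀.1 hQ hQK hH₀.2.2.2)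

/-- The cores are fixed: everything collapses. -/
theorem false_of_fixed {l : Subgroup G} (hl : IsLine p A l) (hdl : ∀ d ∈ A, d ≠ 1 → DPt p A θ t d → d ∈ l)
    {e₀ : G} (he₀A : e₀ ∈ A) (he₀ : ∀ e ∈ A, e ≠ 1 → ¬ MultiPt p A θ s t e → ¬ DPt p A θ t e → e ∈ zpowers e₀)
    (hfix : ∀ x ∈ A, x ≠ 1 → ∀ M, Multi p A θ s t M → θ x ≤ M →
      coreOf t M ≤ centralizer ({x} : Set G)) : False := by
  -- every core is fixed by `A`
  have hTC : ∀ H, Multi p A θ s t H → coreOf t H ≤ Cfsg.signalizerInf A θ := by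
    intro H hH
    refine S.le_C_of_span (S.coreOf_mem hH.1.1 t) (closure_compl_line S.toSetup hl) fun x ⟨hx, hxl⟩ => ?_
    have hx1 : x ≠ 1 := fun e => hxl (e ▸ one_mem _)
    have hxd : ¬ DPt p A θ t x := fun h => hxl (hdl x hx hx1 h)
    by_cases hxm : MultiPt p A θ s t x
    swap
    · exact (ePt_data S h2 hinc hH₀ ht2 hx hx1 hxm hxd).2.2.2 _ (S.coreOf_mem hH.1.1 t)
        (Grp.coreOf_isPGroup H)
    obtain ⟨M, hM, hxM⟩ := hxm
    have hxT := hfix x hx hx1 M hM hxM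
    refine le_centralizer_one_of (Grp.thompson_PQ (coreOf t M) (zpowers x) (Grp.coreOf_isPGroup M) ?_
      (le_centralizer_iff.mp (zpowers_le_centralizer_of hxT)) (coreOf t H) (Grp.coreOf_isPGroup H)
      ((multi_core_s_le S h2 hH hM).trans (Hyp.max_normalizes_core S t))
      (zpowers_le.mpr (S.mem_normalizer_member (S.coreOf_mem hH.1.1 t) hx)) ?_)
    · rw [Nat.card_zpowers]
      exact ((Nat.coprime_primes hp.out ht.out).mpr (t_ne_p S h2 hinc hH₀ ht2).symm).coprime_dvd_left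
        (orderOf_dvd_of_pow_eq_one (S.pow_eq hx))
    rintro τ ⟨hτ, hτc⟩
    have hτM : τ ∈ M := multi_core_s_le S h2 hM hH hτ
    have hτT : τ ∈ coreOf t M := mem_core_of_two S h2 hM.1.1 (Grp.coreOf_isPGroup H) hτ hτM
      (le_centralizer_iff.mp (multi_cores_commute S h2 hM hH) hτ) hτc
    rw [← Grp.centralizer_singleton_eq_zpowers]
    exact hxT hτT
  have hnoD : ∀ d ∈ A, d ≠ 1 → ¬ DPt p A θ t d := by
    intro d hd hd1 hD
    obtain ⟨M, hM, hle⟩ := S.exists_max (S.theta_mem hd hd1)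
    have hCM := (S.C_le_theta hd hd1).trans hle
    have h := multi_inf_eq_bot S h2.symm hH₀.symm hM.1 hCM (hD M hM hle)
    rw [inf_eq_left.mpr ((hTC H₀ hH₀).trans hCM)] at h
    exact hH₀.2.2.2 h
  have hmline : ∀ n, IsLine p A n → ∃ b ∈ n, b ≠ 1 ∧ MultiPt p A θ s t b := fun n hn => by
    obtain ⟨b, hb, hb1, hbm | hbd⟩ := line_multi_or_d S h2 hinc hH₀ hn
    · exact ⟨b, hb, hb1, hbm⟩
    · exact absurd hbd (hnoD b (hn.1 hb) hb1)
  -- all these maximal members coincide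
  have hone : ∀ M', Multi p A θ s t M' → M' ≤ H₀ := by
    intro M' hM'
    refine Hyp.le_max_of_core S hH₀.1 hH₀.2.2.2 hM'.1.1 ?_
    refine S.member_le_of_lines hM'.1.1 fun k hk => ?_
    set P := M' ⊓ centralizer (k : Set G) with hP
    obtain ⟨b, hb, hb1, L, hL, hbL⟩ := hmline k hk
    have hPm : P ∈ Cfsg.signalizerFamily p A θ := S.sub_mem hM'.1.1 inf_le_left
      (Grp.le_normalizer_inf' (S.normalizer_mem hM'.1.1) (S.le_normalizer_centralizer hk.1))
    have hPL : P ≤ L := ((S.member_line_le_K hM'.1.1 hk).trans (S.K_le_theta hb hb1)).trans hbL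
    set T := coreOf t H₀
    have hTA : A ≤ centralizer (T : Set G) :=
      le_centralizer_iff.mp ((hTC H₀ hH₀).trans S.C_le_centralizer)
    set Δ := ⁅P, A⁆
    have hΔP : Δ ≤ P := Grp.commutator_le_left_of_le_normalizer (S.normalizer_mem hPm)
    have hΔΔ : ⁅Δ, A⁆ = Δ := Grp.commutator_commutator_eq A P (S.normalizer_mem hPm) (S.coprime_A hPm)
      (Or.inr hPm.1)
    have hΔc : Δ ≤ centralizer ((coreOf t L : Subgroup G) : Set G) :=
      commutator_le_centralizer (hPL.trans (Hyp.max_normalizes_core S t))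
        (le_centralizer_iff.mp ((hTC L hL).trans S.C_le_centralizer))
    have hΔT : Δ ≤ centralizer (T : Set G) := by
      intro δ hδ
      rw [mem_centralizer_iff]
      intro τ hτ
      have hτC : τ ∈ Cfsg.signalizerInf A θ := hTC H₀ hH₀ hτ
      have hτU : τ ∈ centralizer ((coreOf s L : Subgroup G) : Set G) :=
        le_centralizer_iff.mp (multi_cores_commute S h2 hL hH₀) hτ
      have hcT : ∀ v ∈ Δ, ⁅τ, v⁆ ∈ coreOf t L := fun v hv =>
        commutator_mem_core_t S h2 hL.1.1 (hL.2.1 hτC) (hPL (hΔP hv)) (Grp.coreOf_isPGroup (r := t) H₀) hτ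
          hτU (hΔc hv)
      have hcomm : ∀ v ∈ Δ, ∀ w ∈ Δ, ⁅τ, v * w⁆ = ⁅τ, v⁆ * ⁅τ, w⁆ := by
        intro v hv w hw
        rw [show ⁅τ, v * w⁆ = ⁅τ, v⁆ * (v * ⁅τ, w⁆ * v⁻¹) by simp only [commutatorElement_def]; group,
          show v * ⁅τ, w⁆ * v⁻¹ = ⁅τ, w⁆ by
            rw [← mem_centralizer_iff.mp (hΔc hv) _ (hcT w hw), mul_inv_cancel_right]]
      let K₀ : Subgroup G :=
        { carrier := {v | v ∈ Δ ∧ ⁅τ, v⁆ = 1}
          one_mem' := ⟨one_mem _, commutatorElement_one_right _⟩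
          mul_mem' := fun {v w} hv hw => ⟨mul_mem hv.1 hw.1, by rw [hcomm v hv.1 w hw.1, hv.2, hw.2, one_mul]⟩
          inv_mem' := fun {v} hv => ⟨inv_mem hv.1, by
            have h := hcomm v hv.1 v⁻¹ (inv_mem hv.1)
            rw [mul_inv_cancel, commutatorElement_one_right, hv.2, one_mul] at h
            exact h.symm⟩ }
      have hK : ⁅Δ, A⁆ ≤ K₀ := by
        refine commutator_le.mpr fun v hv a ha => ?_
        have hw : a * v⁻¹ * a⁻¹ ∈ Δ :=
          Grp.mem_conj_normalizer (Grp.right_le_normalizer_commutator _ _ ha) (inv_mem hv)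
        refine ⟨commutator_mem_of_normalizes' (Grp.right_le_normalizer_commutator _ _ ha) hv, ?_⟩
        have haτ : a * τ = τ * a := (mem_centralizer_iff.mp (hTA ha) τ hτ).symm
        have hac : ∀ c ∈ coreOf t L, a * c * a⁻¹ = c := fun c hc => by
          rw [mem_centralizer_iff.mp (S.C_le_centralizer (hTC L hL hc)) a ha, mul_inv_cancel_right]
        have e1 : ⁅τ, a * v⁻¹ * a⁻¹⁆ = ⁅τ, v⁻¹⁆ := by
          rw [← hac _ (hcT _ (inv_mem hv))]
          have haτ' : a * τ * a⁻¹ = τ := by rw [haτ, mul_inv_cancel_right]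
          conv_lhs => rw [← haτ']
          simp only [commutatorElement_def]; group
        rw [show ⁅v, a⁆ = v * (a * v⁻¹ * a⁻¹) by rw [commutatorElement_def]; group, hcomm v hv _ hw, e1,
          ← hcomm v hv _ (inv_mem hv), mul_inv_cancel, commutatorElement_one_right]
      exact commutatorElement_eq_one_iff_mul_comm.mp (hK (hΔΔ.symm ▸ hδ)).2
    intro x hx
    have hx' : x ∈ P := hx
    obtain ⟨m, hm, c, hc, rfl⟩ := Grp.exists_commutator_mul_fixed A P (S.normalizer_mem hPm)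
      (S.coprime_A hPm) (Or.inr hPm.1) hx'
    exact mul_mem (centralizer_le_normalizer _ (hΔT hm))
      (Hyp.max_normalizes_core S t (hH₀.2.1 (S.member_A_le_C hPm hc)))
  exact hinc (S.complete_of_lines hH₀.1.1 fun n hn => by
    obtain ⟨b, hb, hb1, L, hL, hle⟩ := hmline n hn
    exact ((S.K_le_theta hb hb1).trans hle).trans (hone L hL))

theorem multi_false : False := by
  obtain ⟨e₀, he₀A, he₀⟩ := ePt_cyclic S h2 hinc hH₀ ht2
  obtain ⟨l, hl, hdl⟩ := dPt_line S h2 hinc hH₀ ht2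
  by_cases hmove : ∃ x ∈ A, x ≠ 1 ∧ ∃ M, Multi p A θ s t M ∧ θ x ≤ M ∧
      ¬ coreOf t M ≤ centralizer ({x} : Set G)
  swap
  · exact false_of_fixed S h2 hinc hH₀ ht2 hl hdl he₀A he₀ fun x hx hx1 M hM hle =>
      by_contra fun h => hmove ⟨x, hx, hx1, M, hM, hle, h⟩
  obtain ⟨x, hx, hx1, Mx, hMx, hxM, hxne⟩ := hmove
  set F : Set (Subgroup G) := {H | Multi p A θ s t H ∨
    ∃ e ∈ A, e ≠ 1 ∧ ¬ MultiPt p A θ s t e ∧ ¬ DPt p A θ t e ∧ H = θ e}
  set Gk : Subgroup G := ⨅ H : F, coreOf t (H : Subgroup G) with hGk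
  have hGF : ∀ H ∈ F, Gk ≤ coreOf t H := fun H hH => iInf_le (fun H : F => coreOf t (H : Subgroup G)) ⟨H, hH⟩
  have hF : ∀ H ∈ F, H ∈ Cfsg.signalizerFamily p A θ := by
    rintro H (hH | ⟨e, he, he1, -, -, rfl⟩)
    · exact hH.1.1
    · exact S.theta_mem he he1
  have hGm : Gk ∈ Cfsg.signalizerFamily p A θ := by
    refine S.sub_mem (S.coreOf_mem hH₀.1.1 t) (hGF H₀ (Or.inl hH₀)) (Grp.invariant_iff.mp fun a ha y hy => ?_)
    rw [hGk, mem_iInf] at hy ⊢
    exact fun H => Grp.mem_conj_normalizer (S.normalizer_mem (S.coreOf_mem (hF H H.2) t) ha) (hy H)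
  set T := coreOf t Mx
  have hxT : zpowers x ≤ normalizer (T : Set G) :=
    zpowers_le.mpr (S.mem_normalizer_member (S.coreOf_mem hMx.1.1 t) hx)
  have hTG : ⁅T, zpowers x⁆ ≤ Gk := by
    refine le_iInf fun ⟨H, hH⟩ => ?_
    have hTH : T ≤ H := by
      rcases hH with hH | ⟨e, he, he1, hm, hd, rfl⟩
      · exact multi_core_s_le S h2 hH hMx
      · exact (le_inf le_rfl ((ePt_data S h2 hinc hH₀ ht2 he he1 hm hd).2.2.2 T (S.coreOf_mem hMx.1.1 t)
          (Grp.coreOf_isPGroup Mx))).trans (S.mem_inf_point (S.coreOf_mem hMx.1.1 t) he he1)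
    have hHm := hF H hH
    refine commutator_le_core_of_fixed ht2 (t_ne_p S h2 hinc hH₀ ht2) hHm.1 hHm.2.1 hTH
      (Grp.coreOf_isPGroup Mx) (S.mem_normalizer_member hHm hx) (S.pow_eq hx) (hxT (mem_zpowers x)) ?_
    rintro y ⟨hyL, hyx⟩
    exact ⟨layer_le t H hyL, fun γ hγ => commutator_mem_core_of_invariant (Grp.coreOf_isPGroup Mx) hγ
      (hTH hγ) hyL (Hyp.max_normalizes_core S t (hxM (S.mem_inf_point hHm hx hx1 ⟨layer_le t H hyL, hyx⟩)))⟩
  have hGne : Gk ≠ ⊥ := fun e => hxne (by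
    rw [e, le_bot_iff] at hTG
    rw [Grp.centralizer_singleton_eq_zpowers]
    exact commutator_eq_bot_iff_le_centralizer.mp hTG)
  refine hinc (complete_of_criterion S Gk F hGm
    ((Grp.coreOf_isPGroup H₀).to_le (hGF H₀ (Or.inl hH₀))) hGne hF hGF
    (fun X hX => le_iInf fun H => hX H H.2) ?_ ?_ (fun n hn => line_not_all_d S h2 hinc hH₀ hn) hl hdl ?_)
  · intro b hb hb1 hbd
    by_cases hbm : MultiPt p A θ s t b
    · obtain ⟨M, hM, hle⟩ := hbm
      exact ⟨M, hM.1, hle, hGF M (Or.inl hM)⟩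
    · obtain ⟨h1, -, -, -⟩ := ePt_data S h2 hinc hH₀ ht2 hb hb1 hbm hbd
      exact ⟨θ b, h1, le_rfl, hGF _ (Or.inr ⟨b, hb, hb1, hbm, hbd, rfl⟩)⟩
  · intro d hd hd1 hD M hM hle
    rw [eq_bot_iff, ← multi_inf_eq_bot S h2.symm hH₀.symm hM.1 ((S.C_le_theta hd hd1).trans hle) (hD M hM hle)]
    exact inf_le_inf_right _ (hGF H₀ (Or.inl hH₀))
  · intro n hn f₁ hf₁ f₂ hf₂ hf₁1 h21 hg₁ hg₂ g hg hconj H hH
    obtain ⟨b, hb, hb1, L, hL, hbL⟩ := multi_of_two S h2 hH₀ ht2 he₀ he₀A hn hf₁ hf₂ hf₁1 h21 hg₁ hg₂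
    refine (hconj b hb hb1 L hL.1 hbL (hGF L (Or.inl hL))).trans ?_
    rcases hH with hH | ⟨e, he, he1, hm, hd, rfl⟩
    · exact multi_core_s_le S h2 hH hL
    · exact (le_inf le_rfl ((ePt_data S h2 hinc hH₀ ht2 he he1 hm hd).2.2.2 _ (S.coreOf_mem hL.1.1 t)
        (Grp.coreOf_isPGroup L))).trans (S.mem_inf_point (S.coreOf_mem hL.1.1 t) he he1)

end Cfsg.Agent.Transfer.SFT
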