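import Mathlib
import Cfsg.Agent.Lib.Transfer.SFT.TwoMulti
import Cfsg.Agent.Lib.Transfer.OffenderFailure
import Cfsg.Agent.Lib.Invol.StronglyClosedControl
import Cfsg.Agent.Lib.Fus.TransitivityOdd

/-!
Two primes, every maximal member having only one nontrivial core.
-/

set_option autoImplicit false
set_option linter.unusedSectionVars false

namespace Cfsg.Agent.Transfer.SFT

open Subgroup
open Cfsg.Agent.Grp (coreOf IsMaxQMember IsSylowIn)
open scoped commutatorElement Pointwise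

universe u

section Basics

variable {G : Type u} [Group G]

theorem mem_normalizer_of_conj [Finite G] {X : Subgroup G} {g : G} (h : ∀ x ∈ X, g * x * g⁻¹ ∈ X) :
    g ∈ normalizer (X : Set G) := by
  refine Grp.mem_normalizer_iff_smul.mpr
    (Subgroup.eq_of_le_of_card_ge (fun y hy => ?_) (Grp.card_conj_smul _ _).ge)
  have h2 := h _ (Grp.mem_smul_conj.mp hy)
  convert h2 using 1
  group

theorem normalizer_le_thompsonEl (t : ℕ) (P : Subgroup G) :
    normalizer (P : Set G) ≤ normalizer ((Cfsg.thompsonSubgroupOf t P : Subgroup G) : Set G) :=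
  Grp.invariant_iff.mp fun _ hg _ hx => Invol.conj_mem_thompsonEl hg hx

theorem normalizer_le_omegaOne (t : ℕ) (P : Subgroup G) :
    normalizer (P : Set G) ≤ normalizer ((Cfsg.omegaOne t P : Subgroup G) : Set G) := by
  refine Grp.invariant_iff.mp fun g hg x hx => ?_
  suffices h : Cfsg.omegaOne t P ≤ (Cfsg.omegaOne t P).comap (MulAut.conj g).toMonoidHom from h hx
  refine (closure_le _).mpr fun y hy => subset_closure ⟨Grp.mem_conj_normalizer hg hy.1, ?_⟩
  show (g * y * g⁻¹) ^ t = 1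
  rw [conj_pow, hy.2, mul_one, mul_inv_cancel]

theorem omega_le_thompsonEl [Finite G] (t : ℕ) (P : Subgroup G) :
    Cfsg.omegaOne t (zCen P) ≤ Cfsg.thompsonSubgroupOf t P := by
  refine (closure_le _).mpr fun x hx => ?_
  obtain ⟨A₀, hA₀⟩ := Thompson.exists_max (p := t) (G := ↥P)
  refine ⟨⟨x, hx.1.1⟩, le_sSup (show A₀ ∈ Cfsg.maxElementaryAbelianSubgroups t ↥P from hA₀) ?_, rfl⟩
  exact Thompson.mem_of_commute hA₀ (Subtype.ext hx.2) fun a _ => Subtype.ext (zCen_comm hx.1 a.2)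

theorem omega_zCen_ne_bot [Finite G] {t : ℕ} [ht : Fact t.Prime] {P : Subgroup G} (hP : IsPGroup t P)
    (hne : P ≠ ⊥) : Cfsg.omegaOne t (zCen P) ≠ ⊥ := by
  have hZ := hP.to_le (zCen_le P)
  haveI : Nontrivial ↥(zCen P) := (nontrivial_iff_ne_bot _).mpr (zCen_ne_bot hP hne)
  obtain ⟨k, hk0, hk⟩ := hZ.nontrivial_iff_card.mp inferInstance
  obtain ⟨x, hx⟩ := exists_prime_orderOf_dvd_card' t (hk ▸ dvd_pow_self t hk0.ne')
  intro e
  have hxm : (x : G) ∈ Cfsg.omegaOne t (zCen P) := subset_closure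
    ⟨x.2, by rw [← SubmonoidClass.coe_pow, ← hx, pow_orderOf_eq_one]; rfl⟩
  rw [e, mem_bot] at hxm
  rw [show x = 1 from Subtype.ext hxm, orderOf_one] at hx
  exact ht.out.one_lt.ne hx

end Basics

/-- The maximal members over the fixed group and the largest invariant `t`-member. -/
def fSet {G : Type u} [Group G] (p : ℕ) (A : Subgroup G) (θ : G → Subgroup G) (t : ℕ) :
    Set (Subgroup G) :=
  {M | IsMax p A θ M ∧ Cfsg.signalizerInf A θ ≤ M ∧ bigS p A θ {t} ≤ M}

/-- The intersection of their `t`-cores. -/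
noncomputable def gk {G : Type u} [Group G] (p : ℕ) (A : Subgroup G) (θ : G → Subgroup G) (t : ℕ) :
    Subgroup G :=
  ⨅ H : fSet p A θ t, coreOf t (H : Subgroup G)

variable {G : Type u} [Group G] [Finite G] {p : ℕ} [hp : Fact p.Prime] {A : Subgroup G}
  {θ : G → Subgroup G} {s t : ℕ} [hs : Fact s.Prime] [ht : Fact t.Prime]
  (S : Hyp p A θ) (h2 : IsTwo A θ s t) (hinc : ¬ Complete p A θ)
  (hnm : ∀ M, ¬ Multi p A θ s t M) (hspi : IsPi A θ s)
  (hline : ∀ n, IsLine p A n → ∃ b ∈ n, b ≠ 1 ∧ ¬ DPt p A θ t b)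

include S h2 hinc hnm hspi hline

namespace Pure

theorem single {M : Subgroup G} (hM : IsMax p A θ M) (hCM : Cfsg.signalizerInf A θ ≤ M)
    (hT : coreOf t M ≠ ⊥) : coreOf s M = ⊥ :=
  by_contra fun h => hnm M ⟨hM, hCM, h, hT⟩

theorem good_pt {b : G} (hb : b ∈ A) (hb1 : b ≠ 1) (h : ¬ DPt p A θ t b) :
    ∃ M, IsMax p A θ M ∧ Cfsg.signalizerInf A θ ≤ M ∧ θ b ≤ M ∧ coreOf t M ≠ ⊥ := by
  unfold DPt at h
  push Not at h
  obtain ⟨M, hM, hle, hT⟩ := h
  exact ⟨M, hM, (S.C_le_theta hb hb1).trans hle, hle, hT⟩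

theorem exists_good : ∃ M, IsMax p A θ M ∧ Cfsg.signalizerInf A θ ≤ M ∧ coreOf t M ≠ ⊥ := by
  obtain ⟨n, hn⟩ := S.exists_line
  obtain ⟨b, hb, hb1, hbd⟩ := hline n hn
  obtain ⟨M, h1, h2', -, h4⟩ := good_pt S h2 hinc hnm hspi hline (hn.1 hb) hb1 hbd
  exact ⟨M, h1, h2', h4⟩

theorem bigSt : IsBigS p A θ {t} (bigS p A θ {t}) :=
  bigS_spec S hspi (fun h => h2.2.2.1 (Set.mem_singleton_iff.mp h))

theorem bigSt_pGroup : IsPGroup t (bigS p A θ {t}) :=
  isPGroup_of_isPiNum S (bigSt S h2 hinc hnm hspi hline).2.1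

theorem core_le_bigSt {M : Subgroup G} (hM : M ∈ Cfsg.signalizerFamily p A θ)
    (hCM : Cfsg.signalizerInf A θ ≤ M) : coreOf t M ≤ bigS p A θ {t} :=
  (bigSt S h2 hinc hnm hspi hline).2.2.2 _ (S.coreOf_mem hM t)
    (isPiNum_of_pGroup S (Set.mem_singleton t) (Grp.coreOf_isPGroup M))
    (hCM.trans (Hyp.max_normalizes_core S t))

/-- A `t`-subgroup common to the cores over good points is trivial in the other maximal members. -/
theorem inf_eq_bot {Γ : Subgroup G} (hΓ : IsPGroup t Γ)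
    (hc : ∀ M, IsMax p A θ M → Cfsg.signalizerInf A θ ≤ M → coreOf t M ≠ ⊥ → Γ ≤ coreOf t M)
    {M : Subgroup G} (hM : IsMax p A θ M) (hΓM : Γ ≤ M) (hT : coreOf t M = ⊥) : Γ = ⊥ := by
  have hUc : coreOf s M ≤ centralizer (Γ : Set G) := by
    refine S.member_le_of_lines (S.coreOf_mem hM.1 s) fun k hk u hu => ?_
    obtain ⟨e, he, he1, hed⟩ := hline k hk
    obtain ⟨L, hL, hCL, heL, hLT⟩ := good_pt S h2 hinc hnm hspi hline (hk.1 he) he1 hed
    have huL : u ∈ L := heL (S.K_le_theta he he1 (S.member_line_le_K (S.coreOf_mem hM.1 s) hk hu))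
    rw [mem_centralizer_iff]
    intro γ hγ
    have h1 : ⁅γ, u⁆ ∈ coreOf s M ⊓ coreOf t L :=
      ⟨commutator_mem_of_normalizes (Hyp.max_normalizes_core S s (hΓM hγ)) hu.1,
        commutator_mem_of_normalizes' (Hyp.max_normalizes_core S t huL) (hc L hL hCL hLT hγ)⟩
    rw [inf_pgroup_eq_bot h2.2.2.1 (Grp.coreOf_isPGroup M) (Grp.coreOf_isPGroup L), mem_bot] at h1
    exact commutatorElement_eq_one_iff_mul_comm.mp h1
  refine (Subgroup.eq_bot_iff_forall _).mpr fun x hx => ?_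
  have h := mem_core_of_two S h2 hM.1 hΓ hx (hΓM hx) (le_centralizer_iff.mp hUc hx) (by
    rw [hT, mem_centralizer_iff]
    intro y hy
    rw [SetLike.mem_coe, mem_bot] at hy
    simp [hy])
  rwa [hT, mem_bot] at h

variable {R : Subgroup G} (hR : IsMaxQMember p t A θ R)

include hR

theorem zCen_le_core {M : Subgroup G} (hM : IsMax p A θ M) (hCM : Cfsg.signalizerInf A θ ≤ M)
    (hT : coreOf t M ≠ ⊥) : zCen R ≤ coreOf t M := by
  have hTR := S.coreOf_le_maxQ hM.1 hCM hR
  intro x hx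
  refine mem_core_of_two S h2 hM.1 (hR.2.1.to_le (zCen_le R)) hx (zCen_le_max S h2 hM hT hR hTR hx) ?_ ?_
  · rw [single S h2 hinc hnm hspi hline hM hCM hT, mem_centralizer_iff]
    intro y hy
    rw [SetLike.mem_coe, mem_bot] at hy
    simp [hy]
  · rw [mem_centralizer_iff]
    exact fun y hy => (zCen_comm hx (hTR hy)).symm

theorem zCenR_ne_bot : zCen R ≠ ⊥ := by
  obtain ⟨M, hM, hCM, hT⟩ := exists_good S h2 hinc hnm hspi hline
  exact zCen_ne_bot hR.2.1 fun e => hT (le_bot_iff.mp (e ▸ S.coreOf_le_maxQ hM.1 hCM hR))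

/-- A maximal member containing the centre has a `t`-core. -/
theorem core_ne_bot_of_zCen {M : Subgroup G} (hM : IsMax p A θ M) (hZM : zCen R ≤ M) :
    coreOf t M ≠ ⊥ := fun hT =>
  zCenR_ne_bot S h2 hinc hnm hspi hline hR (inf_eq_bot S h2 hinc hnm hspi hline (hR.2.1.to_le (zCen_le R))
    (fun _ hL hCL hLT => zCen_le_core S h2 hinc hnm hspi hline hR hL hCL hLT) hM hZM hT)

theorem zCen_le_bigSt : zCen R ≤ bigS p A θ {t} := by
  obtain ⟨M, hM, hCM, hT⟩ := exists_good S h2 hinc hnm hspi hline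
  exact (zCen_le_core S h2 hinc hnm hspi hline hR hM hCM hT).trans
    (core_le_bigSt S h2 hinc hnm hspi hline hM.1 hCM)

omit hR in
theorem exists_fSet : ∃ H, H ∈ fSet p A θ t := by
  have h := bigSt S h2 hinc hnm hspi hline
  obtain ⟨H, hH, hle⟩ := S.exists_max (Grp.family_sup S.hA S.hθ h.1 S.C_mem h.2.2.1)
  exact ⟨H, hH, le_sup_right.trans hle, le_sup_left.trans hle⟩

omit hR in
theorem gk_le {H : Subgroup G} (hH : H ∈ fSet p A θ t) : gk p A θ t ≤ coreOf t H :=
  iInf_le (fun H : fSet p A θ t => coreOf t (H : Subgroup G)) ⟨H, hH⟩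

omit hR in
theorem gk_pGroup : IsPGroup t (gk p A θ t) := by
  obtain ⟨H, hH⟩ := exists_fSet S h2 hinc hnm hspi hline
  exact (Grp.coreOf_isPGroup H).to_le (gk_le S h2 hinc hnm hspi hline hH)

omit hR in
theorem gk_le_bigSt : gk p A θ t ≤ bigS p A θ {t} := by
  obtain ⟨H, hH⟩ := exists_fSet S h2 hinc hnm hspi hline
  exact (gk_le S h2 hinc hnm hspi hline hH).trans (core_le_bigSt S h2 hinc hnm hspi hline hH.1.1 hH.2.1)

omit hR in
theorem le_normalizer_gk {X : Subgroup G}
    (h : ∀ H ∈ fSet p A θ t, X ≤ normalizer ((coreOf t H : Subgroup G) : Set G)) :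
    X ≤ normalizer ((gk p A θ t : Subgroup G) : Set G) := by
  refine Grp.invariant_iff.mp fun g hg x hx => ?_
  rw [gk, mem_iInf] at hx ⊢
  exact fun H => Grp.mem_conj_normalizer (h H H.2 hg) (hx H)

omit hR in
theorem C_le_normalizer_gk :
    Cfsg.signalizerInf A θ ≤ normalizer ((gk p A θ t : Subgroup G) : Set G) :=
  le_normalizer_gk S h2 hinc hnm hspi hline fun _ hH => hH.2.1.trans (Hyp.max_normalizes_core S t)

omit hR in
theorem bigSt_le_normalizer_gk : bigS p A θ {t} ≤ normalizer ((gk p A θ t : Subgroup G) : Set G) :=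
  le_normalizer_gk S h2 hinc hnm hspi hline fun _ hH => hH.2.2.trans (Hyp.max_normalizes_core S t)

omit hR in
theorem gk_mem : gk p A θ t ∈ Cfsg.signalizerFamily p A θ := by
  obtain ⟨H, hH⟩ := exists_fSet S h2 hinc hnm hspi hline
  exact S.sub_mem (S.coreOf_mem hH.1.1 t) (gk_le S h2 hinc hnm hspi hline hH)
    (le_normalizer_gk S h2 hinc hnm hspi hline fun L hL => S.normalizer_mem (S.coreOf_mem hL.1.1 t))

theorem gk_ne_bot : gk p A θ t ≠ ⊥ := by
  intro e
  have h : zCen R ≤ gk p A θ t := le_iInf fun ⟨H, hH⟩ =>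
    zCen_le_core S h2 hinc hnm hspi hline hR hH.1 hH.2.1 (core_ne_bot_of_zCen S h2 hinc hnm hspi hline hR hH.1
      ((zCen_le_bigSt S h2 hinc hnm hspi hline hR).trans hH.2.2))
  rw [e, le_bot_iff] at h
  exact zCenR_ne_bot S h2 hinc hnm hspi hline hR h

/-- The climbing argument. -/
theorem gk_le_core : ∀ {M : Subgroup G}, IsMax p A θ M → Cfsg.signalizerInf A θ ≤ M → coreOf t M ≠ ⊥ →
    gk p A θ t ≤ coreOf t M := by
  set St := bigS p A θ {t} with hStdef
  have hSt := bigSt S h2 hinc hnm hspi hline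
  have hStp := bigSt_pGroup S h2 hinc hnm hspi hline
  intro M
  induction hn : Nat.card St - Nat.card ↥(St ⊓ M) using Nat.strong_induction_on generalizing M with
  | _ n ih =>
  intro hM hCM hT
  by_cases hStM : St ≤ M
  · exact gk_le S h2 hinc hnm hspi hline ⟨hM, hCM, hStM⟩
  set Gk := gk p A θ t with hGk
  set T := coreOf t M with hTdef
  set P0 := St ⊓ M with hP0
  have hTS : T ≤ St := core_le_bigSt S h2 hinc hnm hspi hline hM.1 hCM
  have hTP : T ≤ P0 := le_inf hTS (Grp.coreOf_le M)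
  have hP0t : IsPGroup t P0 := hStp.to_le inf_le_left
  have hAP0 : A ≤ normalizer (P0 : Set G) :=
    Grp.le_normalizer_inf' (S.normalizer_mem hSt.1) (S.normalizer_mem hM.1)
  have hP0ne : P0 ≠ ⊥ := fun e => hT (le_bot_iff.mp (e ▸ hTP))
  have hlt : P0 < St := lt_of_le_of_ne inf_le_left fun e => hStM (e ▸ inf_le_right)
  have hgrow := Grp.lt_inf_normalizer hStp.isNilpotent hlt
  have hGM : (Gk ⊓ M) ∈ Cfsg.signalizerFamily p A θ := S.sub_mem hM.1 inf_le_right
    (Grp.le_normalizer_inf' (S.normalizer_mem (gk_mem S h2 hinc hnm hspi hline)) (S.normalizer_mem hM.1))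
  have hC0 : Cfsg.signalizerInf A θ ≤ normalizer (P0 : Set G) :=
    Grp.le_normalizer_inf' hSt.2.2.1 (hCM.trans le_normalizer)
  have hZP0 : zCen R ≤ P0 := (zCen_le_core S h2 hinc hnm hspi hline hR hM hCM hT).trans hTP
  set L := layerPart t s M with hLdef
  have hLM : L ≤ M := layerPart_le t s M
  have hLn : M ≤ normalizer (L : Set G) := le_normalizer.trans (normalizer_le_layerPart t s M)
  have hTL : T ≤ L := coreOf_le_layerPart t s M
  have hLt : ∀ {Y : Subgroup G} {y : G}, IsPGroup t Y → y ∈ Y → y ∈ L → y ∈ T := fun hY hyY hyL =>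
    mem_core_of_mem_layer (layerPart_le_layer t M hs.out hyL) hY hyY
  -- the larger maximal member of a subgroup normalized by `N(P0)`
  have hbig : ∀ U : Subgroup G, U ≤ P0 → U ≠ ⊥ → normalizer (P0 : Set G) ≤ normalizer (U : Set G) →
      ∀ l ∈ L, l ∈ normalizer (U : Set G) → ∀ γ ∈ Gk ⊓ M, ⁅γ, l⁆ ∈ T := by
    intro U hUP hUne hUn
    have hUm : U ∈ Cfsg.signalizerFamily p A θ := S.sub_mem hM.1 (hUP.trans inf_le_right) (hAP0.trans hUn)
    obtain ⟨W, hW, -, -, hall⟩ := S.hW U hUm hUne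
    obtain ⟨M1, hM1, hWM1⟩ := S.exists_max hW
    have hmem : ∀ H ∈ Cfsg.signalizerFamily p A θ, H ≤ normalizer (U : Set G) → H ≤ M1 :=
      fun H hH hn => (hall H hH hn).trans hWM1
    have hC1 : Cfsg.signalizerInf A θ ≤ M1 := hmem _ S.C_mem (hC0.trans hUn)
    have hN1 : St ⊓ normalizer (P0 : Set G) ≤ M1 := hmem _
      (S.sub_mem hSt.1 inf_le_left (Grp.le_normalizer_inf' (S.normalizer_mem hSt.1)
        (hAP0.trans le_normalizer))) (inf_le_right.trans hUn)
    have hT1 : coreOf t M1 ≠ ⊥ := core_ne_bot_of_zCen S h2 hinc hnm hspi hline hR hM1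
      ((hZP0.trans hgrow.le).trans hN1)
    have hlt1 : Nat.card St - Nat.card ↥(St ⊓ M1) < n := by
      have h1 : P0 < St ⊓ M1 := hgrow.trans_le (le_inf inf_le_left hN1)
      have h2' : Nat.card P0 < Nat.card ↥(St ⊓ M1) := lt_of_le_of_ne (Subgroup.card_le_of_le h1.le)
        fun e => h1.ne (Subgroup.eq_of_le_of_card_ge h1.le e.ge)
      have h3 : Nat.card ↥(St ⊓ M1) ≤ Nat.card St := Subgroup.card_le_of_le inf_le_left
      omega
    have hG1 := ih _ hlt1 rfl hM1 hC1 hT1
    intro l hl hlU γ hγ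
    have hlM : l ∈ M1 := hmem _ (S.sub_mem hM.1 (inf_le_left.trans hLM)
      (Grp.le_normalizer_inf' ((S.normalizer_mem hM.1).trans (normalizer_le_layerPart t s M))
        ((hAP0.trans hUn).trans le_normalizer))) inf_le_right ⟨hl, hlU⟩
    exact hLt (Grp.coreOf_isPGroup M1) (commutator_mem_of_normalizes' (Hyp.max_normalizes_core S t hlM)
      (hG1 hγ.1)) (commutator_mem_of_normalizes (hLn hγ.2) hl)
  -- the group `L P0`
  set H0 := L ⊔ P0 with hH0
  have hH0M : H0 ≤ M := sup_le hLM inf_le_right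
  have hP0L : P0 ≤ normalizer (L : Set G) := inf_le_right.trans hLn
  have hLPT : L ⊓ P0 = T := le_antisymm (fun x hx => hLt hP0t hx.2 hx.1) (le_inf hTL hTP)
  have hAH0 : A ≤ normalizer (H0 : Set G) :=
    Grp.le_normalizer_sup' ((S.normalizer_mem hM.1).trans (normalizer_le_layerPart t s M)) hAP0
  have hsyl : IsSylowIn t P0 H0 := by
    refine ⟨le_sup_right, hP0t, ?_⟩
    obtain ⟨Y, hY⟩ := Grp.exists_isSylowIn t L
    have hYT : Y ≤ T := fun y hy => hLt hY.2.1 hy (hY.1 hy)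
    have hTrel : ¬ t ∣ T.relIndex L := fun hd => hY.2.2 (hd.trans
      (Dvd.intro_left _ (Subgroup.relIndex_mul_relIndex Y T L hYT hTL)))
    have hc := Grp.card_sup_mul_card_inf (H := P0) (N := L) hP0L
    rw [sup_comm, inf_comm, hLPT, ← hH0, ← Grp.card_mul_relIndex (le_sup_right : P0 ≤ H0),
      ← Grp.card_mul_relIndex hTL, mul_assoc] at hc
    have he := Nat.eq_of_mul_eq_mul_left Nat.card_pos hc
    rw [mul_comm] at he
    rw [Nat.eq_of_mul_eq_mul_left Nat.card_pos he]
    exact hTrel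
  obtain ⟨SP, hSP⟩ := Grp.isSylowIn_iff.mp hsyl
  have hsep : Cfsg.IsPSolvable t ↥H0 :=
    Fus.TransOdd.isPSolvable_of_solvable ht.out _ _ rfl (Grp.isSolvable_of_le hH0M hM.1.1)
  have hO : Cfsg.pPrimeCore t ↥H0 = ⊥ := by
    set K0 := (Cfsg.pPrimeCore t ↥H0).map H0.subtype with hK0
    have hK0n : H0 ≤ normalizer (K0 : Set G) :=
      le_normalizer.trans (Transfer.Offender.normalizer_le_normalizer_core (p := t) H0)
    have hK0le : K0 ≤ H0 := map_subtype_le _
    have hcop : (Nat.card K0).Coprime t := by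
      rw [hK0, Subgroup.card_map_of_injective H0.subtype_injective]
      exact Grp.pPrimeCore_coprime
    have hKT : K0 ⊓ T = ⊥ := by
      refine Grp.inf_eq_bot_of_coprime ?_
      obtain ⟨k, hk⟩ := IsPGroup.iff_card.mp (Grp.coreOf_isPGroup (r := t) M)
      rw [hTdef, hk]
      exact hcop.pow_right k
    have hKc : K0 ≤ centralizer (T : Set G) := le_centralizer_of_inf_bot
      ((hK0le.trans hH0M).trans (Hyp.max_normalizes_core S t)) ((hTL.trans le_sup_left).trans hK0n) hKT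
    have hK0bot : K0 = ⊥ := by
      refine (Subgroup.eq_bot_iff_forall _).mpr fun x hx => ?_
      have hxM := hH0M (hK0le hx)
      have hc1 : x ∈ centralizer ((coreOf s M : Subgroup G) : Set G) := by
        rw [single S h2 hinc hnm hspi hline hM hCM hT, mem_centralizer_iff]
        intro y hy
        rw [SetLike.mem_coe, mem_bot] at hy
        simp [hy]
      obtain ⟨a, ha, b, hb, e⟩ := fitting_decompose S h2 hM.1 hxM
        (S.centralizer_cores_le hM.1 hxM (centralizes_cores S h2 hM.1 hc1 (hKc hx)))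
      rw [single S h2 hinc hnm hspi hline hM hCM hT, mem_bot] at ha
      rw [ha, one_mul] at e
      exact (Subgroup.eq_bot_iff_forall _).mp hKT x ⟨hx, e ▸ hb⟩
    exact (Subgroup.map_eq_bot_iff_of_injective _ H0.subtype_injective).mp hK0bot
  -- the group normalized by `H0`
  set X := (Gk ⊓ M) ⊔ T with hX
  have hXM : X ≤ M := sup_le inf_le_right (Grp.coreOf_le M)
  have hXt : IsPGroup t X := ((gk_pGroup S h2 hinc hnm hspi hline).to_le inf_le_left).to_sup_of_normal_right'
    (Grp.coreOf_isPGroup M) (inf_le_right.trans (Hyp.max_normalizes_core S t))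
  have hP0X : P0 ≤ normalizer (X : Set G) := Grp.le_normalizer_sup'
    (Grp.le_normalizer_inf' (inf_le_left.trans (bigSt_le_normalizer_gk S h2 hinc hnm hspi hline))
      (inf_le_right.trans le_normalizer)) (inf_le_right.trans (Hyp.max_normalizes_core S t))
  have hXl : ∀ l ∈ L, (∀ γ ∈ Gk ⊓ M, ⁅γ, l⁆ ∈ T) → l ∈ normalizer (X : Set G) := by
    intro l hl h
    refine mem_normalizer_of_conj fun x hx => ?_
    suffices hle : X ≤ X.comap (MulAut.conj l).toMonoidHom from hle hx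
    refine sup_le (fun γ hγ => ?_) (fun y hy => mem_sup_right
      (Grp.mem_conj_normalizer (Hyp.max_normalizes_core S t (hLM hl)) hy))
    show l * γ * l⁻¹ ∈ X
    rw [show l * γ * l⁻¹ = ⁅γ, l⁆⁻¹ * γ by rw [commutatorElement_def]; group]
    exact mul_mem (mem_sup_right (inv_mem (h γ hγ))) (mem_sup_left hγ)
  have hdec : ∀ g ∈ H0, ∃ l ∈ L, ∃ π ∈ P0, g = l * π := fun g hg => by
    rw [hH0, ← SetLike.mem_coe, Subgroup.coe_mul_of_right_le_normalizer_left L P0 hP0L] at hg
    obtain ⟨l, hl, π, hπ, e⟩ := hg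
    exact ⟨l, hl, π, hπ, e.symm⟩
  have hJne : Cfsg.thompsonSubgroupOf t P0 ≠ ⊥ := fun e =>
    omega_zCen_ne_bot hP0t hP0ne (le_bot_iff.mp ((omega_le_thompsonEl t P0).trans e.le))
  have htop : (normalizer (X : Set G)).subgroupOf H0 = ⊤ := by
    refine Transfer.Offender.eq_top_of_fixed (q := p) hsep hO (Grp.elemAb_isPGroup S.hA)
      (fun hd => hM.1.2.1 (hd.trans (card_dvd_of_le hH0M)))
      ((normalizerMonoidHom H0).comp (Subgroup.inclusion hAH0)) SP ?_ ?_ ?_
    · intro g hg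
      obtain ⟨l, hl, π, hπ, e⟩ := hdec _ g.2
      have hgJ : (g : G) ∈ normalizer ((Cfsg.thompsonSubgroupOf t P0 : Subgroup G) : Set G) := by
        have h1 := Subgroup.le_normalizer_map H0.subtype (Subgroup.mem_map_of_mem H0.subtype hg)
        rwa [Invol.thompsonEl_map H0.subtype fun x _ hx => Subtype.ext hx, hSP] at h1
      rw [mem_subgroupOf, e]
      refine mul_mem (hXl l hl (hbig _ (Invol.thompsonEl_le P0) hJne (normalizer_le_thompsonEl t P0) l hl ?_))
        (hP0X hπ)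
      rw [show l = (g : G) * π⁻¹ by rw [e, mul_inv_cancel_right]]
      exact mul_mem hgJ (inv_mem (normalizer_le_thompsonEl t P0 (le_normalizer hπ)))
    · intro g hg
      obtain ⟨l, hl, π, hπ, e⟩ := hdec _ g.2
      set Z1 := Cfsg.omegaOne t (zCen P0) with hZ1
      have hgc : (g : G) ∈ centralizer (Z1 : Set G) := by
        refine le_centralizer_iff.mp ((closure_le _).mpr fun x hx => ?_) (mem_zpowers (g : G))
        rw [SetLike.mem_coe, ← Grp.centralizer_singleton_eq_zpowers, mem_centralizer_iff]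
        intro w hw
        rw [Set.mem_singleton_iff] at hw
        subst hw
        have hxH : x ∈ H0 := (le_sup_right : P0 ≤ H0) hx.1.1
        have hxS : (⟨x, hxH⟩ : H0) ∈ Cfsg.omegaOne t
            ((SP : Subgroup H0) ⊓ centralizer ((SP : Subgroup H0) : Set H0)) := by
          refine subset_closure ⟨⟨?_, mem_centralizer_iff.mpr fun y hy => ?_⟩, Subtype.ext hx.2⟩
          · obtain ⟨y, hy, hye⟩ := hSP.ge hx.1.1
            exact (show y = ⟨x, hxH⟩ from Subtype.ext hye) ▸ hy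
          · exact Subtype.ext (zCen_comm hx.1 (hSP.le ⟨y, hy, rfl⟩)).symm
        exact congrArg Subtype.val (mem_centralizer_iff.mp hg _ hxS).symm
      have hπc : π ∈ centralizer (Z1 : Set G) := by
        refine le_centralizer_iff.mp ((closure_le _).mpr fun x hx => ?_) hπ
        rw [SetLike.mem_coe, mem_centralizer_iff]
        exact fun y hy => (zCen_comm hx.1 hy).symm
      rw [mem_subgroupOf, e]
      refine mul_mem (hXl l hl (hbig Z1 (((closure_le _).mpr fun x hx => hx.1).trans (zCen_le P0))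
        (omega_zCen_ne_bot hP0t hP0ne) ((normalizer_le_zCen P0).trans (normalizer_le_omegaOne t _)) l hl ?_))
        (hP0X hπ)
      rw [show l = (g : G) * π⁻¹ by rw [e, mul_inv_cancel_right]]
      exact centralizer_le_normalizer _ (mul_mem hgc (inv_mem hπc))
    · intro g hg
      have hgC : (g : G) ∈ Cfsg.signalizerInf A θ := S.member_A_le_C hM.1 ⟨hH0M g.2,
        mem_centralizer_iff.mpr fun a ha =>
          mul_inv_eq_iff_eq_mul.mp (congrArg Subtype.val (hg ⟨a, ha⟩))⟩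
      rw [mem_subgroupOf]
      exact Grp.le_normalizer_sup'
        (Grp.le_normalizer_inf' (C_le_normalizer_gk S h2 hinc hnm hspi hline) (hCM.trans le_normalizer))
        (hCM.trans (Hyp.max_normalizes_core S t)) hgC
  have hLX : L ≤ normalizer (X : Set G) := fun x hx => by
    have h1 : (⟨x, (le_sup_left : L ≤ H0) hx⟩ : H0) ∈ (normalizer (X : Set G)).subgroupOf H0 := by
      rw [htop]; exact mem_top _
    exact h1
  -- `Gk ⊓ M` acts trivially on the layer
  have hGT : Gk ⊓ M ≤ T := by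
    have hΓn : Gk ⊓ M ≤ normalizer (M : Set G) := inf_le_right.trans le_normalizer
    refine le_core_of_layer hM.1.1 inf_le_right ((gk_pGroup S h2 hinc hnm hspi hline).to_le inf_le_left)
      (layerPart_le_commSet_of_primes hΓn fun r hr hrt => ?_)
    haveI := Fact.mk hr
    by_cases hrs : r = s
    · subst hrs
      exact fun x hx => ⟨hLM hx, fun γ hγ => hLt hXt
        (commutator_mem_of_normalizes' (hLX hx) (mem_sup_left hγ))
        (commutator_mem_of_normalizes (hLn hγ.2) hx)⟩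
    · intro x hx
      refine coreOf_le_commSet hΓn (mem_core_of_mem_layer (layerPart_le_layer t M hr hx)
        (isPGroup_of_isPiNum S fun q hq hd => ?_) hx)
      rcases layerPart_isPiNum (s := t) (r := r) M q hq hd with h | h
      · exact h
      rw [Set.mem_singleton_iff] at h
      rcases prime_cases S h2 hM.1 hq (hd.trans (card_dvd_of_le (layerPart_le t r M))) with h' | h'
      · exact absurd (h.symm.trans h') hrs
      · exact h'
  -- normalizers grow
  have hTn : T ≤ normalizer (Gk : Set G) := hTS.trans (bigSt_le_normalizer_gk S h2 hinc hnm hspi hline)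
  have hpg : IsPGroup t (T ⊔ Gk : Subgroup G) :=
    hStp.to_le (sup_le hTS (gk_le_bigSt S h2 hinc hnm hspi hline))
  suffices h : ¬ T < T ⊔ Gk from le_sup_right.trans (le_sup_left.lt_or_eq.resolve_left h).ge
  intro hlt2
  refine (Grp.lt_inf_normalizer hpg.isNilpotent hlt2).not_ge ?_
  rintro x ⟨hx, hxN⟩
  change x ∈ T ⊔ Gk at hx
  rw [← SetLike.mem_coe, Subgroup.coe_mul_of_left_le_normalizer_right _ _ hTn] at hx
  obtain ⟨d, hd, g, hg, rfl⟩ := hx
  refine mul_mem hd (hGT ⟨hg, ?_⟩)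
  have hgN : g ∈ normalizer (T : Set G) := by
    simpa using mul_mem (inv_mem (le_normalizer hd)) hxN
  exact Hyp.le_max_of_core S hM hT (S.sub_mem (gk_mem S h2 hinc hnm hspi hline) inf_le_left
    (Grp.le_normalizer_inf' (S.normalizer_mem (gk_mem S h2 hinc hnm hspi hline))
      ((S.normalizer_mem (S.coreOf_mem hM.1 t)).trans le_normalizer))) inf_le_right ⟨hg, hgN⟩

/-- The points without `t`-core do not span. -/
theorem not_span : ¬ A ≤ closure {d | d ∈ A ∧ d ≠ 1 ∧ DPt p A θ t d} := by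
  intro hspan
  obtain ⟨d₀, hd₀A, hd₀1, hd₀⟩ : {d | d ∈ A ∧ d ≠ 1 ∧ DPt p A θ t d}.Nonempty := by
    by_contra h
    rw [Set.not_nonempty_iff_eq_empty] at h
    rw [h, Subgroup.closure_empty] at hspan
    exact S.A_ne (le_bot_iff.mp hspan)
  obtain ⟨Q, hQ⟩ := S.exists_maxQ (q := s)
  set Γs := zCen Q with hΓsdef
  have hΓm : Γs ∈ Cfsg.signalizerFamily p A θ :=
    S.sub_mem hQ.1 (zCen_le Q) ((S.normalizer_mem hQ.1).trans (normalizer_le_zCen Q))
  have hΓs : IsPGroup s Γs := hQ.2.1.to_le (zCen_le Q)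
  have hΓne : Γs ≠ ⊥ := by
    obtain ⟨M, hM, hle⟩ := S.exists_max (S.theta_mem hd₀A hd₀1)
    exact zCen_ne_bot hQ.2.1 fun e => dPt_core S h2 hinc hd₀ hM hle
      (le_bot_iff.mp (e ▸ S.coreOf_le_maxQ hM.1 ((S.C_le_theta hd₀A hd₀1).trans hle) hQ))
  have hΓC : Γs ≤ Cfsg.signalizerInf A θ := by
    refine S.le_C_of_span hΓm hspan fun d hd => ?_
    obtain ⟨hdA, hd1, hD⟩ := hd
    obtain ⟨M, hM, hdM⟩ := S.exists_max (S.theta_mem hdA hd1)
    have hMs := dPt_core S h2 hinc hD hM hdM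
    have hUQ := S.coreOf_le_maxQ hM.1 ((S.C_le_theta hdA hd1).trans hdM) hQ (q := s)
    set U := coreOf s M
    have hUm := S.coreOf_mem hM.1 s
    refine le_trans (b := zCen U) (fun x hx => ⟨mem_core_of_two S h2.symm hM.1 hΓs hx
      (zCen_le_max S h2.symm hM hMs hQ hUQ hx) ?_ ?_, ?_⟩) ?_
    · rw [hD M hM hdM, mem_centralizer_iff]
      intro y hy
      rw [SetLike.mem_coe, mem_bot] at hy
      simp [hy]
    · rw [mem_centralizer_iff]
      exact fun y hy => (zCen_comm hx (hUQ hy)).symm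
    · exact mem_centralizer_iff.mpr fun y hy => (zCen_comm hx (hUQ hy)).symm
    set Z := zCen U
    have hZm : Z ∈ Cfsg.signalizerFamily p A θ :=
      S.sub_mem hUm (zCen_le U) ((S.normalizer_mem hUm).trans (normalizer_le_zCen U))
    refine S.member_le_of_lines hZm fun k hk => ?_
    obtain ⟨e, he, he1, hed⟩ := hline k hk
    obtain ⟨L, hL, hCL, heL, hLT⟩ := good_pt S h2 hinc hnm hspi hline (hk.1 he) he1 hed
    set Zk := Z ⊓ centralizer (k : Set G)
    have hdZk : zpowers d ≤ normalizer (Zk : Set G) := zpowers_le.mpr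
      (Grp.le_normalizer_inf' (S.normalizer_mem hZm) (S.le_normalizer_centralizer hk.1) hdA)
    set Y := ⁅Zk, zpowers d⁆
    have hYZ : Y ≤ Zk := Grp.commutator_le_left_of_le_normalizer hdZk
    have hYL : Y ≤ L := hYZ.trans (((S.member_line_le_K hZm hk).trans (S.K_le_theta he he1)).trans heL)
    have hYs : IsPGroup s Y := (Grp.coreOf_isPGroup M).to_le (hYZ.trans (inf_le_left.trans (zCen_le U)))
    suffices hY : Y = ⊥ by
      rw [Grp.centralizer_singleton_eq_zpowers]
      exact commutator_eq_bot_iff_le_centralizer.mp hY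
    rw [eq_bot_iff, ← single S h2 hinc hnm hspi hline hL hCL hLT]
    refine le_core_of_fpf (b := d) hL.1.1 hL.1.2.1 hYL hYs (S.mem_normalizer_member hL.1 hdA) (S.pow_eq hdA)
      (Grp.right_le_normalizer_commutator _ _ (mem_zpowers d)) ?_ ?_
    · have : IsMulCommutative Zk := ⟨⟨fun x y => Subtype.ext (zCen_comm x.2.1 ((zCen_le U) y.2.1))⟩⟩
      rw [Grp.centralizer_singleton_eq_zpowers, eq_bot_iff, ← Grp.abelian_commutator_inf_fixed
        (zpowers d) Zk hdZk (coprime_zpowers (S.pow_eq hdA)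
          fun h => hM.1.2.1 (h.trans (card_dvd_of_le (inf_le_left.trans ((zCen_le U).trans (Grp.coreOf_le M))))))]
      exact le_inf (le_inf (inf_le_left.trans hYZ) inf_le_right) inf_le_left
    · rintro x ⟨hxL, hxd⟩
      exact ⟨layer_le s _ hxL, fun γ hγ => commutator_mem_core_of_invariant (Grp.coreOf_isPGroup M)
        (zCen_le U (hYZ hγ).1) (hYL hγ) hxL
        (Hyp.max_normalizes_core S s (hdM (S.mem_inf_point hL.1 hdA hd1 ⟨layer_le s _ hxL, hxd⟩)))⟩
  set Gk := gk p A θ t with hGk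
  have hGm := gk_mem S h2 hinc hnm hspi hline
  have hGp := gk_pGroup S h2 hinc hnm hspi hline
  have hGne := gk_ne_bot S h2 hinc hnm hspi hline hR
  have hGcore := fun (M : Subgroup G) (hM : IsMax p A θ M) (hC : Cfsg.signalizerInf A θ ≤ M)
      (hT : coreOf t M ≠ ⊥) => gk_le_core S h2 hinc hnm hspi hline hR hM hC hT
  -- no fixed points of the centre
  have hfix : Gk ⊓ centralizer (Γs : Set G) = ⊥ := by
    obtain ⟨W, hW, -, -, hall⟩ := S.hW Γs hΓm hΓne
    obtain ⟨M', hM', hWM'⟩ := S.exists_max hW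
    have hQM : Q ≤ M' := (hall Q hQ.1 (le_normalizer.trans (normalizer_le_zCen Q))).trans hWM'
    have hT' : coreOf t M' = ⊥ := by_contra fun h => hinc (trick S h2 hM' hQ hQM h)
    have hm : Gk ⊓ centralizer (Γs : Set G) ∈ Cfsg.signalizerFamily p A θ := by
      refine S.sub_mem hGm inf_le_left (Grp.le_normalizer_inf' (S.normalizer_mem hGm)
        (Grp.invariant_iff.mp fun g hg x hx => ?_))
      rw [mem_centralizer_iff] at hx ⊢
      intro y hy
      have hgn := S.normalizer_mem hΓm hg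
      calc y * (g * x * g⁻¹) = g * ((g⁻¹ * y * g) * x) * g⁻¹ := by group
        _ = g * (x * (g⁻¹ * y * g)) * g⁻¹ := by rw [hx _ (Grp.mem_conj_normalizer' hgn hy)]
        _ = _ := by group
    exact inf_eq_bot S h2 hinc hnm hspi hline (hGp.to_le inf_le_left)
      (fun L hL hCL hLT => inf_le_left.trans (hGcore L hL hCL hLT)) hM'
      ((hall _ hm (inf_le_right.trans (centralizer_le_normalizer _))).trans hWM') hT'
  have hΓG : Γs ≤ normalizer (Gk : Set G) := hΓC.trans (C_le_normalizer_gk S h2 hinc hnm hspi hline)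
  have hGG : Gk ≤ ⁅Gk, Γs⁆ := by
    have := Grp.commutator_sup_fixed Γs Gk hΓG (IsPGroup.coprime_card_of_ne s t h2.2.2.1 _ _ hΓs hGp)
      (Or.inr (have := hGp.isNilpotent; inferInstance))
    rw [hfix, sup_bot_eq] at this
    exact this.ge
  have hQN : Q ≤ normalizer (Gk : Set G) := by
    refine S.member_le_of_lines hQ.1 fun n hn q ⟨hq, hqn⟩ => ?_
    obtain ⟨b, hb, hb1, hbd⟩ := hline n hn
    obtain ⟨M, hM, hCM, hbM, hT⟩ := good_pt S h2 hinc hnm hspi hline (hn.1 hb) hb1 hbd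
    have hqM : q ∈ M := hbM (S.mem_inf_point hQ.1 (hn.1 hb) hb1
      ⟨hq, centralizer_le (Set.singleton_subset_iff.mpr hb) hqn⟩)
    have hqΓ : q ∈ normalizer (Γs : Set G) := normalizer_le_zCen Q (le_normalizer hq)
    have hG' : MulAut.conj q • Gk ≤ bigS p A θ {t} := by
      refine le_trans ?_ (core_le_bigSt S h2 hinc hnm hspi hline hM.1 hCM)
      rw [← Grp.mem_normalizer_iff_smul.mp (Hyp.max_normalizes_core S t hqM)]
      exact Subgroup.pointwise_smul_le_pointwise_smul_iff.mpr (hGcore M hM hCM hT)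
    have hΓG' : Γs ≤ normalizer ((MulAut.conj q • Gk : Subgroup G) : Set G) := by
      refine Grp.invariant_iff.mp fun z hz x hx => ?_
      rw [Grp.mem_smul_conj] at hx ⊢
      convert Grp.mem_conj_normalizer (hΓG (Grp.mem_conj_normalizer' hqΓ hz)) hx using 1
      group
    have he : MulAut.conj q • Gk ≤ ⁅MulAut.conj q • Gk, Γs⁆ := by
      calc MulAut.conj q • Gk ≤ MulAut.conj q • ⁅Gk, Γs⁆ :=
            Subgroup.pointwise_smul_le_pointwise_smul_iff.mpr hGG
        _ = ⁅MulAut.conj q • Gk, Γs⁆ := by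
            rw [← Grp.map_conj_eq_smul, Subgroup.map_commutator, Grp.map_conj_eq_smul, Grp.map_conj_eq_smul,
              Grp.mem_normalizer_iff_smul.mp hqΓ]
    refine Grp.mem_normalizer_iff_smul.mpr (Subgroup.eq_of_le_of_card_ge (le_iInf fun H => ?_)
      (Grp.card_conj_smul _ _).ge)
    exact he.trans (zeta S h2.symm hQ hΓC H.2.1.1 H.2.2.1 (hG'.trans H.2.2.2)
      (hGp.map (MulAut.conj q).toMonoidHom) hΓG')
  obtain ⟨W, hW, hGW, -, hall⟩ := S.hW Gk hGm hGne
  obtain ⟨M'', hM'', hWM''⟩ := S.exists_max hW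
  have hT'' : coreOf t M'' ≠ ⊥ := fun h => hGne
    (inf_eq_bot S h2 hinc hnm hspi hline hGp hGcore hM'' (hGW.trans hWM'') h)
  exact hinc (trick S h2 hM'' hQ ((hall Q hQ.1 hQN).trans hWM'') hT'')

end Pure

theorem pure_false : False := by
  obtain ⟨R, hR⟩ := S.exists_maxQ (q := t)
  obtain ⟨l, hl, hsub⟩ := S.exists_line_of_cyclic (T := {d | d ∈ A ∧ d ≠ 1 ∧ DPt p A θ t d})
    (fun d hd => hd.1) (Pure.not_span S h2 hinc hnm hspi hline hR)
  refine hinc (complete_of_criterion S (gk p A θ t) (fSet p A θ t) (Pure.gk_mem S h2 hinc hnm hspi hline)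
    (Pure.gk_pGroup S h2 hinc hnm hspi hline) (Pure.gk_ne_bot S h2 hinc hnm hspi hline hR)
    (fun H hH => hH.1.1) (fun H hH => Pure.gk_le S h2 hinc hnm hspi hline hH)
    (fun X hX => le_iInf fun H => hX H H.2) ?_ ?_ hline hl (fun d hd hd1 h => hsub ⟨hd, hd1, h⟩) ?_)
  · intro b hb hb1 hbd
    obtain ⟨M, hM, hCM, hbM, hT⟩ := Pure.good_pt S h2 hinc hnm hspi hline hb hb1 hbd
    exact ⟨M, hM, hbM, Pure.gk_le_core S h2 hinc hnm hspi hline hR hM hCM hT⟩
  · intro d hd hd1 hD M hM hle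
    exact Pure.inf_eq_bot S h2 hinc hnm hspi hline
      ((Pure.gk_pGroup S h2 hinc hnm hspi hline).to_le inf_le_left)
      (fun L hL hCL hLT => inf_le_left.trans (Pure.gk_le_core S h2 hinc hnm hspi hline hR hL hCL hLT))
      hM inf_le_right (hD M hM hle)
  · intro n hn f₁ hf₁ f₂ _ hf₁1 _ hg₁ _ g _ hconj H hH
    obtain ⟨M, hM, hCM, hbM, hT⟩ := Pure.good_pt S h2 hinc hnm hspi hline (hn.1 hf₁) hf₁1 hg₁
    exact (hconj f₁ hf₁ hf₁1 M hM hbM (Pure.gk_le_core S h2 hinc hnm hspi hline hR hM hCM hT)).trans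
      ((Pure.core_le_bigSt S h2 hinc hnm hspi hline hM.1 hCM).trans hH.2.2)

end Cfsg.Agent.Transfer.SFT
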