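import Mathlib
import Cfsg.Agent.Lib.Transfer.SFT.TwoPure

/-!
The solvable signalizer functor theorem.
-/

set_option autoImplicit false
set_option linter.unusedSectionVars false

namespace Cfsg.Agent.Transfer.SFT

open Subgroup
open Cfsg.Agent.Grp (coreOf IsMaxQMember)
open scoped Pointwise

universe u

section Core

variable {G : Type u} [Group G] [Finite G] {p : ℕ} [hp : Fact p.Prime] {A : Subgroup G}
  {θ : G → Subgroup G} (S : Hyp p A θ)

include S

/-- One prime only. -/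
theorem complete_of_one {q : ℕ} [hq : Fact q.Prime] (h : ∀ r, IsPi A θ r → r = q) : Complete p A θ := by
  obtain ⟨Q, hQ⟩ := S.exists_maxQ (q := q)
  refine ⟨Q, hQ.1, fun a ha ha1 => S.le_maxQ (S.theta_mem ha ha1) ?_ (S.C_le_normalizer_point ha ha1) hQ⟩
  exact IsPGroup.of_card (Nat.eq_prime_pow_of_unique_prime_dvd Nat.card_pos.ne'
    fun {d} hd hdvd => h d ⟨hd, a, ha, ha1, hdvd⟩)

theorem two_false (hinc : ¬ Complete p A θ) {s t : ℕ} [hs : Fact s.Prime] [ht : Fact t.Prime]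
    (h2 : IsTwo A θ s t) (hspi : IsPi A θ s) (htpi : IsPi A θ t) : False := by
  by_cases hm : ∃ M, Multi p A θ s t M
  · obtain ⟨M, hM⟩ := hm
    by_cases ht2 : t = 2
    · exact multi_false S h2.symm hinc hM.symm fun h => h2.2.2.1 (h.trans ht2.symm)
    · exact multi_false S h2 hinc hM ht2
  push Not at hm
  by_cases hline : ∀ n, IsLine p A n → ∃ b ∈ n, b ≠ 1 ∧ ¬ DPt p A θ t b
  · exact pure_false S h2 hinc hm hspi hline
  push Not at hline
  obtain ⟨n, hn, hd⟩ := hline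
  refine pure_false S h2.symm hinc (fun M hM => hm M hM.symm) htpi fun m hm' => ?_
  obtain ⟨b, ⟨hbn, hbm⟩, hb1⟩ := S.line_meet hn hm'
  refine ⟨b, hbm, hb1, fun hDs => ?_⟩
  obtain ⟨M, hM, hle⟩ := S.exists_max (S.theta_mem (hn.1 hbn) hb1)
  rcases exists_core S h2 hinc hM with h | h
  · exact h (hDs M hM hle)
  · exact h (hd b hbn hb1 M hM hle)

theorem hyp_complete : Complete p A θ := by
  by_contra hinc
  by_cases h3 : HasThree A θ
  · exact hinc (complete_of_three S h3)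
  unfold HasThree at h3
  push Not at h3
  obtain ⟨s, r, h⟩ := h3
  have h' : ∀ q, IsPi A θ q → q = s ∨ q = r := fun q hq => or_iff_not_imp_left.mpr (h q hq)
  by_cases hone : ∃ q, q.Prime ∧ ∀ x, IsPi A θ x → x = q
  · obtain ⟨q, hq, hall⟩ := hone
    haveI := Fact.mk hq
    exact hinc (complete_of_one S hall)
  push Not at hone
  obtain ⟨x, hx, -⟩ := hone 2 Nat.prime_two
  obtain ⟨y, hy, hyx⟩ := hone x hx.1
  have hall : ∀ q, IsPi A θ q → q = x ∨ q = y := fun q hq => by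
    rcases h' x hx with hxs | hxs <;> rcases h' y hy with hys | hys <;> rcases h' q hq with hqs | hqs <;>
      subst_vars <;> first | exact Or.inl rfl | exact Or.inr rfl | exact absurd rfl hyx
  haveI := Fact.mk hx.1
  haveI := Fact.mk hy.1
  exact two_false S hinc (s := x) (t := y) ⟨hx.1, hy.1, Ne.symm hyx, hall⟩ hx hy

end Core

/-- Completeness for an elementary abelian group of order `p ^ 3`. -/
theorem complete_of_setup {G : Type u} [Group G] [Finite G] {p : ℕ} [Fact p.Prime] {A : Subgroup G}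
    {θ : G → Subgroup G} (S : Setup p A θ) : Complete p A θ :=
  complete_of_hyp (fun G _ _ A θ S => hyp_complete S) G A θ S

section General

variable {G : Type u} [Group G] [Finite G] {p : ℕ} [hp : Fact p.Prime] {A : Subgroup G}
  {θ : G → Subgroup G}

theorem exists_rank_three (hA : Cfsg.IsElementaryAbelian p A) (h3 : p ^ 3 ≤ Nat.card A) {a : G}
    (ha : a ∈ A) : ∃ A₁ : Subgroup G, A₁ ≤ A ∧ a ∈ A₁ ∧ Nat.card A₁ = p ^ 3 := by
  have hAp : IsPGroup p A := Grp.elemAb_isPGroup hA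
  obtain ⟨k, hk⟩ := IsPGroup.iff_card.mp hAp
  have hk3 : 3 ≤ k := (Nat.pow_le_pow_iff_right hp.out.one_lt).mp (hk ▸ h3)
  have hcard : ∃ j ≤ 1, Nat.card (zpowers (⟨a, ha⟩ : A)) = p ^ j := by
    rw [Nat.card_zpowers]
    exact (Nat.dvd_prime_pow hp.out).mp (by
      rw [pow_one]
      exact orderOf_dvd_of_pow_eq_one (Subtype.ext (by rw [SubmonoidClass.coe_pow]; exact hA.2 a ha)))
  obtain ⟨j, hj, hj'⟩ := hcard
  obtain ⟨K, hK, hle⟩ := Sylow.exists_subgroup_card_pow_prime_le p (m := 3)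
    (hk ▸ pow_dvd_pow p hk3) (zpowers (⟨a, ha⟩ : A)) hj' (hj.trans (by norm_num))
  exact ⟨K.map A.subtype, map_subtype_le K, ⟨_, hle (mem_zpowers _), rfl⟩, by
    rw [Subgroup.card_map_of_injective A.subtype_injective, hK]⟩

theorem exists_member_rank_three (hA : Cfsg.IsElementaryAbelian p A)
    (hθ : Cfsg.IsSolvableSignalizerFunctor p A θ) {A₁ : Subgroup G} (hle : A₁ ≤ A)
    (hc : Nat.card A₁ = p ^ 3) : ∃ X ∈ Cfsg.signalizerFamily p A₁ θ, ∀ b ∈ A, b ≠ 1 → θ b ≤ X := by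
  have S : Setup p A₁ θ :=
    { hA := ⟨⟨⟨fun x y => Subtype.ext (Grp.elemAb_comm hA _ (hle x.2) _ (hle y.2))⟩⟩,
        fun a ha => hA.2 a (hle ha)⟩
      card := hc
      hθ := ⟨⟨fun a ha => hθ.1.1 a (hle ha), fun a ha => hθ.1.2.1 a (hle ha),
        fun a ha ha1 b hb => hθ.1.2.2.1 a (hle ha) ha1 b (hle hb),
        fun a ha ha1 b hb => hθ.1.2.2.2 a (hle ha) ha1 b (hle hb)⟩, fun a ha => hθ.2 a (hle ha)⟩ }
  obtain ⟨X, hX, hall⟩ := complete_of_setup S
  refine ⟨X, hX, fun b hb hb1 => ?_⟩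
  have hbm : θ b ∈ Cfsg.signalizerFamily p A₁ θ :=
    ⟨hθ.2 b hb hb1, hθ.1.2.1 b hb hb1, fun c hc x hx => hθ.1.2.2.1 b hb hb1 c (hle hc) x hx,
      fun c hc hc1 => hθ.1.2.2.2 b hb hb1 c (hle hc) hc1⟩
  obtain ⟨n, hn⟩ := S.exists_line
  exact S.member_le_of_line hbm hn fun c hc hc1 =>
    (S.mem_inf_point hbm (hn.1 hc) hc1).trans (hall c (hn.1 hc) hc1)

/-- The solvable signalizer functor theorem. -/
theorem closure_complete (hA : Cfsg.IsElementaryAbelian p A) (h3 : p ^ 3 ≤ Nat.card A)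
    (hθ : Cfsg.IsSolvableSignalizerFunctor p A θ) :
    Group.IsSolvable ↥(Cfsg.signalizerClosure A θ) ∧ ¬ p ∣ Nat.card ↥(Cfsg.signalizerClosure A θ) ∧
      (A ≤ normalizer ((Cfsg.signalizerClosure A θ : Subgroup G) : Set G)) ∧
      ∀ a ∈ A, a ≠ 1 → Cfsg.signalizerClosure A θ ⊓ centralizer ({a} : Set G) = θ a := by
  obtain ⟨A₀, hA₀, -, hc₀⟩ := exists_rank_three hA h3 (one_mem A)
  obtain ⟨X, hX, hall⟩ := exists_member_rank_three hA hθ hA₀ hc₀
  have hle : Cfsg.signalizerClosure A θ ≤ X := iSup_le fun a => hall a a.2.1 a.2.2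
  refine ⟨Grp.isSolvable_of_le hle hX.1, fun h => hX.2.1 (h.trans (card_dvd_of_le hle)),
    le_normalizer_iSup fun a => Grp.invariant_iff.mp (hθ.1.2.2.1 a a.2.1 a.2.2), fun a ha ha1 => ?_⟩
  obtain ⟨A₁, hA₁, haA₁, hc₁⟩ := exists_rank_three hA h3 ha
  obtain ⟨X₁, hX₁, hall₁⟩ := exists_member_rank_three hA hθ hA₁ hc₁
  have hle₁ : Cfsg.signalizerClosure A θ ≤ X₁ := iSup_le fun b => hall₁ b b.2.1 b.2.2
  exact le_antisymm ((inf_le_inf_right _ hle₁).trans (hX₁.2.2.2 a haA₁ ha1))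
    (le_inf (le_iSup (fun b : {b : G // b ∈ A ∧ b ≠ 1} => θ b) ⟨a, ha, ha1⟩) (hθ.1.1 a ha ha1))

/-- A group with solvable centralizers of a rank three group of operators is solvable. -/
theorem solvable_of_centralizers (hA : Cfsg.IsElementaryAbelian p A) (h3 : p ^ 3 ≤ Nat.card A)
    {K : Subgroup G} (hAK : A ≤ normalizer (K : Set G)) (hK : ¬ p ∣ Nat.card K)
    (h : ∀ a ∈ A, a ≠ 1 → Group.IsSolvable ↥(K ⊓ centralizer ({a} : Set G))) :
    Group.IsSolvable K := by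
  have hinv : ∀ a ∈ A, A ≤ normalizer ((K ⊓ centralizer ({a} : Set G) : Subgroup G) : Set G) := by
    intro a ha
    refine Grp.le_normalizer_inf' hAK ?_
    rw [Grp.centralizer_singleton_eq_zpowers]
    exact Grp.le_normalizer_centralizer_of_commute fun x hx y hy =>
      Grp.elemAb_comm hA x hx y (zpowers_le.mpr ha hy)
  have hθ : Cfsg.IsSolvableSignalizerFunctor p A (fun a => K ⊓ centralizer ({a} : Set G)) :=
    ⟨⟨fun a _ _ => inf_le_right, fun a _ _ hd => hK (hd.trans (card_dvd_of_le inf_le_left)),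
      fun a ha _ => Grp.invariant_iff.mpr (hinv a ha),
      fun a _ _ b _ _ => le_inf (inf_le_left.trans inf_le_left) inf_le_right⟩, h⟩
  refine Grp.isSolvable_of_le ?_ (closure_complete hA h3 hθ).1
  have hA1 : A ≠ ⊥ := Grp.ne_bot_of_card (by norm_num) h3
  refine Grp.le_of_hyperplanes hA hA1 K hK hAK fun D hD hi => ?_
  obtain ⟨a, ha, ha1⟩ : ∃ a ∈ D, a ≠ 1 := by
    by_contra h0
    push Not at h0
    rw [(Subgroup.eq_bot_iff_forall D).mpr h0, Subgroup.relIndex_bot_left] at hi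
    rw [hi] at h3
    exact absurd h3 (not_le.mpr (lt_self_pow₀ hp.out.one_lt (by norm_num)))
  exact le_trans (inf_le_inf_left K (centralizer_le (Set.singleton_subset_iff.mpr ha)))
    (le_iSup (fun b : {b : G // b ∈ A ∧ b ≠ 1} => K ⊓ centralizer ({(b : G)} : Set G)) ⟨a, hD ha, ha1⟩)

end General

end Cfsg.Agent.Transfer.SFT
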