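import Mathlib
import Cfsg.Agent.Lib.Transfer.SFT.Main

/-!
An equivariant solvable signalizer functor on a group with connected rank two commuting graph.
-/

set_option autoImplicit false
set_option linter.unusedSectionVars false

namespace Cfsg.Agent.Transfer.SFT

open Subgroup
open scoped Pointwise

variable {G : Type*} [Group G] [Finite G] {p : ℕ} [hp : Fact p.Prime]

/-- `¬ m_p(X) ≤ 2` inside the ambient group. -/
theorem not_prankLE_two {X : Subgroup G} :
    ¬ Cfsg.PRankLE p 2 ↥X ↔ ∃ B ≤ X, Cfsg.IsElementaryAbelian p B ∧ p ^ 3 ≤ Nat.card B := by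
  constructor
  · intro h
    unfold Cfsg.PRankLE at h
    push Not at h
    obtain ⟨B, hBc, hBp, hB⟩ := h
    have hel : Cfsg.IsElementaryAbelian p (B.map X.subtype) := Transfer.Thompson.isElementaryAbelian_map _ ⟨hBc, hBp⟩
    refine ⟨_, map_subtype_le B, hel, ?_⟩
    rw [← Subgroup.card_map_of_injective X.subtype_injective (K := B)] at hB
    obtain ⟨k, hk⟩ := IsPGroup.iff_card.mp (Grp.elemAb_isPGroup hel)
    rw [hk] at hB ⊢
    exact Nat.pow_le_pow_right hp.out.pos ((Nat.pow_lt_pow_iff_right hp.out.one_lt).mp hB)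
  · rintro ⟨B, hBX, hB, hc⟩ h
    have h1 := h (B.subgroupOf X) (Transfer.Thompson.isElementaryAbelian_subgroupOf hB).1
      (Transfer.Thompson.isElementaryAbelian_subgroupOf hB).2
    rw [Nat.card_congr (Subgroup.subgroupOfEquivOfLe hBX).toEquiv] at h1
    exact absurd (hc.trans h1) (not_le.mpr (Nat.pow_lt_pow_right hp.out.one_lt (by norm_num)))

theorem elemAb_sup {E F : Subgroup G} (hE : Cfsg.IsElementaryAbelian p E)
    (hF : Cfsg.IsElementaryAbelian p F) (h : ∀ a ∈ E, ∀ b ∈ F, a * b = b * a) :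
    Cfsg.IsElementaryAbelian p (E ⊔ F : Subgroup G) := by
  rw [Subgroup.sup_eq_closure]
  refine Transfer.Thompson.isElementaryAbelian_closure ?_ ?_
  · rintro a (ha | ha) b (hb | hb)
    · exact Grp.elemAb_comm hE a ha b hb
    · exact h a ha b hb
    · exact (h b hb a ha).symm
    · exact Grp.elemAb_comm hF a ha b hb
  · rintro a (ha | ha)
    · exact hE.2 a ha
    · exact hF.2 a ha

theorem qualifies {A : Subgroup G} (hA : Cfsg.IsElementaryAbelian p A) (h3 : p ^ 3 ≤ Nat.card A)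
    {a : G} (ha : a ∈ A) (ha1 : a ≠ 1) :
    orderOf a = p ∧ ¬ Cfsg.PRankLE p 2 ↥(centralizer ({a} : Set G)) := by
  refine ⟨orderOf_eq_prime (hA.2 a ha) ha1, not_prankLE_two.mpr ⟨A, fun x hx => ?_, hA, h3⟩⟩
  exact mem_centralizer_iff.mpr fun y hy => by
    rw [Set.mem_singleton_iff] at hy
    subst hy
    exact Grp.elemAb_comm hA _ ha _ hx

variable (θ : G → Subgroup G)
  (hC : ∀ a : G, (orderOf a = p ∧ ¬ Cfsg.PRankLE p 2 ↥(centralizer ({a} : Set G))) →
    θ a ≤ centralizer ({a} : Set G) ∧ ¬ p ∣ Nat.card ↥(θ a) ∧ Group.IsSolvable ↥(θ a))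
  (heq : ∀ a g : G, (orderOf a = p ∧ ¬ Cfsg.PRankLE p 2 ↥(centralizer ({a} : Set G))) →
    θ (g * a * g⁻¹) = (θ a).map (MulAut.conj g).toMonoidHom)
  (hbal : ∀ a b : G, (orderOf a = p ∧ ¬ Cfsg.PRankLE p 2 ↥(centralizer ({a} : Set G))) →
    (orderOf b = p ∧ ¬ Cfsg.PRankLE p 2 ↥(centralizer ({b} : Set G))) →
    a * b = b * a → θ a ⊓ centralizer {b} ≤ θ b)

include hC heq hbal

theorem functor_of_rank_three {A : Subgroup G} (hA : Cfsg.IsElementaryAbelian p A)
    (h3 : p ^ 3 ≤ Nat.card A) : Cfsg.IsSolvableSignalizerFunctor p A θ := by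
  refine ⟨⟨fun a ha ha1 => (hC a (qualifies hA h3 ha ha1)).1, fun a ha ha1 => (hC a (qualifies hA h3 ha ha1)).2.1,
    fun a ha ha1 b hb x hx => ?_, fun a ha ha1 b hb hb1 =>
      hbal a b (qualifies hA h3 ha ha1) (qualifies hA h3 hb hb1) (Grp.elemAb_comm hA a ha b hb)⟩,
    fun a ha ha1 => (hC a (qualifies hA h3 ha ha1)).2.2⟩
  have e := heq a b (qualifies hA h3 ha ha1)
  rw [Grp.elemAb_comm hA b hb a ha, mul_inv_cancel_right] at e
  rw [e]
  exact ⟨x, hx, rfl⟩

theorem closure_eq_of_le {A E : Subgroup G} (hA : Cfsg.IsElementaryAbelian p A) (h3 : p ^ 3 ≤ Nat.card A)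
    (hEA : E ≤ A) (hE : p ^ 2 ≤ Nat.card E) :
    Cfsg.signalizerClosure E θ = Cfsg.signalizerClosure A θ := by
  have hF := functor_of_rank_three θ hC heq hbal hA h3
  obtain ⟨-, hcard, hinv, hfix⟩ := closure_complete hA h3 hF
  refine le_antisymm (iSup_le fun e =>
    le_iSup (fun a : {a : G // a ∈ A ∧ a ≠ 1} => θ a) ⟨e, hEA e.2.1, e.2.2⟩) ?_
  have hEel : Cfsg.IsElementaryAbelian p E :=
    ⟨⟨⟨fun x y => Subtype.ext (Grp.elemAb_comm hA _ (hEA x.2) _ (hEA y.2))⟩⟩, fun a ha => hA.2 a (hEA ha)⟩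
  refine Grp.le_of_hyperplanes hEel (Grp.ne_bot_of_card (by norm_num) hE) _ hcard (hEA.trans hinv) fun D hD hi => ?_
  obtain ⟨a, ha, ha1⟩ : ∃ a ∈ D, a ≠ 1 := by
    by_contra h0
    push Not at h0
    rw [(Subgroup.eq_bot_iff_forall D).mpr h0, Subgroup.relIndex_bot_left] at hi
    rw [hi] at hE
    exact absurd hE (not_le.mpr (lt_self_pow₀ hp.out.one_lt (by norm_num)))
  refine (inf_le_inf_left _ (centralizer_le (Set.singleton_subset_iff.mpr ha))).trans ?_
  rw [hfix a (hEA (hD ha)) ha1]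
  exact le_iSup (fun b : {b : G // b ∈ E ∧ b ≠ 1} => θ b) ⟨a, hD ha, ha1⟩

theorem vertex_extends {E : Subgroup G} (hE : Cfsg.IsRankGraphVertex p 2 E) :
    ∃ A : Subgroup G, E ≤ A ∧ Cfsg.IsElementaryAbelian p A ∧ p ^ 3 ≤ Nat.card A := by
  obtain ⟨B, hB, hBel, hBc⟩ := not_prankLE_two.mp hE.2.2
  exact ⟨E ⊔ B, le_sup_left, elemAb_sup hE.1 hBel fun a ha b hb => mem_centralizer_iff.mp (hB hb) a ha,
    hBc.trans (Subgroup.card_le_of_le le_sup_right)⟩

theorem closure_step {E F : Subgroup G} (hE : Cfsg.IsRankGraphVertex p 2 E)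
    (hF : Cfsg.IsRankGraphVertex p 2 F) (h : ∀ a ∈ E, ∀ b ∈ F, a * b = b * a) :
    Cfsg.signalizerClosure E θ = Cfsg.signalizerClosure F θ := by
  have hel := elemAb_sup hE.1 hF.1 h
  obtain ⟨k, hk⟩ := IsPGroup.iff_card.mp (Grp.elemAb_isPGroup hel)
  by_cases h3 : p ^ 3 ≤ Nat.card (E ⊔ F : Subgroup G)
  · rw [closure_eq_of_le θ hC heq hbal hel h3 le_sup_left hE.2.1,
      closure_eq_of_le θ hC heq hbal hel h3 le_sup_right hF.2.1]
  · have h2 : Nat.card (E ⊔ F : Subgroup G) ≤ p ^ 2 := by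
      rw [hk] at h3 ⊢
      exact Nat.pow_le_pow_right hp.out.pos
        (Nat.lt_succ_iff.mp ((Nat.pow_lt_pow_iff_right hp.out.one_lt).mp (not_le.mp h3)))
    exact congrArg (fun X => Cfsg.signalizerClosure X θ)
      ((Subgroup.eq_of_le_of_card_ge (le_sup_left : E ≤ E ⊔ F) (h2.trans hE.2.1)).trans
        (Subgroup.eq_of_le_of_card_ge (le_sup_right : F ≤ E ⊔ F) (h2.trans hF.2.1)).symm)

theorem theta_eq_bot (hO : Cfsg.pPrimeCore p G = ⊥) (hconn : Cfsg.IsRankGraphConnected p 2 G) (a : G)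
    (ha : orderOf a = p ∧ ¬ Cfsg.PRankLE p 2 ↥(centralizer ({a} : Set G))) : θ a = ⊥ := by
  have hvert : ∀ {A : Subgroup G}, Cfsg.IsElementaryAbelian p A → p ^ 3 ≤ Nat.card A →
      Cfsg.IsRankGraphVertex p 2 A := fun {A} hA h3 =>
    ⟨hA, (Nat.pow_le_pow_right hp.out.pos (by norm_num)).trans h3, not_prankLE_two.mpr
      ⟨A, fun x hx => mem_centralizer_iff.mpr fun y hy => Grp.elemAb_comm hA y hy x hx, hA, h3⟩⟩
  obtain ⟨B, hB, hBel, hBc⟩ := not_prankLE_two.mp ha.2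
  have hzel : Cfsg.IsElementaryAbelian p (zpowers a) := by
    refine Transfer.Thompson.isElementaryAbelian_of (fun x hx y hy => ?_) fun x hx => ?_
    · obtain ⟨i, rfl⟩ := hx
      obtain ⟨j, rfl⟩ := hy
      exact ((Commute.refl a).zpow_zpow i j).eq
    · obtain ⟨i, rfl⟩ := hx
      show (a ^ i) ^ p = 1
      rw [← zpow_natCast, ← zpow_mul, mul_comm, zpow_mul, zpow_natCast, ← ha.1, pow_orderOf_eq_one, one_zpow]
  set A := zpowers a ⊔ B
  have hA : Cfsg.IsElementaryAbelian p A := elemAb_sup hzel hBel fun x hx y hy => by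
    obtain ⟨i, rfl⟩ := hx
    exact ((show Commute a y from mem_centralizer_iff.mp (hB hy) a rfl).zpow_left i).eq
  have h3 : p ^ 3 ≤ Nat.card A := hBc.trans (Subgroup.card_le_of_le le_sup_right)
  set W := Cfsg.signalizerClosure A θ
  have hconst : ∀ E, Cfsg.IsRankGraphVertex p 2 E → Cfsg.signalizerClosure E θ = W := by
    intro E hE
    induction hconn A E (hvert hA h3) hE with
    | refl => rfl
    | tail _ hst ih =>
      obtain ⟨h1, h2, h⟩ := hst
      exact (closure_step θ hC heq hbal h1 h2 h).symm.trans (ih h1)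
  have hnorm : ∀ g : G, g ∈ normalizer (W : Set G) := by
    intro g
    have hA' : Cfsg.IsElementaryAbelian p (A.map (MulAut.conj g).toMonoidHom) :=
      Transfer.Thompson.isElementaryAbelian_map _ hA
    have h3' : p ^ 3 ≤ Nat.card (A.map (MulAut.conj g).toMonoidHom) := by
      rwa [Subgroup.card_map_of_injective (f := (MulAut.conj g).toMonoidHom) (MulAut.conj g).injective]
    refine Grp.mem_normalizer_iff_smul.mpr (Subgroup.eq_of_le_of_card_ge ?_ (Grp.card_conj_smul _ _).ge)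
    conv_rhs => rw [← hconst _ (hvert hA' h3')]
    rw [← Grp.map_conj_eq_smul]
    show (⨆ b : {b : G // b ∈ A ∧ b ≠ 1}, θ b).map (MulAut.conj g).toMonoidHom ≤ _
    rw [Subgroup.map_iSup]
    refine iSup_le fun b => ?_
    rw [← heq b g (qualifies hA h3 b.2.1 b.2.2)]
    exact le_iSup (fun c : {c : G // c ∈ A.map (MulAut.conj g).toMonoidHom ∧ c ≠ 1} => θ c)
      ⟨g * b * g⁻¹, ⟨b, b.2.1, rfl⟩, fun e => b.2.2 (mul_eq_left.mp (mul_inv_eq_one.mp e))⟩
  have hWn : W.Normal := ⟨fun x hx g => Grp.mem_conj_normalizer (hnorm g) hx⟩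
  have hcard := (closure_complete hA h3 (functor_of_rank_three θ hC heq hbal hA h3)).2.1
  have hW : W ≤ Cfsg.pPrimeCore p G := le_sSup
    (show W ∈ {N : Subgroup G | N.Normal ∧ (Nat.card N).Coprime p} from
      ⟨hWn, (hp.out.coprime_iff_not_dvd.mpr hcard).symm⟩)
  have ha1 : a ≠ 1 := fun e => hp.out.one_lt.ne (by rw [← ha.1, e, orderOf_one])
  have h := (le_iSup (fun b : {b : G // b ∈ A ∧ b ≠ 1} => θ b)
    ⟨a, mem_sup_left (mem_zpowers a), ha1⟩).trans hW
  rwa [hO, le_bot_iff] at h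

end Cfsg.Agent.Transfer.SFT
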